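import Groth.Agent.Lib.RGProj13.Descend
import Groth.Agent.Lib.SmoothRank4.Ring
import Groth.Agent.Lib.SepField.Smooth

/-!
# Flat finitely presented algebras with geometrically integral fibres are projective
-/

set_option autoImplicit false
set_option linter.style.haveILetI false

universe u

open TensorProduct

namespace GrothLib.RGProj13

/-- The generic point of a geometrically integral algebra over a field is a smooth point. -/
theorem isSmoothAt_bot {k F : Type u} [Field k] [CommRing F] [Algebra k F] [Algebra.FinitePresentation k F]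
    (h : ∀ (K : Type u) [Field K] [Algebra k K], IsDomain (K ⊗[k] F)) [(⊥ : Ideal F).IsPrime] :
    Algebra.IsSmoothAt k (⊥ : Ideal F) := by
  let L := Localization.AtPrime (⊥ : Ideal F)
  haveI : IsDomain F :=
    haveI := h k
    (Algebra.TensorProduct.lid k F).symm.toMulEquiv.isDomain
  haveI : IsFractionRing F L := by
    change IsLocalization (nonZeroDivisors F) L
    rw [← (Ideal.primeCompl_bot : (⊥ : Ideal F).primeCompl = nonZeroDivisors F)]
    infer_instance
  letI : Field L := IsFractionRing.toField F
  let K := AlgebraicClosure k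
  haveI := h K
  haveI : Algebra.IsGeometricallyReduced k L := by
    rw [Algebra.isGeometricallyReduced_field_iff]
    let M := (⊥ : Ideal F).primeCompl.map (Algebra.TensorProduct.includeRight (R := k) (A := K) (B := F))
    let e := IsLocalization.tensorProductEquivOfMapIncludeRight k K (⊥ : Ideal F).primeCompl L (Localization M)
    exact isReduced_of_injective e e.injective
  exact GrothLib.SepField.formallySmooth_iff_isGeometricallyReduced.mpr inferInstance

variable {R B : Type u} [CommRing R] [CommRing B] [Algebra R B] [Algebra.FinitePresentation R B] [Module.Flat R B]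

/-- Near every point of the base there is a fibrewise dense smooth principal open. -/
theorem exists_smooth_dense (hgi : FlatCA.GeomIntegralFibres R B) (p : Ideal R) [p.IsPrime] :
    ∃ f ∉ p, ∃ g : B, Algebra.Smooth R (Localization.Away g) ∧ FibrewiseDense f g := by
  letI : Algebra B (p.Fiber B) := Algebra.TensorProduct.rightAlgebra
  haveI : IsDomain (p.Fiber B) := isDomain_tensor hgi p.ResidueField
  haveI : (⊥ : Ideal (p.Fiber B)).IsPrime := Ideal.isPrime_bot
  have hK : ∀ (K : Type u) [Field K] [Algebra p.ResidueField K], IsDomain (K ⊗[p.ResidueField] p.Fiber B) := by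
    intro K _ _
    letI : Algebra R K := ((algebraMap p.ResidueField K).comp (algebraMap R p.ResidueField)).toAlgebra
    haveI : IsScalarTower R p.ResidueField K := IsScalarTower.of_algebraMap_eq fun _ => rfl
    haveI := isDomain_tensor hgi K
    exact (Algebra.TensorProduct.cancelBaseChange R p.ResidueField K K B).toMulEquiv.isDomain
  haveI hsm : Algebra.IsSmoothAt p.ResidueField (⊥ : Ideal (p.Fiber B)) := isSmoothAt_bot hK
  let inc : B →ₐ[R] p.Fiber B := Algebra.TensorProduct.includeRight
  let q : Ideal B := (⊥ : Ideal (p.Fiber B)).comap inc.toRingHom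
  have hqp : q.comap (algebraMap R B) = p := by
    have h : inc.toRingHom.comp (algebraMap R B) = algebraMap R (p.Fiber B) := RingHom.ext fun x => inc.commutes x
    show ((⊥ : Ideal (p.Fiber B)).comap inc.toRingHom).comap (algebraMap R B) = p
    rw [Ideal.comap_comap, h, IsScalarTower.algebraMap_eq R p.ResidueField, ← Ideal.comap_comap,
      ← RingHom.ker_eq_comap_bot,
      (RingHom.injective_iff_ker_eq_bot _).1 (algebraMap p.ResidueField (p.Fiber B)).injective]
    exact Ideal.ker_algebraMap_residueField _
  haveI : q.LiesOver p := ⟨hqp.symm⟩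
  haveI : Algebra.IsSmoothAt R q :=
    GrothLib.SmoothRank4.isSmoothAt_of_fiber p q ⟨⊥, inferInstance⟩ rfl
  obtain ⟨g, hgq, hsmg⟩ := Algebra.IsSmoothAt.exists_notMem_smooth R q
  have hopen : IsOpen (PrimeSpectrum.comap (algebraMap R B) '' (PrimeSpectrum.basicOpen g : Set (PrimeSpectrum B))) :=
    PrimeSpectrum.isOpenMap_comap_of_hasGoingDown_of_finitePresentation _ (PrimeSpectrum.basicOpen g).isOpen
  obtain ⟨_, ⟨f, rfl⟩, hfp, hfsub⟩ := PrimeSpectrum.isTopologicalBasis_basic_opens.exists_subset_of_mem_open
    (show (⟨p, inferInstance⟩ : PrimeSpectrum R) ∈ PrimeSpectrum.comap (algebraMap R B) '' (PrimeSpectrum.basicOpen g : Set (PrimeSpectrum B)) from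
      ⟨⟨q, inferInstance⟩, hgq, PrimeSpectrum.ext hqp⟩) hopen
  refine ⟨f, hfp, g, hsmg, fun p' hp' hf => ?_⟩
  obtain ⟨Q, hgQ, hQ⟩ := hfsub (show (⟨p', hp'⟩ : PrimeSpectrum R) ∈ (PrimeSpectrum.basicOpen f : Set (PrimeSpectrum R)) from hf)
  exact ⟨Q.asIdeal, Q.2, congrArg PrimeSpectrum.asIdeal hQ, hgQ⟩

/-- **A flat finitely presented algebra with geometrically integral fibres is projective.** -/
theorem projective_of_flat (hgi : FlatCA.GeomIntegralFibres R B) : Module.Projective R B := by
  refine projective_of_local fun p _ => ?_
  obtain ⟨f, hf, g, hsm, hg⟩ := exists_smooth_dense hgi p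
  refine ⟨f, hf, ?_⟩
  let A' := Localization.Away f
  let B1 := Localization.Away g
  let B2 := Localization.Away (algebraMap R B1 f)
  haveI : IsLocalization.Away (algebraMap B B1 (algebraMap R B f)) B2 := by
    rw [← IsScalarTower.algebraMap_apply]; infer_instance
  haveI : IsLocalization.Away (g * algebraMap R B f) B2 := IsLocalization.Away.mul' B1 B2 g (algebraMap R B f)
  have hu : IsUnit (algebraMap R B2 f) := by
    rw [IsScalarTower.algebraMap_apply R B1 B2]; exact IsLocalization.Away.algebraMap_isUnit _
  letI : Algebra A' B2 := (IsLocalization.Away.lift (S := A') f hu).toAlgebra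
  haveI : IsScalarTower R A' B2 :=
    IsScalarTower.of_algebraMap_eq fun r => (IsLocalization.Away.lift_eq f hu r).symm
  haveI := hsm
  haveI : Algebra.Smooth B1 B2 := Algebra.Smooth.of_isLocalization_Away (algebraMap R B1 f)
  haveI : Algebra.Smooth R B2 := Algebra.Smooth.comp R B1 B2
  haveI : Algebra.FormallyUnramified R A' := Algebra.FormallyUnramified.of_isLocalization (Submonoid.powers f)
  haveI : Algebra.FiniteType R A' := inferInstance
  haveI : Algebra.Smooth A' B2 :=
    ⟨Algebra.FormallySmooth.of_restrictScalars (R := R) (A := A') (B := B2),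
      Algebra.FinitePresentation.of_restrict_scalars_finitePresentation R A' B2⟩
  haveI : Module.Projective A' B2 :=
    projective_of_smooth (geomIntegralFibres_open A' B2 f (g * algebraMap R B f) hgi hg.mul)
  exact projective_open A' B2 f (g * algebraMap R B f) hgi hg.mul (GrothLib.ML.ml_of_projective B2)

end GrothLib.RGProj13
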