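import Groth.Agent.Lib.RGProj13.Noeth
import Groth.Agent.Lib.SecComp6.Smooth
import Groth.Agent.Lib.SecComp6.BaseChange
import Groth.Agent.Lib.SecLocus.Connected
import Groth.Agent.Lib.ProjDescent.Main

/-!
# Smooth algebras with geometrically integral fibres are projective
-/

set_option autoImplicit false
set_option linter.style.haveILetI false

universe u

open TensorProduct AlgebraicGeometry CategoryTheory CategoryTheory.Limits

namespace GrothLib.RGProj13

/-- Geometric integrality along an isomorphism. -/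
theorem geomIntegralFibres_congr {R B C : Type u} [CommRing R] [CommRing B] [CommRing C] [Algebra R B] [Algebra R C]
    (e : B ≃ₐ[R] C) (hgi : FlatCA.GeomIntegralFibres R B) : FlatCA.GeomIntegralFibres R C :=
  GrothLib.RG6.Geom.geomIntegralFibres_of_isDomain fun K _ _ =>
    haveI := isDomain_tensor hgi K
    (Algebra.TensorProduct.congr (AlgEquiv.refl : K ≃ₐ[R] K) e).symm.toMulEquiv.isDomain

theorem geomIntegralFibres_baseChange {R B : Type u} [CommRing R] [CommRing B] [Algebra R B] (A : Type u) [CommRing A]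
    [Algebra R A] (hgi : FlatCA.GeomIntegralFibres R B) : FlatCA.GeomIntegralFibres A (A ⊗[R] B) :=
  GrothLib.RG6.Geom.geomIntegralFibres_of_isDomain fun K _ _ => by
    letI : Algebra R K := ((algebraMap A K).comp (algebraMap R A)).toAlgebra
    haveI : IsScalarTower R A K := IsScalarTower.of_algebraMap_eq fun _ => rfl
    haveI := isDomain_tensor hgi K
    exact (Algebra.TensorProduct.cancelBaseChange R A K K B).toMulEquiv.isDomain

/-- The section components of a section, on prime spectra. -/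
def secComp {A B : Type u} [CommRing A] [CommRing B] [Algebra A B] (σ : B →ₐ[A] A) :
    Set (Spec (CommRingCat.of B)) :=
  MoreMor.sectionComponents (Spec.map (CommRingCat.ofHom (algebraMap A B))) (Spec.map (CommRingCat.ofHom σ.toRingHom))

theorem comp_section {A B : Type u} [CommRing A] [CommRing B] [Algebra A B] (σ : B →ₐ[A] A) :
    Spec.map (CommRingCat.ofHom σ.toRingHom) ≫ Spec.map (CommRingCat.ofHom (algebraMap A B)) = 𝟙 _ := by
  have h : σ.toRingHom.comp (algebraMap A B) = RingHom.id A := RingHom.ext σ.commutes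
  rw [← Spec.map_comp, ← CommRingCat.ofHom_comp, h, CommRingCat.ofHom_id, Spec.map_id]

theorem isOpen_secComp {A B : Type u} [CommRing A] [CommRing B] [Algebra A B] [Algebra.Smooth A B]
    (σ : B →ₐ[A] A) : IsOpen (secComp σ) := by
  haveI : Smooth (Spec.map (CommRingCat.ofHom (algebraMap A B))) := by
    rw [HasRingHomProperty.Spec_iff (P := @Smooth)]
    exact RingHom.smooth_algebraMap.mpr ‹_›
  exact GrothLib.SecComp6.isOpen_sectionComponents_smooth _ _ (comp_section σ)

/-- The base change of a section. -/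
noncomputable def secBC {A B : Type u} [CommRing A] [CommRing B] [Algebra A B] (A' : Type u) [CommRing A']
    [Algebra A A'] (σ : B →ₐ[A] A) : A' ⊗[A] B →ₐ[A'] A' :=
  Algebra.TensorProduct.lift (AlgHom.id A' A') ((Algebra.ofId A A').comp σ) fun _ _ => Commute.all _ _

theorem secComp_baseChange {A B : Type u} [CommRing A] [CommRing B] [Algebra A B] (A' : Type u) [CommRing A']
    [Algebra A A'] (σ : B →ₐ[A] A) :
    secComp (secBC A' σ) = Spec.map (CommRingCat.ofHom
      (Algebra.TensorProduct.includeRight : B →ₐ[A] A' ⊗[A] B).toRingHom) ⁻¹' secComp σ := by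
  refine GrothLib.SecComp6.sectionComponents_baseChange _ _ (comp_section σ) _ _
    (Spec.map (CommRingCat.ofHom (algebraMap A A')))
    (isPullback_SpecMap_of_isPushout _ _ _ _ (CommRingCat.isPushout_tensorProduct A A' B)).flip
    _ (comp_section (secBC A' σ)) ?_
  rw [← Spec.map_comp, ← Spec.map_comp, ← CommRingCat.ofHom_comp, ← CommRingCat.ofHom_comp]
  congr 2
  refine RingHom.ext fun b => ?_
  show secBC A' σ ((1 : A') ⊗ₜ[A] b) = algebraMap A A' (σ b)
  simp [secBC, Algebra.ofId_apply]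

theorem secComp_eq_univ {A B : Type u} [CommRing A] [CommRing B] [Algebra A B]
    (hgi : FlatCA.GeomIntegralFibres A B) (σ : B →ₐ[A] A) : secComp σ = Set.univ := by
  refine Set.eq_univ_of_forall fun x => ?_
  let f := Spec.map (CommRingCat.ofHom (algebraMap A B))
  let s := Spec.map (CommRingCat.ofHom σ.toRingHom)
  haveI : IsIntegral (f.fiber (f x)) := hgi.geometrically_isIntegral _ _ _ (IsPullback.of_hasPullback f _)
  have hpre : _root_.IsPreconnected (f ⁻¹' {f x}) := by
    rw [← f.range_fiberι (f x)]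
    exact isPreconnected_range (f.fiberι (f x)).continuous
  show x ∈ connectedComponentIn (f ⁻¹' {f x}) (s (f x))
  exact hpre.subset_connectedComponentIn
    (show f (s (f x)) = f x by rw [← Scheme.Hom.comp_apply, comp_section σ]; rfl) subset_rfl rfl

theorem connectedSpace_of_secComp {K B : Type u} [Field K] [CommRing B] [Algebra K B] (σ : B →ₐ[K] K)
    (h : secComp σ = Set.univ) : ConnectedSpace (PrimeSpectrum B) := by
  let f := Spec.map (CommRingCat.ofHom (algebraMap K B))
  let s := Spec.map (CommRingCat.ofHom σ.toRingHom)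
  haveI : Subsingleton ↥(Spec (CommRingCat.of K)) := inferInstanceAs (Subsingleton (PrimeSpectrum K))
  let y : Spec (CommRingCat.of K) := (⟨⊥, Ideal.isPrime_bot⟩ : PrimeSpectrum K)
  have hpre : f ⁻¹' {y} = Set.univ := Set.eq_univ_of_forall fun z => Subsingleton.elim (f z) y
  have hcc : connectedComponentIn (Set.univ : Set ↥(Spec (CommRingCat.of B))) (s y) = Set.univ := by
    refine Set.eq_univ_of_forall fun x => ?_
    have hx : x ∈ connectedComponentIn (f ⁻¹' {f x}) (s (f x)) := h.ge (Set.mem_univ x)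
    rwa [Subsingleton.elim (f x) y, hpre] at hx
  have hp : _root_.IsPreconnected (Set.univ : Set ↥(Spec (CommRingCat.of B))) := hcc ▸ isPreconnected_connectedComponentIn
  haveI : Nonempty (PrimeSpectrum B) := ⟨s y⟩
  exact { isPreconnected_univ := hp, toNonempty := inferInstance }

theorem mem_secComp_baseChange {A B : Type u} [CommRing A] [CommRing B] [Algebra A B] (A' : Type u) [CommRing A']
    [Algebra A A'] (σ : B →ₐ[A] A) (J : Ideal B)
    (hJ : PrimeSpectrum.zeroLocus (J : Set B) = ((secComp σ : Set (PrimeSpectrum B))ᶜ : Set (PrimeSpectrum B)))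
    (P : PrimeSpectrum (A' ⊗[A] B)) :
    P ∈ secComp (secBC A' σ) ↔
      ¬ J.map (Algebra.TensorProduct.includeRight : B →ₐ[A] A' ⊗[A] B).toRingHom ≤ P.asIdeal := by
  let φ := (Algebra.TensorProduct.includeRight : B →ₐ[A] A' ⊗[A] B).toRingHom
  rw [secComp_baseChange, Ideal.map_le_iff_le_comap]
  have h : PrimeSpectrum.comap φ P ∈ PrimeSpectrum.zeroLocus (J : Set B) ↔
      ¬ PrimeSpectrum.comap φ P ∈ (secComp σ : Set (PrimeSpectrum B)) := by rw [hJ]; exact Iff.rfl
  exact ⟨fun hm hle => h.1 hle hm, fun hn => by_contra fun hm => hn (h.2 hm)⟩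

theorem exists_fg_mem_range {R₀ R B₀ : Type u} [CommRing R₀] [CommRing R] [CommRing B₀] [Algebra R₀ R] [Algebra R₀ B₀]
    {n : ℕ} (c : Fin n → R ⊗[R₀] B₀) :
    ∃ T : Subalgebra R₀ R, T.FG ∧ ∀ i, c i ∈ Set.range (Algebra.TensorProduct.map T.val (AlgHom.id R₀ B₀)) := by
  classical
  choose S hS using fun i => TensorProduct.exists_finset (c i)
  let F : Finset R := Finset.univ.biUnion fun i => (S i).image Prod.fst
  refine ⟨Algebra.adjoin R₀ (F : Set R), Subalgebra.fg_adjoin_finset F, fun i => ?_⟩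
  have hmem : ∀ p ∈ S i, p.1 ∈ Algebra.adjoin R₀ (F : Set R) := fun p hp =>
    Algebra.subset_adjoin (Finset.mem_coe.2 (Finset.mem_biUnion.2 ⟨i, Finset.mem_univ _, Finset.mem_image_of_mem _ hp⟩))
  refine ⟨∑ p ∈ (S i).attach, (⟨p.1.1, hmem p.1 p.2⟩ : Algebra.adjoin R₀ (F : Set R)) ⊗ₜ p.1.2, ?_⟩
  rw [map_sum, hS i, ← Finset.sum_attach (S i)]
  exact Finset.sum_congr rfl fun p _ => rfl

theorem projective_baseChange_of_model {R₀ R B₀ : Type u} [CommRing R₀] [IsNoetherianRing R₀] [CommRing R]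
    [CommRing B₀] [Algebra R₀ R] [Algebra R₀ B₀] [Algebra.Smooth R₀ B₀] (σ₀ : B₀ →ₐ[R₀] R₀)
    (hgi : FlatCA.GeomIntegralFibres R (R ⊗[R₀] B₀)) : Module.Projective R (R ⊗[R₀] B₀) := by
  classical
  haveI : IsNoetherianRing B₀ := Algebra.FiniteType.isNoetherianRing R₀ B₀
  let C : Set (PrimeSpectrum B₀) := secComp σ₀
  have hC : IsClosed Cᶜ := (isOpen_secComp σ₀).isClosed_compl
  let J : Ideal B₀ := PrimeSpectrum.vanishingIdeal Cᶜ
  have hJ : PrimeSpectrum.zeroLocus (J : Set B₀) = Cᶜ := by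
    rw [PrimeSpectrum.zeroLocus_vanishingIdeal_eq_closure, hC.closure_eq]
  have hbc := fun (A : Type u) [CommRing A] [Algebra R₀ A] (P : PrimeSpectrum (A ⊗[R₀] B₀)) =>
    mem_secComp_baseChange A σ₀ J hJ P
  have htop : J.map (Algebra.TensorProduct.includeRight : B₀ →ₐ[R₀] R ⊗[R₀] B₀).toRingHom = ⊤ := by
    by_contra hne
    obtain ⟨m, hm, hle⟩ := Ideal.exists_le_maximal _ hne
    exact (hbc R ⟨m, hm.isPrime⟩).1 ((secComp_eq_univ hgi _).ge (Set.mem_univ _)) hle
  obtain ⟨n, j, hj⟩ := Submodule.fg_iff_exists_fin_generating_family.1 (IsNoetherian.noetherian J)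
  rw [← hj, Ideal.map_span, ← Set.range_comp, Ideal.eq_top_iff_one, Ideal.mem_span_range_iff_exists_fun] at htop
  obtain ⟨c, hc⟩ := htop
  obtain ⟨T, hT, hcT⟩ := exists_fg_mem_range c
  choose c' hc' using hcT
  haveI : Algebra.FiniteType R₀ T := T.fg_iff_finiteType.1 hT
  haveI : IsNoetherianRing T := Algebra.FiniteType.isNoetherianRing R₀ T
  have hinj : Function.Injective (Algebra.TensorProduct.map T.val (AlgHom.id R₀ B₀)) :=
    Module.Flat.rTensor_preserves_injective_linearMap (M := B₀) T.val.toLinearMap Subtype.coe_injective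
  have hT1 : J.map (Algebra.TensorProduct.includeRight : B₀ →ₐ[R₀] T ⊗[R₀] B₀).toRingHom = ⊤ := by
    rw [Ideal.eq_top_iff_one]
    have h1 : (1 : T ⊗[R₀] B₀) = ∑ i, c' i * (1 : T) ⊗ₜ j i := hinj (by
      rw [map_one, map_sum, ← hc]
      exact Finset.sum_congr rfl fun i _ => by rw [map_mul, hc']; rfl)
    rw [h1]
    exact Ideal.sum_mem _ fun i _ => Ideal.mul_mem_left _ _ (Ideal.mem_map_of_mem
      (Algebra.TensorProduct.includeRight : B₀ →ₐ[R₀] T ⊗[R₀] B₀).toRingHom (hj.le (Ideal.subset_span ⟨i, rfl⟩)))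
  have huniv : secComp (secBC T σ₀) = Set.univ := Set.eq_univ_of_forall fun P =>
    (hbc T P).2 fun hle => P.2.ne_top (top_le_iff.1 (hT1 ▸ hle))
  haveI : Algebra.Smooth T (T ⊗[R₀] B₀) := inferInstance
  have hgiT : FlatCA.GeomIntegralFibres T (T ⊗[R₀] B₀) := by
    refine GrothLib.RG6.Geom.geomIntegralFibres_of_isDomain fun K _ _ => ?_
    haveI : ConnectedSpace (PrimeSpectrum (K ⊗[T] (T ⊗[R₀] B₀))) := by
      refine connectedSpace_of_secComp (secBC K (secBC T σ₀)) ?_
      rw [secComp_baseChange, huniv, Set.preimage_univ]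
    haveI : Algebra.Smooth K (K ⊗[T] (T ⊗[R₀] B₀)) := inferInstance
    exact GrothLib.SecLocus.isDomain_of_smooth_connected K _
  haveI := projective_of_section hgiT (secBC T σ₀)
  exact Module.Projective.of_equiv (AlgebraTensorModule.cancelBaseChange R₀ T R R B₀)

theorem projective_of_factor {A₀ R1 R B₀ B : Type u} [CommRing A₀] [CommRing R1] [IsNoetherianRing R1] [CommRing R]
    [CommRing B₀] [CommRing B] [Algebra A₀ R1] [Algebra A₀ R] [Algebra R1 R] [IsScalarTower A₀ R1 R] [Algebra A₀ B₀]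
    [Algebra R B] [Algebra.Smooth A₀ B₀] (τ : B₀ →ₐ[A₀] R1) (e : B ≃ₐ[R] R ⊗[A₀] B₀)
    (hgi : FlatCA.GeomIntegralFibres R B) : Module.Projective R B := by
  let σ₁ : R1 ⊗[A₀] B₀ →ₐ[R1] R1 :=
    Algebra.TensorProduct.lift (AlgHom.id R1 R1) τ fun _ _ => Commute.all _ _
  let e₁ : R ⊗[R1] (R1 ⊗[A₀] B₀) ≃ₐ[R] B :=
    (Algebra.TensorProduct.cancelBaseChange A₀ R1 R R B₀).trans e.symm
  haveI := projective_baseChange_of_model (R := R) σ₁ (geomIntegralFibres_congr e₁.symm hgi)
  exact Module.Projective.of_equiv e₁.toLinearEquiv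

theorem projective_of_retraction {R B : Type u} [CommRing R] [CommRing B] [Algebra R B] [Algebra.Smooth R B]
    (hgi : FlatCA.GeomIntegralFibres R B) (σ : B →ₐ[R] R) : Module.Projective R B := by
  classical
  obtain ⟨A₀, B₀, _, _, hfg, hsm, ⟨e⟩⟩ := Algebra.Smooth.exists_subalgebra_fg ℤ R B
  haveI := hsm
  haveI : Algebra.FiniteType ℤ A₀ := A₀.fg_iff_finiteType.1 hfg
  haveI : IsNoetherianRing A₀ := Algebra.FiniteType.isNoetherianRing ℤ A₀
  let τ : B₀ →ₐ[A₀] R :=
    ((σ.comp e.symm.toAlgHom).restrictScalars A₀).comp Algebra.TensorProduct.includeRight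
  obtain ⟨s, hs⟩ := (Algebra.FiniteType.out : (⊤ : Subalgebra A₀ B₀).FG)
  let R1 : Subalgebra A₀ R := Algebra.adjoin A₀ ↑(s.image τ)
  haveI : Algebra.FiniteType A₀ R1 := R1.fg_iff_finiteType.1 (Subalgebra.fg_adjoin_finset _)
  haveI : IsNoetherianRing R1 := Algebra.FiniteType.isNoetherianRing A₀ R1
  have hτ : ∀ b, τ b ∈ R1 := fun b => by
    have h : τ b ∈ (⊤ : Subalgebra A₀ B₀).map τ := ⟨b, trivial, rfl⟩
    rwa [← hs, AlgHom.map_adjoin, ← Finset.coe_image] at h
  exact projective_of_factor (τ.codRestrict R1 hτ) e hgi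

theorem faithfullyFlat_of_geomIntegralFibres {R B : Type u} [CommRing R] [CommRing B] [Algebra R B] [Module.Flat R B]
    (hgi : FlatCA.GeomIntegralFibres R B) : Module.FaithfullyFlat R B := by
  refine Module.FaithfullyFlat.of_comap_surjective fun p => ?_
  haveI := isDomain_tensor hgi p.asIdeal.ResidueField
  let P : PrimeSpectrum (p.asIdeal.ResidueField ⊗[R] B) := ⟨⊥, Ideal.isPrime_bot⟩
  refine ⟨PrimeSpectrum.comap Algebra.TensorProduct.includeRight.toRingHom P, PrimeSpectrum.ext ?_⟩
  show ((⊥ : Ideal (p.asIdeal.ResidueField ⊗[R] B)).comap _).comap _ = p.asIdeal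
  rw [Ideal.comap_comap]
  have h : (Algebra.TensorProduct.includeRight : B →ₐ[R] p.asIdeal.ResidueField ⊗[R] B).toRingHom.comp (algebraMap R B) =
      algebraMap R (p.asIdeal.ResidueField ⊗[R] B) :=
    RingHom.ext fun x => (Algebra.TensorProduct.includeRight : B →ₐ[R] p.asIdeal.ResidueField ⊗[R] B).commutes x
  erw [h]
  rw [
    IsScalarTower.algebraMap_eq R p.asIdeal.ResidueField, ← Ideal.comap_comap,
    ← RingHom.ker_eq_comap_bot, (RingHom.injective_iff_ker_eq_bot _).1 (algebraMap p.asIdeal.ResidueField (p.asIdeal.ResidueField ⊗[R] B)).injective]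
  exact Ideal.ker_algebraMap_residueField _

/-- **A smooth algebra with geometrically integral fibres is projective.** -/
theorem projective_of_smooth {R B : Type u} [CommRing R] [CommRing B] [Algebra R B] [Algebra.Smooth R B]
    (hgi : FlatCA.GeomIntegralFibres R B) : Module.Projective R B := by
  haveI := faithfullyFlat_of_geomIntegralFibres hgi
  haveI : Algebra.Smooth B (B ⊗[R] B) := inferInstance
  haveI : Module.Projective B (B ⊗[R] B) := projective_of_retraction (geomIntegralFibres_baseChange B hgi)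
    (Algebra.TensorProduct.lift (AlgHom.id B B) (AlgHom.id R B) fun _ _ => Commute.all _ _)
  exact GrothLib.ProjDescent.projective_of_faithfullyFlat B B

end GrothLib.RGProj13
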