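import Groth.Agent.Lib.RGProj13.Chain
import Groth.Agent.Lib.RGProj13.Descend
import Groth.Agent.Lib.RG6.Dev.FlatIff

/-!
# Consequences of complete dévissages
-/

set_option autoImplicit false
set_option linter.style.haveILetI false

universe u

open TensorProduct FlatCA

namespace GrothLib.RGProj13

variable {R S : Type u} [CommRing R] [CommRing S] [Algebra R S]
  {N : Type u} [AddCommGroup N] [Module S N] {rr : Ideal R} [rr.IsPrime] (D : CompleteDevissage R S N rr)

instance (i : ℕ) : IsScalarTower R (D.A i) (D.M i) := IsScalarTower.of_algebraMap_smul fun r x => by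
  rw [IsScalarTower.algebraMap_apply R (D.B i) (D.A i), algebraMap_smul, algebraMap_smul]

theorem geomIntegral_of_smooth {R B : Type u} [CommRing R] [CommRing B] [Algebra R B] [Algebra.Smooth R B]
    (h : GeomIrredFibres R B) : GeomIntegralFibres R B := by
  haveI := h
  haveI : AlgebraicGeometry.Smooth (AlgebraicGeometry.Spec.map (CommRingCat.ofHom (algebraMap R B))) := by
    rw [AlgebraicGeometry.HasRingHomProperty.Spec_iff (P := @AlgebraicGeometry.Smooth)]
    exact RingHom.smooth_algebraMap.mpr ‹_›
  haveI := GrothLib.SecComp6.geometricallyReduced_of_smooth (AlgebraicGeometry.Spec.map (CommRingCat.ofHom (algebraMap R B)))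
  exact AlgebraicGeometry.GeometricallyIntegral.of_geometricallyReduced_of_geometricallyIrreducible _

theorem hgi_B {i : ℕ} (hi : i < D.n) : GeomIntegralFibres R (D.B i) :=
  haveI := D.smooth i hi
  geomIntegral_of_smooth (D.geomIrred i hi)

theorem finite_M {i : ℕ} (hi : i < D.n) : Module.Finite (D.B i) (D.M i) :=
  haveI := D.finiteBA i hi
  haveI := D.finiteM i hi
  Module.Finite.trans (D.A i) (D.M i)

theorem exists_proj {i : ℕ} (hi : i + 1 < D.n) :
    ∃ π : D.M i →ₗ[D.B i] D.M (i + 1), Function.Surjective π ∧ Function.Exact (D.α i) π := by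
  refine ⟨(D.isoCoker i hi).toLinearMap ∘ₗ (LinearMap.range (D.α i)).mkQ,
    (D.isoCoker i hi).surjective.comp (Submodule.mkQ_surjective _), fun x => ?_⟩
  rw [LinearMap.comp_apply, LinearEquiv.coe_coe, LinearEquiv.map_eq_zero_iff, Submodule.mkQ_apply,
    Submodule.Quotient.mk_eq_zero]
  exact Iff.rfl

theorem flatAt_congr {R B : Type u} [CommRing R] [CommRing B] [Algebra R B] {M M' : Type u} [AddCommGroup M]
    [Module B M] [Module R M] [IsScalarTower R B M] [AddCommGroup M'] [Module B M'] [Module R M']
    [IsScalarTower R B M'] (e : M ≃ₗ[B] M') (Q : Ideal B) [Q.IsPrime] (h : FlatAt R Q M) : FlatAt R Q M' := by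
  haveI : Module.Flat R (LocalizedModule Q.primeCompl M) := h
  exact Module.Flat.of_linearEquiv
    ((IsLocalizedModule.mapEquiv Q.primeCompl (LocalizedModule.mkLinearMap Q.primeCompl M)
      (LocalizedModule.mkLinearMap Q.primeCompl M') (Localization Q.primeCompl) e).symm.restrictScalars R)

section Forward

variable [Module R N] [IsScalarTower R S N]

instance : IsScalarTower R S (D.M 0) := IsScalarTower.of_algebraMap_smul fun r x => by
  rw [← algebraMap_smul (D.A 0) (algebraMap R S r) x, ← IsScalarTower.algebraMap_apply R S (D.A 0), algebraMap_smul]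

/-- Flatness of `N` at a point is flatness of the first module at the points above. -/
theorem flatAt_zero {q : Ideal S} [q.IsPrime] (h : FlatAt R q N) (Q : Ideal (D.A 0)) [Q.IsPrime]
    (hQ : Q.comap (algebraMap S (D.A 0)) ≤ q) : FlatAt R Q (D.M 0) :=
  (GrothLib.RG6.Dev.flatAt_of_forall (A := R) (B := S) (C := D.A 0) (D.M 0) q).1
    (flatAt_congr D.isoN q h) Q hQ

theorem flatAt_B {i : ℕ} (Q' : Ideal (D.B i)) [Q'.IsPrime]
    (h : ∀ (Q : Ideal (D.A i)) [Q.IsPrime], Q.comap (algebraMap (D.B i) (D.A i)) ≤ Q' → FlatAt R Q (D.M i)) :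
    FlatAt R Q' (D.M i) :=
  (GrothLib.RG6.Dev.flatAt_of_forall (A := R) (B := D.B i) (C := D.A i) (D.M i) Q').2 h

theorem flatAt_succ {i : ℕ} (hi : i + 1 < D.n) (Q' : Ideal (D.B i)) [Q'.IsPrime]
    (h : FlatAt R Q' (D.M i ⧸ LinearMap.range (D.α i))) (Q : Ideal (D.A (i + 1))) [Q.IsPrime]
    (hQ : Q.comap (algebraMap (D.B i) (D.A (i + 1))) ≤ Q') : FlatAt R Q (D.M (i + 1)) := by
  haveI : IsScalarTower R (D.B i) (D.M (i + 1)) := IsScalarTower.of_algebraMap_smul fun r x => by
    rw [← algebraMap_smul (D.A (i + 1)) (algebraMap R (D.B i) r) x,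
      ← IsScalarTower.algebraMap_apply R (D.B i) (D.A (i + 1)), algebraMap_smul]
  exact (GrothLib.RG6.Dev.flatAt_of_forall (A := R) (B := D.B i) (C := D.A (i + 1)) (D.M (i + 1)) Q').1
    (flatAt_congr (D.isoCoker i hi) Q' h) Q hQ

end Forward

/-- The map `π` read over the base. -/
theorem exists_proj' {i : ℕ} (hi : i + 1 < D.n) :
    ∃ π : D.M i →ₗ[R] D.M (i + 1), Function.Surjective π ∧ Function.Exact ((D.α i).restrictScalars R) π := by
  obtain ⟨π, h1, h2⟩ := exists_proj D hi
  haveI : IsScalarTower R (D.B i) (D.M (i + 1)) := IsScalarTower.of_algebraMap_smul fun r x => by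
    rw [← algebraMap_smul (D.A (i + 1)) (algebraMap R (D.B i) r) x,
      ← IsScalarTower.algebraMap_apply R (D.B i) (D.A (i + 1)), algebraMap_smul]
  exact ⟨π.restrictScalars R, h1, h2⟩

theorem projective_B {i : ℕ} (hi : i < D.n) : Module.Projective R (D.B i) :=
  haveI := D.smooth i hi
  projective_of_smooth (hgi_B D hi)

theorem projective_pi_fin (M : Type u) [AddCommGroup M] [Module R M] [Module.Projective R M] (r : ℕ) :
    Module.Projective R (Fin r → M) :=
  Module.Projective.of_equiv (DFinsupp.linearEquivFunOnFintype (R := R) (M := fun _ : Fin r => M))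

theorem finitePresentation_M (hinj : ∀ k < D.n, Function.Injective (D.α k)) :
    ∀ (j i : ℕ), i + j + 1 = D.n → Module.FinitePresentation (D.B i) (D.M i) := by
  intro j
  induction j with
  | zero =>
    intro i hi
    have h : Function.Surjective (D.α i) := by
      have h0 := D.cokerLast
      rwa [show D.n - 1 = i by omega] at h0
    exact Module.FinitePresentation.of_equiv (LinearEquiv.ofBijective (D.α i) ⟨hinj i (by omega), h⟩)
  | succ j ih =>
    intro i hi
    have h1 : i + 1 < D.n := by omega
    haveI := ih (i + 1) (by omega)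
    haveI := D.finiteBA (i + 1) h1
    haveI := D.finiteM (i + 1) h1
    haveI : Module.FinitePresentation (D.A (i + 1)) (D.M (i + 1)) := finitePresentation_up (B := D.B (i + 1))
    haveI := D.fpBA' i h1
    haveI : Module.Finite (D.B i) (D.A (i + 1)) :=
      Module.Finite.of_surjective (Algebra.linearMap (D.B i) (D.A (i + 1))) (D.surjBA' i h1)
    haveI : Module.FinitePresentation (D.B i) (D.M (i + 1)) := finitePresentation_down (A := D.A (i + 1))
    obtain ⟨π, hπ, hex⟩ := exists_proj D h1
    haveI : Module.FinitePresentation (D.B i) (LinearMap.ker π) := by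
      rw [LinearMap.exact_iff.1 hex]
      exact Module.FinitePresentation.of_equiv (LinearEquiv.ofInjective (D.α i) (hinj i (by omega)))
    exact Module.finitePresentation_of_ker π hπ

theorem finitePresentation_N (hinj : ∀ k < D.n, Function.Injective (D.α k)) :
    Module.FinitePresentation S N := by
  haveI := finitePresentation_M D hinj (D.n - 1) 0 (by have := D.pos; omega)
  haveI := D.finiteBA 0 D.pos
  haveI := D.finiteM 0 D.pos
  haveI : Module.FinitePresentation (D.A 0) (D.M 0) := finitePresentation_up (B := D.B 0)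
  haveI := D.fpSA
  haveI : Module.Finite S (D.A 0) := Module.Finite.of_surjective (Algebra.linearMap S (D.A 0)) D.surjSA
  haveI : Module.FinitePresentation S (D.M 0) := finitePresentation_down (A := D.A 0)
  exact Module.FinitePresentation.of_equiv D.isoN.symm

end GrothLib.RGProj13
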