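import Groth.Agent.Lib.RGProj13.Devissage
import Groth.Agent.Lib.RG6.GenericBasis

/-!
# Localising a complete dévissage at an element of the base
-/

set_option autoImplicit false
set_option linter.style.haveILetI false

universe u

open TensorProduct FlatCA

namespace GrothLib.RGProj13

section Killed

variable {R B M M' : Type u} [CommRing R] [CommRing B] [Algebra R B] [AddCommGroup M] [Module B M] [Module R M]
  [IsScalarTower R B M] [AddCommGroup M'] [Module B M'] [Module R M'] [IsScalarTower R B M'] {α : M →ₗ[B] M'}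

theorem killedKer_mul {f : R} (g : R)
    (h : GrothLib.RG6.KilledKer R (Submonoid.powers (algebraMap R B f)) α) :
    GrothLib.RG6.KilledKer R (Submonoid.powers (algebraMap R B (f * g))) α := by
  intro Q _ _ z hz
  obtain ⟨_, ⟨k, rfl⟩, hk⟩ := h Q z hz
  refine ⟨_, ⟨k, rfl⟩, ?_⟩
  dsimp only at hk ⊢
  rw [mul_comm f g, map_mul, mul_pow, mul_smul, hk, smul_zero]

theorem baseChange_injective (f : R) (Rf : Type u) [CommRing Rf] [Algebra R Rf] (hf : IsUnit (algebraMap R Rf f))
    (h : GrothLib.RG6.KilledKer R (Submonoid.powers (algebraMap R B f)) α) :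
    Function.Injective ((α.restrictScalars R).baseChange Rf) := by
  refine (injective_iff_map_eq_zero _).2 fun z hz => ?_
  have key : ∀ y : Rf ⊗[R] M, AlgebraTensorModule.rTensor R Rf α (TensorProduct.comm R Rf M y) =
      TensorProduct.comm R Rf M' ((α.restrictScalars R).baseChange Rf y) := fun y => by
    induction y using TensorProduct.induction_on with
    | zero => simp
    | tmul a b => simp
    | add a b ha hb => simp only [map_add, ha, hb]
  obtain ⟨_, ⟨k, rfl⟩, hk⟩ := h Rf (TensorProduct.comm R Rf M z) (by rw [key, hz, map_zero])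
  dsimp only at hk
  rw [← map_pow, algebraMap_smul, ← map_smul, LinearEquiv.map_eq_zero_iff] at hk
  rw [← algebraMap_smul Rf (f ^ k) z, map_pow] at hk
  exact (hf.pow k).smul_eq_zero.1 hk

end Killed

theorem fp_relative (R B A : Type u) [CommRing R] [CommRing B] [CommRing A] [Algebra R B] [Algebra B A] [Algebra R A]
    [IsScalarTower R B A] [Algebra.FiniteType R B] [Algebra.FinitePresentation R A] :
    Algebra.FinitePresentation B A :=
  Algebra.FinitePresentation.of_restrict_scalars_finitePresentation R B A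

variable {R S : Type u} [CommRing R] [CommRing S] [Algebra R S] [Algebra.FinitePresentation R S]
  {N : Type u} [AddCommGroup N] [Module S N] [Module R N] [IsScalarTower R S N] [Module.FinitePresentation S N]
  {rr : Ideal R} [rr.IsPrime] (D : CompleteDevissage R S N rr)

/-- The state at a step: flat away from `f`, finitely presented, the previous maps universally injective away from `f`. -/
def Good (f : R) (i : ℕ) : Prop :=
  (∀ (Q : Ideal (D.A i)) [Q.IsPrime], algebraMap R (D.A i) f ∉ Q → FlatAt R Q (D.M i)) ∧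
    Algebra.FinitePresentation R (D.A i) ∧ Module.FinitePresentation (D.A i) (D.M i) ∧
    ∀ k < i, GrothLib.RG6.KilledKer R (Submonoid.powers (algebraMap R (D.B k) f)) (D.α k)

theorem good_zero [Module.Flat R N] : Good D 1 0 := by
  haveI := D.fpSA
  haveI : Module.Finite S (D.A 0) := Module.Finite.of_surjective (Algebra.linearMap S (D.A 0)) D.surjSA
  haveI : Module.FinitePresentation S (D.M 0) := Module.FinitePresentation.of_equiv D.isoN
  haveI := D.finiteM 0 D.pos
  refine ⟨fun Q _ _ => ?_, Algebra.FinitePresentation.trans R S (D.A 0), finitePresentation_up (B := S), fun k hk => absurd hk k.not_lt_zero⟩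
  refine flatAt_zero D (q := Q.comap (algebraMap S (D.A 0))) ?_ Q le_rfl
  show Module.Flat R (LocalizedModule (Q.comap (algebraMap S (D.A 0))).primeCompl N)
  exact GrothLib.NagataFP.flat_localized (R := R) (M := N) _

theorem good_step {i : ℕ} (hi : i < D.n) (f : R) (hf : f ∉ rr) (hG : Good D f i)
    (hdiv : ∀ (Q : Ideal (D.B i)) [Q.IsPrime] [Q.LiesOver rr], FlatAt R Q (D.M i) →
      Module.FinitePresentation (D.B i) (D.M i) →
      ∃ g : R, g ∉ rr ∧ GrothLib.RG6.KilledKer R (Submonoid.powers (algebraMap R (D.B i) g)) (D.α i)) :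
    ∃ f' : R, f' ∉ rr ∧ (∀ k ≤ i, GrothLib.RG6.KilledKer R (Submonoid.powers (algebraMap R (D.B k) f')) (D.α k)) ∧
      (i + 1 < D.n → Good D f' (i + 1)) := by
  obtain ⟨hfl, hfpA, hfpM, hk⟩ := hG
  haveI := D.smooth i hi
  haveI := D.finiteBA i hi
  haveI := fp_relative R (D.B i) (D.A i)
  haveI hM : Module.FinitePresentation (D.B i) (D.M i) := finitePresentation_down (A := D.A i)
  haveI := faithfullyFlat_of_geomIntegralFibres (hgi_B D hi)
  let Q₀ : Ideal (D.B i) := rr.map (algebraMap R (D.B i))
  haveI : Q₀.LiesOver rr := ⟨(Ideal.comap_map_eq_self_of_faithfullyFlat rr).symm⟩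
  obtain ⟨g, hg, hgk⟩ := hdiv Q₀ (flatAt_B D Q₀ fun Q _ hQ => hfl Q fun hm => hf (by
    have h1 : algebraMap R (D.B i) f ∈ Q₀ := hQ (by
      rw [Ideal.mem_comap, ← IsScalarTower.algebraMap_apply]; exact hm)
    exact (Ideal.LiesOver.over (p := rr) (P := Q₀)).ge h1)) hM
  have hkill : ∀ k ≤ i, GrothLib.RG6.KilledKer R (Submonoid.powers (algebraMap R (D.B k) (f * g))) (D.α k) := by
    intro k hki
    rcases hki.lt_or_eq with h | rfl
    · exact killedKer_mul g (hk k h)
    · rw [mul_comm]; exact killedKer_mul f hgk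
  refine ⟨f * g, fun hm => (‹rr.IsPrime›.mem_or_mem hm).elim hf hg, hkill, fun h1 => ⟨fun Q _ hQ => ?_, ?_, ?_, fun k hk' => hkill k (Nat.lt_succ_iff.1 hk')⟩⟩
  · let Q' : Ideal (D.B i) := Q.comap (algebraMap (D.B i) (D.A (i + 1)))
    have hQ' : algebraMap R (D.B i) (f * g) ∉ Q' := fun h => hQ (by
      rw [IsScalarTower.algebraMap_apply R (D.B i) (D.A (i + 1))]; exact h)
    refine flatAt_succ D h1 Q' ?_ Q le_rfl
    refine GrothLib.RG6.flatAt_coker Q' (D.α i) _ ?_ (hkill i le_rfl) ?_
    · rintro _ ⟨k, rfl⟩ hm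
      exact hQ' (Ideal.IsPrime.mem_of_pow_mem inferInstance k hm)
    · refine flatAt_B D Q' fun P _ hP => hfl P fun hm => hQ' ?_
      rw [map_mul]
      exact Q'.mul_mem_right _ (hP (by rw [Ideal.mem_comap, ← IsScalarTower.algebraMap_apply]; exact hm))
  · haveI := D.fpBA' i h1
    exact Algebra.FinitePresentation.trans R (D.B i) (D.A (i + 1))
  · haveI := D.finiteM (i + 1) h1
    haveI : Module.Finite (D.B i) (D.A (i + 1)) :=
      Module.Finite.of_surjective (Algebra.linearMap (D.B i) (D.A (i + 1))) (D.surjBA' i h1)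
    haveI : Module.FinitePresentation (D.B i) (D.M i ⧸ LinearMap.range (D.α i)) :=
      Module.finitePresentation_of_surjective _ (LinearMap.range (D.α i)).mkQ_surjective (by
        rw [Submodule.ker_mkQ, ← Submodule.map_top]
        exact Module.Finite.fg_top.map _)
    haveI : Module.FinitePresentation (D.B i) (D.M (i + 1)) := Module.FinitePresentation.of_equiv (D.isoCoker i h1)
    exact finitePresentation_up (B := D.B i)

theorem exists_killed [Module.Flat R N]
    (hdiv : ∀ i, i < D.n → ∀ (Q : Ideal (D.B i)) [Q.IsPrime] [Q.LiesOver rr], FlatAt R Q (D.M i) →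
      Module.FinitePresentation (D.B i) (D.M i) →
      ∃ g : R, g ∉ rr ∧ GrothLib.RG6.KilledKer R (Submonoid.powers (algebraMap R (D.B i) g)) (D.α i)) :
    ∃ f : R, f ∉ rr ∧ ∀ k < D.n, GrothLib.RG6.KilledKer R (Submonoid.powers (algebraMap R (D.B k) f)) (D.α k) := by
  have h : ∀ i, i < D.n → ∃ f, f ∉ rr ∧ Good D f i := by
    intro i
    induction i with
    | zero => exact fun _ => ⟨1, fun h => ‹rr.IsPrime›.ne_top ((Ideal.eq_top_iff_one _).2 h), good_zero D⟩
    | succ i ih =>
      intro hi
      obtain ⟨f, hf, hG⟩ := ih (by omega)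
      obtain ⟨f', hf', -, hG'⟩ := good_step D (show i < D.n by omega) f hf hG (hdiv i (by omega))
      exact ⟨f', hf', hG' hi⟩
  have hn := D.pos
  obtain ⟨f, hf, hG⟩ := h (D.n - 1) (by omega)
  obtain ⟨f', hf', hk, -⟩ := good_step D (show D.n - 1 < D.n by omega) f hf hG (hdiv _ (by omega))
  exact ⟨f', hf', fun k hk' => hk k (by omega)⟩

end GrothLib.RGProj13
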