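import Mathlib

/-!
Modules flat over the base are flat over an unramified algebra acting on them.
-/

set_option autoImplicit false
universe u

open TensorProduct

namespace GrothLib.RGProj13

/-- A module flat over the base is flat over any unramified algebra acting on it. -/
theorem flat_of_unramified_module (A C M : Type u) [CommRing A] [CommRing C] [Algebra A C] [Algebra.FormallyUnramified A C]
    [Algebra.EssFiniteType A C] [AddCommGroup M] [Module C M] [Module A M] [IsScalarTower A C M] [Module.Flat A M] :
    Module.Flat C M := by
  let act : M → (C ⊗[A] C →ₗ[C] C ⊗[A] M) := fun m =>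
    AlgebraTensorModule.lTensor C C ((LinearMap.toSpanSingleton C M m).restrictScalars A)
  let e := Algebra.FormallyUnramified.elem A C
  have hact : ∀ (c : C) (m : M) (z : C ⊗[A] C), act (c • m) z = act m (((1 : C) ⊗ₜ[A] c) * z) := fun c m z => by
    induction z using TensorProduct.induction_on with
    | zero => simp
    | add x y hx hy => rw [map_add, mul_add, map_add, hx, hy]
    | tmul a b =>
      simp [act, LinearMap.toSpanSingleton_apply, smul_smul, mul_comm c b]
  let i : M →ₗ[C] C ⊗[A] M :=
    { toFun := fun m => act m e
      map_add' := fun x y => by
        induction e using TensorProduct.induction_on with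
        | zero => simp
        | add a b ha hb => simp only [map_add, ha, hb]; abel
        | tmul a b => simp [act, LinearMap.toSpanSingleton_apply, smul_add, tmul_add]
      map_smul' := fun c m => by
        rw [RingHom.id_apply, hact, Algebra.FormallyUnramified.one_tmul_mul_elem, ← map_smul]
        exact congrArg (act m) (by rw [Algebra.smul_def, Algebra.TensorProduct.algebraMap_apply, Algebra.algebraMap_self, RingHom.id_apply]) }
  let r : C ⊗[A] M →ₗ[C] M := LinearMap.liftBaseChange C (LinearMap.id : M →ₗ[A] M)
  refine Module.Flat.of_retract i r (LinearMap.ext fun m => ?_)
  have hz : ∀ z : C ⊗[A] C, r (act m z) = Algebra.TensorProduct.lmul' A z • m := fun z => by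
    induction z using TensorProduct.induction_on with
    | zero => simp
    | add x y hx hy => simp only [map_add, add_smul, hx, hy]
    | tmul a b => simp [act, r, LinearMap.toSpanSingleton_apply, smul_smul]
  show r (act m e) = m
  rw [hz, Algebra.FormallyUnramified.lmul_elem, one_smul]

end GrothLib.RGProj13
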