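import Groth.Agent.Lib.RGProj13.FreeNhd

/-!
From an étale neighbourhood of the fibre to a principal open neighbourhood.
-/

set_option autoImplicit false
set_option linter.style.haveILetI false
set_option linter.unusedSectionVars false
universe u

open TensorProduct

namespace GrothLib.RGProj13

section Flat

variable {A B C M : Type u} [CommRing A] [CommRing B] [CommRing C] [Algebra A B] [Algebra A C] [Algebra B C]
  [IsScalarTower A B C] [AddCommGroup M] [Module B M] [Module A M] [IsScalarTower A B M]

theorem injective_lTensor_tensor_iff {P Q : Type u} [AddCommGroup P] [Module A P] [AddCommGroup Q] [Module A Q]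
    (f : P →ₗ[A] Q) :
    Function.Injective (LinearMap.lTensor (C ⊗[B] M) f) ↔
      Function.Injective (LinearMap.lTensor C (AlgebraTensorModule.lTensor B M f)) := by
  let eP := AlgebraTensorModule.assoc A B B C M P
  let eQ := AlgebraTensorModule.assoc A B B C M Q
  have h : ∀ z, eQ (LinearMap.lTensor (C ⊗[B] M) f z) =
      LinearMap.lTensor C (AlgebraTensorModule.lTensor B M f) (eP z) := fun z => by
    induction z using TensorProduct.induction_on with
    | zero => simp only [map_zero]
    | add a b ha hb => simp only [map_add, ha, hb]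
    | tmul a p =>
      induction a using TensorProduct.induction_on with
      | zero => simp only [TensorProduct.zero_tmul, map_zero]
      | add a b ha hb => simp only [TensorProduct.add_tmul, map_add, ha, hb]
      | tmul c m => rfl
  constructor
  · intro hi x y hxy
    obtain ⟨x, rfl⟩ := eP.surjective x
    obtain ⟨y, rfl⟩ := eP.surjective y
    rw [← h, ← h] at hxy
    exact congrArg _ (hi (eQ.injective hxy))
  · intro hi x y hxy
    exact eP.injective (hi (by rw [← h, ← h, hxy]))

/-- A flat extension of a module flat over the base is flat over the base. -/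
theorem flat_tensor_of_flat [Module.Flat A M] [Module.Flat B C] : Module.Flat A (C ⊗[B] M) :=
  Module.Flat.iff_lTensor_preserves_injective_linearMap.2 fun P Q _ _ _ _ f hf =>
    (injective_lTensor_tensor_iff f).2 (Module.Flat.lTensor_preserves_injective_linearMap
      (AlgebraTensorModule.lTensor B M f) (Module.Flat.lTensor_preserves_injective_linearMap f hf))

/-- Flatness over the base descends along a faithfully flat extension. -/
theorem flat_of_flat_tensor [Module.FaithfullyFlat B C] [Module.Flat A (C ⊗[B] M)] : Module.Flat A M :=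
  Module.Flat.iff_lTensor_preserves_injective_linearMap.2 fun P Q _ _ _ _ f hf =>
    (Module.FaithfullyFlat.lTensor_injective_iff_injective B C (AlgebraTensorModule.lTensor B M f)).1
      ((injective_lTensor_tensor_iff (C := C) f).1 (Module.Flat.lTensor_preserves_injective_linearMap f hf))

end Flat

/-- Finite presentation of modules descends along faithfully flat ring maps. -/
theorem finitePresentation_of_tensor {R : Type u} [CommRing R] (T : Type u) [CommRing T] [Algebra R T] {M : Type u}
    [AddCommGroup M] [Module R M] [Module.FaithfullyFlat R T] [Module.FinitePresentation T (T ⊗[R] M)] :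
    Module.FinitePresentation R M := by
  haveI : Module.Finite T (T ⊗[R] M) := inferInstance
  haveI : Module.Finite R M := Module.Finite.of_finite_tensorProduct_of_faithfullyFlat T
  obtain ⟨n, f, hf⟩ := Module.Finite.exists_fin' R M
  haveI : Module.Finite R (LinearMap.ker f) := by
    let K := LinearMap.ker f
    have hinj : Function.Injective (K.subtype.baseChange T) :=
      Module.Flat.lTensor_preserves_injective_linearMap K.subtype K.injective_subtype
    have hker : LinearMap.ker (f.baseChange T) = LinearMap.range (K.subtype.baseChange T) :=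
      LinearMap.exact_iff.1 (lTensor_exact T (LinearMap.exact_subtype_ker_map f) hf)
    have hfg : (LinearMap.range (K.subtype.baseChange T)).FG :=
      hker ▸ Module.FinitePresentation.fg_ker (f.baseChange T) (LinearMap.lTensor_surjective T hf)
    haveI : Module.Finite T (LinearMap.range (K.subtype.baseChange T)) := Module.Finite.iff_fg.2 hfg
    haveI : Module.Finite T (T ⊗[R] K) := Module.Finite.equiv (LinearEquiv.ofInjective _ hinj).symm
    exact Module.Finite.of_finite_tensorProduct_of_faithfullyFlat T
  exact Module.finitePresentation_of_surjective f hf (Module.Finite.iff_fg.1 inferInstance)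

/-- With equal residue fields, at most one prime of a base change lies over two given primes. -/
theorem eq_of_residue_bijective {R S A SA : Type u} [CommRing R] [CommRing S] [CommRing A] [CommRing SA]
    [Algebra R S] [Algebra R A] [Algebra R SA] [Algebra S SA] [Algebra A SA] [IsScalarTower R S SA]
    [IsScalarTower R A SA] [Algebra.IsPushout R S A SA] {p : Ideal R} [p.IsPrime] {m : Ideal A} [m.IsPrime]
    (hm : m.LiesOver p) (hres : ∀ a : A, ∃ r t : R, t ∉ p ∧ algebraMap R A t * a - algebraMap R A r ∈ m)
    (q : Ideal S) (Q₁ Q₂ : Ideal SA) [Q₁.IsPrime] [Q₂.IsPrime] (h1 : Q₁.LiesOver q) (h2 : Q₂.LiesOver q)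
    (h1m : Q₁.LiesOver m) (h2m : Q₂.LiesOver m) : Q₁ = Q₂ := by
  have key : ∀ z : SA, ∃ (t : R) (s : S), t ∉ p ∧
      algebraMap R SA t * z - algebraMap S SA s ∈ m.map (algebraMap A SA) := fun z => by
    refine (Algebra.IsPushout.symm (inferInstance : Algebra.IsPushout R S A SA)).out.inductionOn z
      (motive := fun z => ∃ (t : R) (s : S), t ∉ p ∧
        algebraMap R SA t * z - algebraMap S SA s ∈ m.map (algebraMap A SA)) ?_ ?_ ?_ ?_
    · exact ⟨1, 0, (Ideal.ne_top_iff_one p).1 Ideal.IsPrime.ne_top', by simp⟩
    · intro s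
      exact ⟨1, s, (Ideal.ne_top_iff_one p).1 Ideal.IsPrime.ne_top', by simp⟩
    · rintro a z ⟨t, s, ht, h⟩
      obtain ⟨r, t', ht', h'⟩ := hres a
      refine ⟨t' * t, algebraMap R S r * s, fun hh => ((‹p.IsPrime›.mem_or_mem hh).elim ht' ht), ?_⟩
      have e1 : algebraMap R SA (t' * t) * (a • z) - algebraMap S SA (algebraMap R S r * s) =
          algebraMap A SA (algebraMap R A t' * a - algebraMap R A r) * (algebraMap R SA t * z) +
            algebraMap R SA r * (algebraMap R SA t * z - algebraMap S SA s) := by
        rw [Algebra.smul_def, map_sub, map_mul, map_mul, map_mul, ← IsScalarTower.algebraMap_apply R A SA,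
          ← IsScalarTower.algebraMap_apply R A SA, ← IsScalarTower.algebraMap_apply R S SA]
        ring
      rw [e1]
      exact add_mem (Ideal.mul_mem_right _ _ (Ideal.mem_map_of_mem _ h')) (Ideal.mul_mem_left _ _ h)
    · rintro z₁ z₂ ⟨t₁, s₁, ht₁, h₁⟩ ⟨t₂, s₂, ht₂, h₂⟩
      refine ⟨t₁ * t₂, algebraMap R S t₂ * s₁ + algebraMap R S t₁ * s₂,
        fun hh => ((‹p.IsPrime›.mem_or_mem hh).elim ht₁ ht₂), ?_⟩
      have e1 : algebraMap R SA (t₁ * t₂) * (z₁ + z₂) -
          algebraMap S SA (algebraMap R S t₂ * s₁ + algebraMap R S t₁ * s₂) =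
          algebraMap R SA t₂ * (algebraMap R SA t₁ * z₁ - algebraMap S SA s₁) +
            algebraMap R SA t₁ * (algebraMap R SA t₂ * z₂ - algebraMap S SA s₂) := by
        rw [map_add, map_mul, map_mul, map_mul, ← IsScalarTower.algebraMap_apply R S SA,
          ← IsScalarTower.algebraMap_apply R S SA]
        ring
      rw [e1]
      exact add_mem (Ideal.mul_mem_left _ _ h₁) (Ideal.mul_mem_left _ _ h₂)
  have hmem : ∀ (Q : Ideal SA) [Q.IsPrime], Q.LiesOver q → Q.LiesOver m → ∀ (z : SA) (t : R) (s : S), t ∉ p →
      algebraMap R SA t * z - algebraMap S SA s ∈ m.map (algebraMap A SA) → (z ∈ Q ↔ s ∈ q) := by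
    intro Q _ hq hQm z t s ht h
    have hd := Ideal.map_le_iff_le_comap.2 hQm.over.le h
    have htQ : algebraMap R SA t ∉ Q := fun hh => ht (by
      rw [hm.over, Ideal.mem_comap, hQm.over, Ideal.mem_comap, ← IsScalarTower.algebraMap_apply R A SA]
      exact hh)
    rw [hq.over, Ideal.mem_comap]
    constructor
    · intro hz
      have := sub_mem (Ideal.mul_mem_left Q (algebraMap R SA t) hz) hd
      rwa [sub_sub_cancel] at this
    · intro hs
      have := add_mem hd hs
      rw [sub_add_cancel] at this
      exact (‹Q.IsPrime›.mem_or_mem this).resolve_left htQ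
  ext z
  obtain ⟨t, s, ht, h⟩ := key z
  rw [hmem Q₁ h1 h1m z t s ht h, hmem Q₂ h2 h2m z t s ht h]

/-- The local ring of a residually trivial neighbourhood has no more residues than the base. -/
theorem exists_frac_residue {R R' : Type u} [CommRing R] [CommRing R'] [Algebra R R'] {p : Ideal R} [p.IsPrime]
    {p' : Ideal R'} [p'.IsPrime] (h : FlatCA.IsEtaleNhd R R' p p') (a : Localization.AtPrime p') :
    ∃ r t : R, t ∉ p ∧ algebraMap R (Localization.AtPrime p') t * a - algebraMap R (Localization.AtPrime p') r ∈
      IsLocalRing.maximalIdeal (Localization.AtPrime p') := by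
  obtain ⟨ho, hb⟩ := h.2
  let A := Localization.AtPrime p'
  let ρ : A →+* p'.ResidueField := algebraMap A p'.ResidueField
  obtain ⟨w, hw⟩ := hb.2 (ρ a)
  obtain ⟨x, y, hy, hxy⟩ := IsFractionRing.div_surjective (R ⧸ p) w
  obtain ⟨r, rfl⟩ := Ideal.Quotient.mk_surjective x
  obtain ⟨t, rfl⟩ := Ideal.Quotient.mk_surjective y
  have htp : t ∉ p := fun hh => nonZeroDivisors.ne_zero hy (Ideal.Quotient.eq_zero_iff_mem.2 hh)
  refine ⟨r, t, htp, ?_⟩
  rw [← IsLocalRing.residue_eq_zero_iff]
  show ρ _ = 0
  let ψ := Ideal.ResidueField.mapₐ p p' (Algebra.ofId R R') ho.over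
  have hψ : ∀ c : R, ρ (algebraMap R A c) = ψ (algebraMap R p.ResidueField c) := fun c => by
    rw [ψ.commutes, ← IsScalarTower.algebraMap_apply R A p'.ResidueField]
  have ht0 : algebraMap R p.ResidueField t ≠ 0 := fun hh => htp (Ideal.algebraMap_residueField_eq_zero.1 hh)
  have hwe : algebraMap R p.ResidueField t * w = algebraMap R p.ResidueField r := by
    rw [← hxy]
    show algebraMap R p.ResidueField t * (algebraMap R p.ResidueField r / algebraMap R p.ResidueField t) = _
    rw [mul_div_cancel₀ _ ht0]
  rw [map_sub, map_mul, hψ, hψ, ← hw, ← map_mul, hwe, sub_self]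

/-- Descent of finite presentation and flatness to a localized module. -/
theorem descend_localized {A SA C NA : Type u} [CommRing A] [CommRing SA] [CommRing C] [Algebra A SA] [Algebra SA C]
    [Algebra A C] [IsScalarTower A SA C] [AddCommGroup NA] [Module SA NA] [Module A NA] [IsScalarTower A SA NA] (g : SA)
    (CL : Type u) [CommRing CL] [Algebra A CL] [Algebra SA CL] [Algebra C CL] [Algebra (Localization.Away g) CL]
    [IsScalarTower SA C CL] [IsScalarTower A C CL] [IsScalarTower SA (Localization.Away g) CL]
    [IsScalarTower A (Localization.Away g) CL] [Module.Flat C CL] [Module.FaithfullyFlat (Localization.Away g) CL]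
    (hfp : Module.FinitePresentation C (C ⊗[SA] NA)) (hflat : Module.Flat A (C ⊗[SA] NA)) :
    Module.FinitePresentation (Localization.Away g) (LocalizedModule (Submonoid.powers g) NA) ∧
      Module.Flat A (LocalizedModule (Submonoid.powers g) NA) := by
  let e : CL ⊗[Localization.Away g] LocalizedModule (Submonoid.powers g) NA ≃ₗ[CL] CL ⊗[C] (C ⊗[SA] NA) :=
    AlgebraTensorModule.congr (LinearEquiv.refl CL CL) (LocalizedModule.equivTensorProduct (Submonoid.powers g) NA) ≪≫ₗ
      AlgebraTensorModule.cancelBaseChange SA (Localization.Away g) CL CL NA ≪≫ₗ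
      (AlgebraTensorModule.cancelBaseChange SA C CL CL NA).symm
  refine ⟨?_, ?_⟩
  · haveI : Module.FinitePresentation CL (CL ⊗[Localization.Away g] LocalizedModule (Submonoid.powers g) NA) :=
      Module.FinitePresentation.of_equiv e.symm
    exact finitePresentation_of_tensor CL
  · haveI : Module.Flat A (CL ⊗[C] (C ⊗[SA] NA)) := flat_tensor_of_flat (A := A) (B := C)
    haveI : Module.Flat A (CL ⊗[Localization.Away g] LocalizedModule (Submonoid.powers g) NA) :=
      Module.Flat.of_linearEquiv (e.restrictScalars A)
    exact flat_of_flat_tensor (A := A) (B := Localization.Away g) (C := CL)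

set_option maxHeartbeats 1600000 in
/-- From an étale neighbourhood of a point to a principal open neighbourhood. -/
theorem exists_away_flat {A SA C : Type u} [CommRing A] [CommRing SA] [CommRing C] [Algebra A SA] [Algebra SA C]
    [Algebra A C] [IsScalarTower A SA C] [Algebra.Etale SA C] (NA : Type u) [AddCommGroup NA] [Module SA NA]
    [Module A NA] [IsScalarTower A SA NA] (x : Ideal C) [x.IsPrime] (hfp : Module.FinitePresentation C (C ⊗[SA] NA))
    (hflat : Module.Flat A (C ⊗[SA] NA)) :
    ∃ g : SA, g ∉ x.comap (algebraMap SA C) ∧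
      Module.FinitePresentation (Localization.Away g) (LocalizedModule (Submonoid.powers g) NA) ∧
      Module.Flat A (LocalizedModule (Submonoid.powers g) NA) := by
  obtain ⟨_, ⟨g, rfl⟩, hgx, hgU⟩ := PrimeSpectrum.isTopologicalBasis_basic_opens.exists_subset_of_mem_open
    (Set.mem_range_self (f := PrimeSpectrum.comap (algebraMap SA C)) ⟨x, inferInstance⟩)
    (PrimeSpectrum.isOpenMap_comap_of_hasGoingDown_of_finitePresentation (R := SA) (S := C)).isOpen_range
  refine ⟨g, hgx, ?_⟩
  let L := Localization.Away g
  let CL := L ⊗[SA] C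
  letI : Algebra C CL := Algebra.TensorProduct.rightAlgebra
  haveI : IsScalarTower A L CL := inferInstance
  haveI hpo : Algebra.IsPushout SA L C CL := inferInstance
  haveI : Algebra.IsPushout SA C L CL := Algebra.IsPushout.symm inferInstance
  haveI : IsLocalization (Algebra.algebraMapSubmonoid C (Submonoid.powers g)) CL :=
    inferInstance
  haveI : Module.FaithfullyFlat L CL := by
    refine Module.FaithfullyFlat.of_comap_surjective fun z => ?_
    obtain ⟨y, hy⟩ := hgU (a := ⟨z.asIdeal.comap (algebraMap SA L), inferInstance⟩)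
      (show g ∉ z.asIdeal.comap (algebraMap SA L) from fun hh =>
        z.2.ne_top (z.asIdeal.eq_top_of_isUnit_mem hh (IsLocalization.Away.algebraMap_isUnit g)))
    have hd : Disjoint (Algebra.algebraMapSubmonoid C (Submonoid.powers g) : Set C) y.asIdeal :=
      Set.disjoint_left.2 fun c hc hcy => by
        obtain ⟨_, ⟨k, rfl⟩, rfl⟩ := hc
        have h1 : g ^ k ∈ z.asIdeal.comap (algebraMap SA L) := (congrArg PrimeSpectrum.asIdeal hy).le hcy
        exact z.2.ne_top (z.asIdeal.eq_top_of_isUnit_mem h1 (IsLocalization.map_units L (⟨_, k, rfl⟩ : Submonoid.powers g)))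
    haveI := IsLocalization.isPrime_of_isPrime_disjoint _ CL y.asIdeal inferInstance hd
    have hc := IsLocalization.under_map_of_isPrime_disjoint _ CL y.isPrime hd
    refine ⟨⟨y.asIdeal.map (algebraMap C CL), inferInstance⟩, PrimeSpectrum.ext ?_⟩
    show (y.asIdeal.map (algebraMap C CL)).comap (algebraMap L CL) = z.asIdeal
    apply (IsLocalization.orderEmbedding (Submonoid.powers g) L).injective
    show Ideal.comap (algebraMap SA L) ((y.asIdeal.map (algebraMap C CL)).comap (algebraMap L CL)) =
      Ideal.comap (algebraMap SA L) z.asIdeal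
    rw [Ideal.comap_comap, ← IsScalarTower.algebraMap_eq SA L CL, IsScalarTower.algebraMap_eq SA C CL,
      ← Ideal.comap_comap]
    exact (congrArg (Ideal.comap (algebraMap SA C)) hc).trans (congrArg PrimeSpectrum.asIdeal hy)
  haveI : IsScalarTower A C CL := IsScalarTower.of_algebraMap_eq fun a => by
    rw [IsScalarTower.algebraMap_apply A SA CL, IsScalarTower.algebraMap_apply SA C CL,
      ← IsScalarTower.algebraMap_apply A SA C]
  haveI : Module.Flat C CL := IsLocalization.flat CL (Algebra.algebraMapSubmonoid C (Submonoid.powers g))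
  exact descend_localized g CL hfp hflat

end GrothLib.RGProj13

namespace GrothLib.RGProj13

/-- A module flat at a point is flat and finitely presented on a principal open neighbourhood over an étale
neighbourhood of the base. -/
theorem exists_away_nhd {R S : Type u} [CommRing R] [CommRing S] [Algebra R S] [Algebra.FiniteType R S]
    (N : Type u) [AddCommGroup N] [Module S N] [Module R N] [IsScalarTower R S N] [Module.Finite S N]
    (p : Ideal R) [p.IsPrime] (q : Ideal S) [q.IsPrime] [q.LiesOver p] (hflat : FlatCA.FlatAt R q N) :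
    ∃ (R' : Type u) (_ : CommRing R') (_ : Algebra R R') (p' : Ideal R') (_ : p'.IsPrime), FlatCA.IsEtaleNhd R R' p p' ∧
      ∀ (SA NA : Type u) [CommRing SA] [Algebra R SA] [Algebra S SA] [Algebra (Localization.AtPrime p') SA]
        [IsScalarTower R S SA] [IsScalarTower R (Localization.AtPrime p') SA]
        [Algebra.IsPushout R S (Localization.AtPrime p') SA]
        [AddCommGroup NA] [Module SA NA] [Module S NA] [IsScalarTower S SA NA]
        [Module (Localization.AtPrime p') NA] [IsScalarTower (Localization.AtPrime p') SA NA]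
        (f : N →ₗ[S] NA), IsBaseChange SA f →
        ∃ g : SA, (∀ (Q : Ideal SA) [Q.IsPrime], Q.LiesOver q → Q.LiesOver (IsLocalRing.maximalIdeal (Localization.AtPrime p')) → g ∉ Q) ∧
          Module.FinitePresentation (Localization.Away g) (LocalizedModule (Submonoid.powers g) NA) ∧
          Module.Flat (Localization.AtPrime p') (LocalizedModule (Submonoid.powers g) NA) := by
  obtain ⟨R', _, _, p', _, hR, H⟩ := exists_free_nhd N p q hflat
  refine ⟨R', inferInstance, inferInstance, p', inferInstance, hR, ?_⟩
  intro SA NA _ _ _ _ _ _ _ _ _ _ _ _ _ f hf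
  obtain ⟨C, _, _, _, _, _, _, x', _, hx, _, -, hxm, hfp, hfree⟩ := H SA NA f hf
  let A := Localization.AtPrime p'
  have hflatC : Module.Flat A (C ⊗[SA] NA) := by
    haveI := hfree
    exact Module.Flat.of_linearEquiv
      ({ (RestrictScalars.addEquiv A C (C ⊗[SA] NA)).symm with
         map_smul' := fun a z => by
          show a • z = algebraMap A C a • z
          rw [algebraMap_smul] } : C ⊗[SA] NA ≃ₗ[A] RestrictScalars A C (C ⊗[SA] NA))
  obtain ⟨g, hg, h1, h2⟩ := exists_away_flat NA x' hfp hflatC
  refine ⟨g, fun Q _ hQq hQm hgQ => hg ?_, h1, h2⟩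
  obtain ⟨ho, -⟩ := hR.2
  have hm : (IsLocalRing.maximalIdeal A).LiesOver p := ⟨by
    show p = (IsLocalRing.maximalIdeal A).comap (algebraMap R A)
    rw [IsScalarTower.algebraMap_eq R R' A, ← Ideal.comap_comap]
    exact ho.over.trans (congrArg (Ideal.comap (algebraMap R R')) (IsLocalization.AtPrime.under_maximalIdeal A p').symm)⟩
  rw [eq_of_residue_bijective hm (exists_frac_residue hR) q (x'.comap (algebraMap SA C)) Q ⟨by
      show q = (x'.comap (algebraMap SA C)).comap (algebraMap S SA)
      rw [Ideal.comap_comap, ← IsScalarTower.algebraMap_eq S SA C]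
      exact hx.over⟩ hQq ⟨by
      show IsLocalRing.maximalIdeal A = (x'.comap (algebraMap SA C)).comap (algebraMap A SA)
      rw [Ideal.comap_comap, ← IsScalarTower.algebraMap_eq A SA C]
      exact hxm.over⟩ hQm]
  exact hgQ

end GrothLib.RGProj13
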