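import Mathlib
import Groth.Prelude.Def_FlatCA
import Groth.Prelude.Def_Found
import Groth.Agent.Lib.ML.Flat
import Groth.Agent.Lib.ML.Countable

/-!
# Pure submodules of flat Mittag-Leffler modules
-/

set_option autoImplicit false

universe u

open TensorProduct

namespace GrothLib.RGProj13

variable {R : Type u} [CommRing R] {M N : Type u} [AddCommGroup M] [Module R M] [AddCommGroup N] [Module R N]

theorem flat_of_univInj (f : M →ₗ[R] N) (hf : FlatCA.UnivInj R f) [Module.Flat R N] : Module.Flat R M := by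
  rw [Module.Flat.iff_rTensor_injective]
  intro I _
  refine Function.Injective.of_comp (f := f.lTensor R) ?_
  have h : f.lTensor R ∘ₗ I.subtype.rTensor M = I.subtype.rTensor N ∘ₗ f.lTensor I := by
    rw [LinearMap.lTensor_comp_rTensor, LinearMap.rTensor_comp_lTensor]
  rw [← LinearMap.coe_comp, h, LinearMap.coe_comp]
  exact (Module.Flat.rTensor_preserves_injective_linearMap (M := N) I.subtype I.injective_subtype).comp (hf I)

theorem ml_of_univInj (f : M →ₗ[R] N) (hf : FlatCA.UnivInj R f) (hN : CAlg.IsMittagLeffler R N) :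
    CAlg.IsMittagLeffler R M := fun ι Q _ _ => by
  rw [injective_iff_map_eq_zero]
  intro z hz
  refine ((LinearMap.lTensor_inj_iff_rTensor_inj (∀ i, Q i) f).1 (hf (∀ i, Q i))) ?_
  rw [map_zero]
  refine hN ι Q ?_
  rw [map_zero]
  funext i
  exact (GrothLib.ML.cmp_rTensor Q f z i).trans (by rw [show GrothLib.ML.cmp Q M z i = 0 from congrFun hz i, map_zero]; rfl)

theorem univInj_of_equiv (e : M ≃ₗ[R] N) : FlatCA.UnivInj R e.toLinearMap :=
  fun Q _ _ => (LinearEquiv.lTensor Q e).injective

theorem flatML_powerSeries (A : Type u) [CommRing A] [IsNoetherianRing A] (d : ℕ) :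
    Module.Flat A (MvPowerSeries (Fin d) A) ∧ CAlg.IsMittagLeffler A (MvPowerSeries (Fin d) A) := by
  obtain ⟨h1, h2⟩ := GrothLib.ML.ml_pi_of_noetherian (R := A) (ULift.{u} (Fin d →₀ ℕ))
  let e : MvPowerSeries (Fin d) A ≃ₗ[A] (ULift.{u} (Fin d →₀ ℕ) → A) :=
    LinearEquiv.funCongrLeft A A (Equiv.ulift.{u, 0} (α := Fin d →₀ ℕ))
  haveI := h1
  exact ⟨Module.Flat.of_linearEquiv e, ml_of_univInj e.toLinearMap (univInj_of_equiv e) h2⟩

theorem countablyGenerated_of_finiteType (A B : Type u) [CommRing A] [CommRing B] [Algebra A B]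
    [Algebra.FiniteType A B] : CAlg.IsCountablyGenerated A B := by
  obtain ⟨n, φ, hφ⟩ := Algebra.FiniteType.iff_quotient_mvPolynomial''.1 ‹Algebra.FiniteType A B›
  refine ⟨φ '' Set.range fun s => MvPolynomial.monomial s (1 : A), (Set.countable_range _).image _, ?_⟩
  have h := (MvPolynomial.basisMonomials (Fin n) A).span_eq
  rw [MvPolynomial.coe_basisMonomials] at h
  rw [← AlgHom.coe_toLinearMap, ← Submodule.map_span, h, Submodule.map_top, LinearMap.range_eq_top]
  exact hφ

theorem projective_of_univInj (A B : Type u) [CommRing A] [CommRing B] [Algebra A B] [Algebra.FiniteType A B]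
    {N : Type u} [AddCommGroup N] [Module A N] (f : B →ₗ[A] N) (hf : FlatCA.UnivInj A f) [Module.Flat A N]
    (hN : CAlg.IsMittagLeffler A N) : Module.Projective A B :=
  haveI := flat_of_univInj f hf
  GrothLib.ML.projective_of_countable (ml_of_univInj f hf hN) (countablyGenerated_of_finiteType A B)

/-- A map through which all the quotients by the powers of an ideal factor is universally injective, when the
elements congruent to one modulo the ideal act injectively after tensoring. -/
theorem univInj_of_factors {A B : Type u} [CommRing A] [IsNoetherianRing A] [CommRing B] [Algebra A B]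
    [Algebra.FiniteType A B] (I : Ideal B) {Bh : Type u} [AddCommGroup Bh] [Module A Bh] (f : B →ₗ[A] Bh)
    (hfac : ∀ n, ∃ g : Bh →ₗ[A] B ⧸ (I ^ n).restrictScalars A, g ∘ₗ f = ((I ^ n).restrictScalars A).mkQ)
    (hreg : ∀ (r : B), r ∈ I → ∀ (Q : Type u) [AddCommGroup Q] [Module A Q] (w : B ⊗[A] Q), (1 - r) • w = 0 → w = 0) :
    FlatCA.UnivInj A f := by
  classical
  intro Q _ _
  have hfin : ∀ (Q : Type u) [AddCommGroup Q] [Module A Q], Module.Finite A Q →
      Function.Injective (f.lTensor Q) := by
    intro Q _ _ hQ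
    haveI := hQ
    rw [LinearMap.lTensor_inj_iff_rTensor_inj]
    refine (injective_iff_map_eq_zero _).mpr fun w hw => ?_
    haveI : IsNoetherianRing B := Algebra.FiniteType.isNoetherianRing A B
    have hmem : ∀ n, w ∈ (I ^ n • ⊤ : Submodule B (B ⊗[A] Q)) := by
      intro n
      let J : Submodule A B := (I ^ n).restrictScalars A
      obtain ⟨g, hgf⟩ := hfac n
      have h0 : J.mkQ.rTensor Q w = 0 := by
        rw [← hgf, LinearMap.rTensor_comp_apply, hw, map_zero]
      obtain ⟨v, hv⟩ := (rTensor_exact Q (LinearMap.exact_subtype_mkQ J) (Submodule.mkQ_surjective J) w).mp h0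
      rw [← hv]
      clear hv h0
      induction v using TensorProduct.induction_on with
      | zero => simp
      | tmul b q =>
        rw [LinearMap.rTensor_tmul, show (J.subtype b) ⊗ₜ[A] q = (b : B) • ((1 : B) ⊗ₜ[A] q) by
          rw [TensorProduct.smul_tmul', smul_eq_mul, mul_one]; rfl]
        exact Submodule.smul_mem_smul b.2 Submodule.mem_top
      | add x y hx hy =>
        rw [map_add]
        exact Submodule.add_mem _ hx hy
    obtain ⟨r, hr⟩ := (Ideal.mem_iInf_smul_pow_eq_bot_iff _ w).mp (Submodule.mem_iInf _ |>.mpr hmem)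
    exact hreg r.1 r.2 Q w ((sub_smul (1 : B) r.1 w).trans (sub_eq_zero.mpr ((one_smul B w).trans hr.symm)))
  refine (injective_iff_map_eq_zero _).mpr fun z hz => ?_
  obtain ⟨N, hN, hsub⟩ := Submodule.exists_fg_le_subset_range_rTensor_subtype {z} (Set.finite_singleton z)
  obtain ⟨z', rfl⟩ := hsub (Set.mem_singleton z)
  have hz' : N.subtype.rTensor Bh (f.lTensor N z') = N.subtype.rTensor Bh 0 := by
    rw [map_zero, ← LinearMap.comp_apply, LinearMap.rTensor_comp_lTensor, ← LinearMap.lTensor_comp_rTensor]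
    exact hz
  obtain ⟨N', hN', hle, heq⟩ := hN.exists_rTensor_fg_inclusion_eq hz'
  rw [map_zero, ← LinearMap.comp_apply, LinearMap.rTensor_comp_lTensor, ← LinearMap.lTensor_comp_rTensor,
    LinearMap.comp_apply] at heq
  have h1 : (N.inclusion hle).rTensor B z' = 0 :=
    (hfin N' (Module.Finite.iff_fg.mpr hN')) (by rw [heq, map_zero])
  rw [← Submodule.subtype_comp_inclusion N N' hle, LinearMap.rTensor_comp_apply, h1, map_zero]

end GrothLib.RGProj13
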