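import Groth.Agent.Lib.RGProj13.AfterEtale

/-!
Projectivity after étale localization along a whole fibre.
-/

set_option autoImplicit false
set_option linter.style.haveILetI false
universe u

open TensorProduct

namespace GrothLib.RGProj13

attribute [local instance] Algebra.TensorProduct.rightAlgebra

/-- An étale piece with unique point over the base point. -/
structure FibrePiece (R S : Type u) [CommRing R] [CommRing S] [Algebra R S] (N : Type u) [AddCommGroup N] [Module S N]
    (p : Ideal R) [p.IsPrime] where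
  A : Type u
  B : Type u
  [cA : CommRing A]
  [cB : CommRing B]
  [aRA : Algebra R A]
  [aSB : Algebra S B]
  [aAB : Algebra A B]
  [aRB : Algebra R B]
  [tRA : IsScalarTower R A B]
  [tRS : IsScalarTower R S B]
  pA : Ideal A
  [hpA : pA.IsPrime]
  nhd : FlatCA.IsEtaleNhd R A p pA
  etale : Algebra.Etale S B
  uniq : ∀ P : Ideal A, P.IsPrime → P.LiesOver p → P = pA
  proj : Module.Projective A (B ⊗[S] N)

attribute [instance] FibrePiece.cA FibrePiece.cB FibrePiece.aRA FibrePiece.aSB FibrePiece.aAB FibrePiece.aRB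
  FibrePiece.tRA FibrePiece.tRS FibrePiece.hpA

variable {R S : Type u} [CommRing R] [CommRing S] [Algebra R S] {N : Type u} [AddCommGroup N] [Module S N]

theorem exists_fibrePiece [Algebra.FinitePresentation R S] [Module R N] [IsScalarTower R S N]
    [Module.FinitePresentation S N] (p : Ideal R) [p.IsPrime] (q : Ideal S) [q.IsPrime] [q.LiesOver p]
    (hflat : FlatCA.FlatAt R q N) :
    ∃ T : FibrePiece R S N p, (⟨q, inferInstance⟩ : PrimeSpectrum S) ∈ Set.range (PrimeSpectrum.comap (algebraMap S T.B)) := by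
  obtain ⟨A, B, _, _, _, _, _, _, _, _, pA, qB, _, _, hpA, hqB, hBA, hproj⟩ := exists_projective_after_etale N p q hflat
  haveI : Algebra.Etale R A := hpA.1
  haveI : Algebra.Etale S B := hqB.1
  obtain ⟨hpo, hpb⟩ := hpA.2
  obtain ⟨hqo, -⟩ := hqB.2
  haveI : Algebra.QuasiFinite R A := inferInstance
  haveI : Algebra.QuasiFiniteAt R pA := inferInstance
  obtain ⟨f, hf, hfo⟩ := Ideal.exists_not_mem_forall_mem_of_ne_of_liesOver p pA
  let A' := Localization.Away f
  let f' := algebraMap A B f
  let B' := Localization.Away f'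
  letI : Algebra A' B' := (IsLocalization.Away.lift f (g := (algebraMap B B').comp (algebraMap A B))
    (IsLocalization.Away.algebraMap_isUnit f')).toAlgebra
  haveI : IsScalarTower A A' B' := IsScalarTower.of_algebraMap_eq fun r => by
    show algebraMap A B' r = IsLocalization.Away.lift f (IsLocalization.Away.algebraMap_isUnit f') (algebraMap A A' r)
    rw [IsLocalization.Away.lift_eq]
    exact IsScalarTower.algebraMap_apply A B B' r
  haveI : IsScalarTower R A' B' := IsScalarTower.of_algebraMap_eq fun r => by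
    rw [IsScalarTower.algebraMap_apply R A A', ← IsScalarTower.algebraMap_apply A A' B',
      ← IsScalarTower.algebraMap_apply R A B']
  haveI : Algebra.Etale B B' := Algebra.Etale.of_isLocalizationAway f'
  have hd : Disjoint (Submonoid.powers f : Set A) pA := Set.disjoint_left.2 fun x hx hxp => by
    obtain ⟨k, rfl⟩ := hx
    exact hf (‹pA.IsPrime›.mem_of_pow_mem k hxp)
  let p' := pA.map (algebraMap A A')
  haveI : p'.IsPrime := IsLocalization.isPrime_of_isPrime_disjoint (Submonoid.powers f) A' pA inferInstance hd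
  have hc : p'.comap (algebraMap A A') = pA :=
    IsLocalization.under_map_of_isPrime_disjoint (Submonoid.powers f) A' ‹_› hd
  haveI : Module.Projective A (B ⊗[S] N) := by
    haveI := hproj
    exact Module.Projective.of_equiv
      ({ (RestrictScalars.addEquiv A B (B ⊗[S] N)) with
         map_smul' := fun a z => by
          show algebraMap A B a • RestrictScalars.addEquiv A B _ z = a • RestrictScalars.addEquiv A B _ z
          rw [algebraMap_smul] } : RestrictScalars A B (B ⊗[S] N) ≃ₗ[A] B ⊗[S] N)
  refine ⟨{ A := A', B := B', pA := p', nhd :=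
      GrothLib.RG6.Dev.isEtaleNhd_trans hpA (GrothLib.RG6.Dev.isEtaleNhd_away A' f pA p' hc)
            etale := Algebra.Etale.comp S B B', uniq := ?_, proj := ?_ }, ?_⟩
  · intro P hP hPp
    rw [← IsLocalization.map_under (Submonoid.powers f) A' P]
    show (P.comap (algebraMap A A')).map (algebraMap A A') = pA.map (algebraMap A A')
    by_contra hne
    have hne' : P.comap (algebraMap A A') ≠ pA := fun h => hne (by rw [h])
    exact hP.ne_top (P.eq_top_of_isUnit_mem (hfo _ inferInstance hne' ⟨by
      show p = (P.comap (algebraMap A A')).comap (algebraMap R A)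
      rw [Ideal.comap_comap, ← IsScalarTower.algebraMap_eq R A A']
      exact hPp.over⟩) (IsLocalization.Away.algebraMap_isUnit f))
  · let M := B ⊗[S] N
    haveI : IsLocalizedModule (Submonoid.powers f') (TensorProduct.mk B B' M 1) :=
      (isLocalizedModule_iff_isBaseChange (Submonoid.powers f') B' _).2 (TensorProduct.isBaseChange B M B')
    haveI : IsLocalizedModule (Submonoid.powers f) ((TensorProduct.mk B B' M 1).restrictScalars A) :=
      isLocalizedModule_restrict f (TensorProduct.mk B B' M 1)
    have hbc : IsBaseChange A' ((TensorProduct.mk B B' M 1).restrictScalars A) :=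
      (isLocalizedModule_iff_isBaseChange (Submonoid.powers f) A' _).1 inferInstance
    haveI : Module.Projective A' (B' ⊗[B] M) := Module.Projective.of_equiv hbc.equiv
    exact Module.Projective.of_equiv ((AlgebraTensorModule.cancelBaseChange S B B' B' N).restrictScalars A')
  · have hf' : f' ∉ qB := fun h => hf (by rw [hBA.over]; exact h)
    obtain ⟨z, hz⟩ : (⟨qB, inferInstance⟩ : PrimeSpectrum B) ∈ Set.range (PrimeSpectrum.comap (algebraMap B B')) := by
      rw [PrimeSpectrum.localization_away_comap_range B' f']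
      exact hf'
    refine ⟨z, PrimeSpectrum.ext ?_⟩
    show z.asIdeal.comap (algebraMap S B') = q
    rw [IsScalarTower.algebraMap_eq S B B', ← Ideal.comap_comap]
    exact (congrArg (fun w : PrimeSpectrum B => w.asIdeal.comap (algebraMap S B)) hz).trans hqo.over.symm

/-- A common refinement of the bases of finitely many pieces. -/
theorem exists_common_base (p : Ideal R) [p.IsPrime] (l : List (FibrePiece R S N p)) :
    ∃ (R' : Type u) (_ : CommRing R') (_ : Algebra R R') (p' : Ideal R') (_ : p'.IsPrime), FlatCA.IsEtaleNhd R R' p p' ∧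
      ∀ T ∈ l, Nonempty (T.A →ₐ[R] R') := by
  induction l with
  | nil => exact ⟨R, inferInstance, Algebra.id R, p, inferInstance, GrothLib.RG6.Dev.isEtaleNhd_refl R p, fun T h => absurd h List.not_mem_nil⟩
  | cons T l ih =>
    obtain ⟨R₁, _, _, p₁, _, h₁, hl⟩ := ih
    haveI : Algebra.Etale R R₁ := h₁.1
    haveI : Algebra.Etale R T.A := T.nhd.1
    obtain ⟨ho₁, hb₁⟩ := h₁.2
    obtain ⟨hoT, -⟩ := T.nhd.2
    haveI := hoT
    obtain ⟨Q, _, hQ₁, hQT, ⟨hQo, hQb⟩, -⟩ := GrothLib.RG6.Dev.exists_baseChange_point (B := T.A) p p₁ ho₁ hb₁ T.pA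
    refine ⟨R₁ ⊗[R] T.A, inferInstance, inferInstance, Q, inferInstance, ?_, fun T' hT' => ?_⟩
    · haveI : Algebra.Etale R (R₁ ⊗[R] T.A) := Algebra.Etale.comp R R₁ (R₁ ⊗[R] T.A)
      haveI : IsScalarTower R T.A (R₁ ⊗[R] T.A) := inferInstance
      haveI : Algebra.Etale T.A (R₁ ⊗[R] T.A) := Algebra.Etale.of_restrictScalars R T.A (R₁ ⊗[R] T.A)
      exact GrothLib.RG6.Dev.isEtaleNhd_trans T.nhd ⟨inferInstance, hQo, hQb⟩
    · rcases List.mem_cons.1 hT' with rfl | h
      · exact ⟨Algebra.TensorProduct.includeRight⟩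
      · obtain ⟨φ⟩ := hl T' h
        exact ⟨(Algebra.TensorProduct.includeLeft : R₁ →ₐ[R] R₁ ⊗[R] T.A).comp φ⟩

/-- A point over a given point exists in the base change to a common refinement. -/
theorem exists_point_of_piece (p : Ideal R) [p.IsPrime] (T : FibrePiece R S N p) {R' : Type u} [CommRing R'] [Algebra R R']
    [Algebra T.A R'] [IsScalarTower R T.A R'] (p' : Ideal R') [p'.IsPrime] (hp' : FlatCA.IsEtaleNhd R R' p p')
    (z : PrimeSpectrum T.B) (hz : (z.asIdeal.comap (algebraMap S T.B)).LiesOver p) :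
    ∃ y : PrimeSpectrum (R' ⊗[T.A] T.B), y.asIdeal.LiesOver p' ∧
      PrimeSpectrum.comap (Algebra.TensorProduct.includeRight (R := T.A) (A := R') (B := T.B)).toRingHom y = z := by
  obtain ⟨ho, hb⟩ := hp'.2
  obtain ⟨hoT, hbT⟩ := T.nhd.2
  have hA : p'.comap (algebraMap T.A R') = T.pA := T.uniq _ inferInstance ⟨by
    show p = (p'.comap (algebraMap T.A R')).comap (algebraMap R T.A)
    rw [Ideal.comap_comap, ← IsScalarTower.algebraMap_eq R T.A R']
    exact ho.over⟩
  haveI hzA : z.asIdeal.LiesOver T.pA := ⟨(T.uniq (z.asIdeal.comap (algebraMap T.A T.B)) inferInstance ⟨by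
    show p = (z.asIdeal.comap (algebraMap T.A T.B)).comap (algebraMap R T.A)
    rw [Ideal.comap_comap, ← IsScalarTower.algebraMap_eq R T.A T.B, IsScalarTower.algebraMap_eq R S T.B, ← Ideal.comap_comap]
    exact hz.over⟩).symm⟩
  have hover : p'.LiesOver T.pA := ⟨hA.symm⟩
  have hb' : Function.Bijective (Ideal.ResidueField.mapₐ T.pA p' (Algebra.ofId T.A R') hover.over) := by
    let m₁ := Ideal.ResidueField.mapₐ p T.pA (Algebra.ofId R T.A) hoT.over
    let m₂ := Ideal.ResidueField.mapₐ T.pA p' (Algebra.ofId T.A R') hover.over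
    let m := Ideal.ResidueField.mapₐ p p' (Algebra.ofId R R') ho.over
    have h : m.toRingHom = m₂.toRingHom.comp m₁.toRingHom := by
      refine Ideal.ResidueField.ringHom_ext (RingHom.ext fun a => ?_)
      show m (algebraMap R p.ResidueField a) = m₂ (m₁ (algebraMap R p.ResidueField a))
      rw [AlgHom.commutes, AlgHom.commutes, IsScalarTower.algebraMap_apply R T.A T.pA.ResidueField, AlgHom.commutes,
        ← IsScalarTower.algebraMap_apply R T.A p'.ResidueField]
    have h' : (m : p.ResidueField → p'.ResidueField) = m₂ ∘ m₁ := funext fun w => RingHom.congr_fun h w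
    refine (Function.Bijective.of_comp_iff _ hbT).1 ?_
    rw [← h']
    exact hb
  obtain ⟨Q, hQ, hQp, hQz, -, -⟩ := GrothLib.RG6.Dev.exists_baseChange_point (B := T.B) T.pA p' hover hb' z.asIdeal
  exact ⟨⟨Q, hQ⟩, hQp, PrimeSpectrum.ext hQz⟩

/-- Projectivity after étale localization along a whole fibre, with points over the new base point. -/
theorem exists_projective_fibre' [Algebra.FinitePresentation R S] [Module R N] [IsScalarTower R S N]
    [Module.FinitePresentation S N] (p : Ideal R) [p.IsPrime]
    (hflat : ∀ (q : Ideal S) [q.IsPrime], q.LiesOver p → FlatCA.FlatAt R q N) :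
    ∃ (R' S' : Type u) (_ : CommRing R') (_ : CommRing S') (_ : Algebra R R') (_ : Algebra S S') (_ : Algebra R' S')
      (_ : Algebra R S') (_ : IsScalarTower R R' S') (_ : IsScalarTower R S S')
      (p' : Ideal R') (_ : p'.IsPrime),
      FlatCA.IsEtaleNhd R R' p p' ∧ Algebra.Etale S S' ∧
      (∀ (q : Ideal S) [q.IsPrime], q.LiesOver p → ∃ q' : Ideal S', q'.IsPrime ∧ q'.comap (algebraMap S S') = q ∧ q'.comap (algebraMap R' S') = p') ∧
      Module.Projective R' (RestrictScalars R' S' (S' ⊗[S] N)) := by
  classical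
  let Z := PrimeSpectrum.comap (algebraMap R S) ⁻¹' {(⟨p, inferInstance⟩ : PrimeSpectrum R)}
  have hZc : IsCompact Z := by
    let e := PrimeSpectrum.preimageHomeomorphFiber R S ⟨p, inferInstance⟩
    haveI : CompactSpace Z := e.symm.compactSpace
    exact isCompact_iff_compactSpace.2 inferInstance
  have hcov : Z ⊆ ⋃ T : FibrePiece R S N p, Set.range (PrimeSpectrum.comap (algebraMap S T.B)) := fun z hz => by
    haveI : z.asIdeal.LiesOver p := ⟨(congrArg PrimeSpectrum.asIdeal (Set.mem_singleton_iff.1 hz)).symm⟩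
    obtain ⟨T, hT⟩ := exists_fibrePiece (N := N) p z.asIdeal (hflat _ inferInstance)
    exact Set.mem_iUnion.2 ⟨T, hT⟩
  obtain ⟨t, ht⟩ := hZc.elim_finite_subcover _ (fun T => by
    haveI := T.etale
    exact (PrimeSpectrum.isOpenMap_comap_of_hasGoingDown_of_finitePresentation (R := S) (S := T.B)).isOpen_range) hcov
  obtain ⟨R', _, _, p', _, hp', hhom⟩ := exists_common_base p t.toList
  haveI : Algebra.Etale R R' := hp'.1
  let Tp : Fin t.card → FibrePiece R S N p := fun i => (t.equivFin.symm i).1
  let ψ : ∀ i, (Tp i).A →ₐ[R] R' := fun i => (hhom (Tp i) (Finset.mem_toList.2 (t.equivFin.symm i).2)).some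
  letI : ∀ T : Fin t.card, Algebra (Tp T).A R' := fun T => (ψ T).toRingHom.toAlgebra
  haveI : ∀ T : Fin t.card, IsScalarTower R (Tp T).A R' := fun T => IsScalarTower.of_algebraMap_eq fun r => ((ψ T).commutes r).symm
  let C : Fin t.card → Type u := fun T => R' ⊗[(Tp T).A] (Tp T).B
  letI aSC : ∀ T : Fin t.card, Algebra S (C T) := fun T => ((algebraMap (Tp T).B (R' ⊗[(Tp T).A] (Tp T).B)).comp (algebraMap S (Tp T).B)).toAlgebra
  haveI : ∀ T : Fin t.card, IsScalarTower S (Tp T).B (C T) := fun T => IsScalarTower.of_algebraMap_eq fun _ => rfl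
  haveI tRC : ∀ T : Fin t.card, IsScalarTower R S (C T) := fun T => IsScalarTower.of_algebraMap_eq fun r => by
    show algebraMap R R' r ⊗ₜ[(Tp T).A] (1 : (Tp T).B) = (1 : R') ⊗ₜ[(Tp T).A] algebraMap S (Tp T).B (algebraMap R S r)
    rw [← IsScalarTower.algebraMap_apply R S (Tp T).B, IsScalarTower.algebraMap_apply R (Tp T).A (Tp T).B,
      Algebra.algebraMap_eq_smul_one (A := (Tp T).B), ← TensorProduct.smul_tmul, Algebra.smul_def, mul_one,
      ← IsScalarTower.algebraMap_apply R (Tp T).A R']
  haveI : ∀ T : Fin t.card, Algebra.Etale S (C T) := fun T => by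
    haveI := (Tp T).etale
    haveI : Algebra.Etale R (Tp T).A := (Tp T).nhd.1
    haveI : Algebra.Etale (Tp T).A R' := Algebra.Etale.of_restrictScalars R (Tp T).A R'
    haveI : Algebra.Etale (Tp T).B (C T) := Algebra.Etale.of_equiv
      (show (Tp T).B ⊗[(Tp T).A] R' ≃ₐ[(Tp T).B] C T from
        AlgEquiv.ofRingEquiv (f := (Algebra.TensorProduct.comm (Tp T).A (Tp T).B R').toRingEquiv) fun _ => rfl)
    exact Algebra.Etale.comp S (Tp T).B (C T)
  let S' := ∀ T : Fin t.card, C T
  haveI : IsScalarTower R S S' := IsScalarTower.of_algebraMap_eq fun r =>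
    funext fun T => IsScalarTower.algebraMap_apply R S (C T) r
  haveI : IsScalarTower R R' S' := IsScalarTower.of_algebraMap_eq fun r =>
    funext fun T => IsScalarTower.algebraMap_apply R R' (C T) r
  refine ⟨R', S', inferInstance, inferInstance, inferInstance, inferInstance, inferInstance, inferInstance, inferInstance,
    inferInstance, p', inferInstance, hp', inferInstance, fun q _ hq => ?_, ?_⟩
  · have hqZ : (⟨q, inferInstance⟩ : PrimeSpectrum S) ∈ Z := Set.mem_singleton_iff.2 (PrimeSpectrum.ext hq.over.symm)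
    obtain ⟨T, hT, z, hz⟩ := Set.mem_iUnion₂.1 (ht hqZ)
    obtain ⟨i, rfl⟩ : ∃ i, Tp i = T := ⟨t.equivFin ⟨T, hT⟩, by simp [Tp]⟩
    obtain ⟨y, hyp, hy⟩ := exists_point_of_piece p (Tp i) (R' := R') p' hp' z (by
      rw [show z.asIdeal.comap (algebraMap S (Tp i).B) = q from congrArg PrimeSpectrum.asIdeal hz]
      exact hq)
    refine ⟨y.asIdeal.comap (Pi.evalRingHom C i), inferInstance, ?_, ?_⟩
    swap
    · rw [Ideal.comap_comap]
      exact hyp.over.symm
    rw [Ideal.comap_comap]
    refine Eq.trans ?_ (congrArg PrimeSpectrum.asIdeal hz)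
    subst hy
    rfl
  · haveI : ∀ T : Fin t.card, Module.Projective R' (C T ⊗[S] N) := fun T => by
      haveI := (Tp T).proj
      exact Module.Projective.of_equiv (((Algebra.IsPushout.cancelBaseChange (Tp T).A R' (Tp T).B (C T) ((Tp T).B ⊗[S] N)).symm) ≪≫ₗ
        (AlgebraTensorModule.cancelBaseChange S (Tp T).B (C T) (C T) N).restrictScalars R')
    let eL := TensorProduct.piLeft (R := S) (M := C) (N := N)
    have hL : ∀ (a : R') (z : S' ⊗[S] N), eL (a • z) = a • eL z := fun a z => by
      induction z using TensorProduct.induction_on with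
      | zero =>
        refine (congrArg eL (smul_zero (A := S' ⊗[S] N) a)).trans ?_
        rw [map_zero]
        exact funext fun T => (smul_zero (A := C T ⊗[S] N) a).symm
      | add u v hu hv =>
        refine (congrArg eL (smul_add (A := S' ⊗[S] N) a u v)).trans ?_
        rw [map_add, map_add, hu, hv]
        exact funext fun T => (smul_add (A := C T ⊗[S] N) a _ _).symm
      | tmul c n =>
        funext T
        simp [eL, TensorProduct.smul_tmul']
        rfl
    let eP : S' ⊗[S] N ≃ₗ[R'] ∀ T : Fin t.card, C T ⊗[S] N := { eL.toAddEquiv with map_smul' := hL }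
    haveI : Module.Projective R' (S' ⊗[S] N) := by
      haveI : Module.Projective R' (∀ T : Fin t.card, C T ⊗[S] N) :=
        Module.Projective.of_equiv (DFinsupp.linearEquivFunOnFintype (R := R') (M := fun T : Fin t.card => C T ⊗[S] N))
      exact Module.Projective.of_equiv eP.symm
    let eR : S' ⊗[S] N ≃ₗ[R'] RestrictScalars R' S' (S' ⊗[S] N) :=
      { (RestrictScalars.addEquiv R' S' (S' ⊗[S] N)).symm with
        map_smul' := fun a z => by
          show a • z = algebraMap R' S' a • z
          rw [algebraMap_smul] }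
    exact Module.Projective.of_equiv eR

/-- Projectivity after étale localization along a whole fibre. -/
theorem exists_projective_fibre [Algebra.FinitePresentation R S] [Module R N] [IsScalarTower R S N]
    [Module.FinitePresentation S N] (p : Ideal R) [p.IsPrime]
    (hflat : ∀ (q : Ideal S) [q.IsPrime], q.LiesOver p → FlatCA.FlatAt R q N) :
    ∃ (R' S' : Type u) (_ : CommRing R') (_ : CommRing S') (_ : Algebra R R') (_ : Algebra S S') (_ : Algebra R' S')
      (_ : Algebra R S') (_ : IsScalarTower R R' S') (_ : IsScalarTower R S S')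
      (p' : Ideal R') (_ : p'.IsPrime),
      FlatCA.IsEtaleNhd R R' p p' ∧ Algebra.Etale S S' ∧
      (∀ (q : Ideal S) [q.IsPrime], q.LiesOver p → ∃ q' : Ideal S', q'.IsPrime ∧ q'.comap (algebraMap S S') = q) ∧
      Module.Projective R' (RestrictScalars R' S' (S' ⊗[S] N)) := by
  obtain ⟨R', S', _, _, _, _, _, _, _, _, p', _, hp', hS, hq, hproj⟩ := exists_projective_fibre' (N := N) p hflat
  exact ⟨R', S', inferInstance, inferInstance, inferInstance, inferInstance, inferInstance, inferInstance, inferInstance,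
    inferInstance, p', inferInstance, hp', hS,
    fun q _ hqp => (hq q hqp).imp fun q' h => ⟨h.1, h.2.1⟩, hproj⟩

end GrothLib.RGProj13
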