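import Groth.Agent.Lib.RG6.Dev.Models
import Groth.Agent.Lib.RG6.Dev.Nbhd
import Groth.Agent.Lib.RGProj13.UnramifiedFlat
import Groth.Agent.Lib.QuasiFlat.BaseChange
import Groth.Agent.S0387
import Groth.Agent.S1254

/-!
A module flat at a point becomes projective over the base after étale localization.
-/

set_option autoImplicit false
set_option linter.style.haveILetI false
universe u

open TensorProduct
open FlatMor

namespace GrothLib.RGProj13

/-- Localizations of a base change to a localization are localizations of the module. -/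
theorem nonempty_localized_baseChange {S S₀ : Type u} [CommRing S] [CommRing S₀] [Algebra S S₀] (g : S)
    [IsLocalization.Away g S₀] (N : Type u) [AddCommGroup N] [Module S N] (P : Ideal S₀) [P.IsPrime] :
    Nonempty (LocalizedModule P.primeCompl (S₀ ⊗[S] N) ≃ₗ[S] LocalizedModule (P.comap (algebraMap S S₀)).primeCompl N) := by
  let L := Localization.AtPrime P
  haveI : IsLocalization.AtPrime L (P.comap (algebraMap S S₀)) :=
    IsLocalization.isLocalization_isLocalization_atPrime_isLocalization (Submonoid.powers g) L P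
  let fN : N →ₗ[S] L ⊗[S] N := TensorProduct.mk S L N 1
  haveI : IsLocalizedModule (P.comap (algebraMap S S₀)).primeCompl fN :=
    (isLocalizedModule_iff_isBaseChange _ L fN).2 (TensorProduct.isBaseChange S N L)
  exact ⟨(LocalizedModule.equivTensorProduct P.primeCompl (S₀ ⊗[S] N) ≪≫ₗ
    AlgebraTensorModule.cancelBaseChange S S₀ L L N).restrictScalars S ≪≫ₗ
    (IsLocalizedModule.iso (P.comap (algebraMap S S₀)).primeCompl fN).symm⟩

/-- Restriction of a localization at a principal open to the base. -/
theorem isLocalizedModule_restrict {R S M M' : Type u} [CommRing R] [CommRing S] [Algebra R S] [AddCommGroup M]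
    [Module S M] [Module R M] [IsScalarTower R S M] [AddCommGroup M'] [Module S M'] [Module R M'] [IsScalarTower R S M']
    (f : R) (g : M →ₗ[S] M') [IsLocalizedModule (Submonoid.powers (algebraMap R S f)) g] :
    IsLocalizedModule (Submonoid.powers f) (g.restrictScalars R) := by
  have hmap : ∀ (k : ℕ) (y : M'), f ^ k • y = (algebraMap R S f) ^ k • y := fun k y => by
    rw [← map_pow, algebraMap_smul]
  have hmapM : ∀ (k : ℕ) (y : M), f ^ k • y = (algebraMap R S f) ^ k • y := fun k y => by
    rw [← map_pow, algebraMap_smul]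
  refine ⟨fun x => ?_, fun y => ?_, fun {x₁ x₂} h => ?_⟩
  · obtain ⟨_, k, rfl⟩ := x
    have h1 := IsLocalizedModule.map_units g
      (⟨_, k, rfl⟩ : Submonoid.powers (algebraMap R S f))
    rw [Module.End.isUnit_iff] at h1 ⊢
    have : ⇑(algebraMap R (Module.End R M') (f ^ k)) = ⇑(algebraMap S (Module.End S M') ((algebraMap R S f) ^ k)) :=
      funext fun y => hmap k y
    exact this ▸ h1
  · obtain ⟨⟨m, ⟨_, k, rfl⟩⟩, hm⟩ := IsLocalizedModule.surj (Submonoid.powers (algebraMap R S f)) g y
    exact ⟨⟨m, ⟨_, k, rfl⟩⟩, (hmap k y).trans hm⟩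
  · obtain ⟨⟨_, k, rfl⟩, hc⟩ := IsLocalizedModule.exists_of_eq (S := Submonoid.powers (algebraMap R S f)) (f := g) h
    exact ⟨⟨_, k, rfl⟩, (hmapM k x₁).trans (hc.trans (hmapM k x₂).symm)⟩

/-- A module flat at a point becomes projective over the base after étale localization. -/
theorem exists_projective_after_etale {R S : Type u} [CommRing R] [CommRing S] [Algebra R S]
    [Algebra.FinitePresentation R S] (N : Type u) [AddCommGroup N] [Module S N] [Module R N] [IsScalarTower R S N]
    [Module.FinitePresentation S N] (p : Ideal R) [p.IsPrime] (q : Ideal S) [q.IsPrime] [q.LiesOver p]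
    (hflat : FlatCA.FlatAt R q N) :
    ∃ (R' S' : Type u) (_ : CommRing R') (_ : CommRing S') (_ : Algebra R R') (_ : Algebra S S') (_ : Algebra R' S')
      (_ : Algebra R S') (_ : IsScalarTower R R' S') (_ : IsScalarTower R S S')
      (p' : Ideal R') (q' : Ideal S') (_ : p'.IsPrime) (_ : q'.IsPrime),
      FlatCA.IsEtaleNhd R R' p p' ∧ FlatCA.IsEtaleNhd S S' q q' ∧ q'.LiesOver p' ∧
      Module.Projective R' (RestrictScalars R' S' (S' ⊗[S] N)) := by
  classical
  by_cases hann : Module.annihilator S N ≤ q
  swap
  · obtain ⟨s, hs, hsq⟩ := SetLike.not_le_iff_exists.1 hann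
    let S' := Localization.Away s
    have hd : Disjoint (Submonoid.powers s : Set S) q := Set.disjoint_left.2 fun x hx hxq => by
      obtain ⟨k, rfl⟩ := hx
      exact hsq (‹q.IsPrime›.mem_of_pow_mem k hxq)
    let q' := q.map (algebraMap S S')
    haveI : q'.IsPrime := IsLocalization.isPrime_of_isPrime_disjoint (Submonoid.powers s) S' q inferInstance hd
    have hq' : q'.comap (algebraMap S S') = q :=
      IsLocalization.under_map_of_isPrime_disjoint (Submonoid.powers s) S' ‹_› hd
    have hzero : ∀ z : S' ⊗[S] N, z = 0 := fun z => by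
      induction z using TensorProduct.induction_on with
      | zero => rfl
      | add a b ha hb => rw [ha, hb, add_zero]
      | tmul a n =>
        obtain ⟨u, hu⟩ := IsLocalization.Away.algebraMap_isUnit (S := S') s
        rw [show a = s • (↑u⁻¹ * a) by rw [Algebra.smul_def, ← hu, Units.mul_inv_cancel_left],
          TensorProduct.smul_tmul, Module.mem_annihilator.1 hs n, TensorProduct.tmul_zero]
    haveI : Subsingleton (RestrictScalars R S' (S' ⊗[S] N)) := ⟨fun a b => (hzero a).trans (hzero b).symm⟩
    exact ⟨R, S', inferInstance, inferInstance, Algebra.id R, inferInstance, inferInstance, inferInstance, inferInstance,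
      inferInstance, p, q', inferInstance, inferInstance, GrothLib.RG6.Dev.isEtaleNhd_refl R p,
      GrothLib.RG6.Dev.isEtaleNhd_away S' s q q' hq',
      ⟨by
        show p = q'.comap (algebraMap R S')
        rw [IsScalarTower.algebraMap_eq R S S', ← Ideal.comap_comap, hq']
        exact q.over_def p⟩,
      inferInstance⟩
  -- shrink to the flat locus
  obtain ⟨_, ⟨g, rfl⟩, hgq, hgU⟩ := PrimeSpectrum.isTopologicalBasis_basic_opens.exists_subset_of_mem_open
    (show (⟨q, inferInstance⟩ : PrimeSpectrum S) ∈ {x : PrimeSpectrum S | Module.Flat R (LocalizedModule x.asIdeal.primeCompl N)}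
      from hflat) (Groth.Agent.S0387.result (R := R) (S := S) (M := N))
  let S₀ := Localization.Away g
  let N₀ := S₀ ⊗[S] N
  have hd : Disjoint (Submonoid.powers g : Set S) q := Set.disjoint_left.2 fun x hx hxq => by
    obtain ⟨k, rfl⟩ := hx
    exact hgq (‹q.IsPrime›.mem_of_pow_mem k hxq)
  let q₀ := q.map (algebraMap S S₀)
  haveI : q₀.IsPrime := IsLocalization.isPrime_of_isPrime_disjoint (Submonoid.powers g) S₀ q inferInstance hd
  have hq₀ : q₀.comap (algebraMap S S₀) = q :=
    IsLocalization.under_map_of_isPrime_disjoint (Submonoid.powers g) S₀ ‹_› hd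
  haveI : q₀.LiesOver q := ⟨hq₀.symm⟩
  haveI : q₀.LiesOver p := Ideal.LiesOver.trans q₀ q p
  haveI : Algebra.FinitePresentation S S₀ := IsLocalization.Away.finitePresentation g
  haveI : Algebra.FinitePresentation R S₀ := Algebra.FinitePresentation.trans R S S₀
  haveI : Module.Flat R N₀ := by
    refine Module.flat_of_isLocalized_maximal (R := R) S₀ N₀ (fun P => LocalizedModule P.primeCompl N₀)
      (fun P _ => LocalizedModule.mkLinearMap P.primeCompl N₀) fun P hP => ?_
    obtain ⟨e⟩ := nonempty_localized_baseChange g N P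
    haveI : Module.Flat R (LocalizedModule (P.comap (algebraMap S S₀)).primeCompl N) :=
      hgU (a := ⟨P.comap (algebraMap S S₀), inferInstance⟩) (show g ∉ P.comap (algebraMap S S₀) from fun h =>
        hP.ne_top (P.eq_top_of_isUnit_mem h (IsLocalization.Away.algebraMap_isUnit g)))
    exact Module.Flat.of_linearEquiv (e.restrictScalars R)
  have hann₀ : Module.annihilator S₀ N₀ ≤ q₀ := by
    have h1 : (⟨q, inferInstance⟩ : PrimeSpectrum S) ∈ Module.support S N := by
      rw [Module.support_eq_zeroLocus]
      exact hann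
    have h2 : (⟨q₀, inferInstance⟩ : PrimeSpectrum S₀) ∈ Module.support S₀ N₀ := by
      rw [Module.mem_support_iff] at h1 ⊢
      obtain ⟨e⟩ := nonempty_localized_baseChange g N q₀
      haveI : Nontrivial (LocalizedModule (q₀.comap (algebraMap S S₀)).primeCompl N) := by
        have key : ∀ (J : Ideal S) (_ : J.IsPrime), J = q → Nontrivial (LocalizedModule J.primeCompl N) := by
          rintro J hJ rfl; exact h1
        exact key _ inferInstance hq₀
      exact e.toEquiv.nontrivial
    rw [Module.support_eq_zeroLocus] at h2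
    exact h2
  obtain ⟨R', S', _, _, _, _, _, _, _, _, p', q', _, _, hp', hq', hqp', hdev⟩ :=
    GrothLib.RG6.Dev.exists_completeDevissage_etale N₀ p q₀ hann₀
  haveI : Algebra.Etale R R' := hp'.1
  haveI : Algebra.Etale S₀ S' := hq'.1
  let N' := S' ⊗[S₀] N₀
  haveI : Algebra.FinitePresentation R S' := Algebra.FinitePresentation.trans R S₀ S'
  haveI : Algebra.FinitePresentation R' S' := Algebra.FinitePresentation.of_restrict_scalars_finitePresentation R R' S'
  haveI : Module.Flat R N' := GrothLib.QuasiFlat.flat_tensor (C := R) (T := S₀) S' N₀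
  haveI : Module.Flat R' N' := flat_of_unramified_module R R' N'
  obtain ⟨D, -⟩ := hdev N' (TensorProduct.mk S₀ S' N₀ 1) (TensorProduct.isBaseChange S₀ N₀ S')
  obtain ⟨f, hf, hproj, -⟩ := Groth.Agent.S1254.result N' p' D
  haveI := hproj
  let R'' := Localization.Away f
  let f' := algebraMap R' S' f
  let S'' := Localization.Away f'
  letI : Algebra R'' S'' := (IsLocalization.Away.lift f (g := (algebraMap S' S'').comp (algebraMap R' S'))
    (IsLocalization.Away.algebraMap_isUnit f')).toAlgebra
  haveI : IsScalarTower R' R'' S'' := IsScalarTower.of_algebraMap_eq fun r => by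
    show algebraMap R' S'' r = IsLocalization.Away.lift f (IsLocalization.Away.algebraMap_isUnit f') (algebraMap R' R'' r)
    rw [IsLocalization.Away.lift_eq]
    exact IsScalarTower.algebraMap_apply R' S' S'' r
  haveI : IsScalarTower R R'' S'' := IsScalarTower.of_algebraMap_eq fun r => by
    rw [IsScalarTower.algebraMap_apply R R' R'', ← IsScalarTower.algebraMap_apply R' R'' S'',
      IsScalarTower.algebraMap_apply R' S' S'', ← IsScalarTower.algebraMap_apply R R' S']
    exact IsScalarTower.algebraMap_apply R S' S'' r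
  letI : Algebra S S' := ((algebraMap S₀ S').comp (algebraMap S S₀)).toAlgebra
  haveI : IsScalarTower S S₀ S' := IsScalarTower.of_algebraMap_eq fun _ => rfl
  haveI : IsScalarTower R S S'' := IsScalarTower.of_algebraMap_eq fun r => by
    show algebraMap R S'' r = algebraMap S' S'' (algebraMap S₀ S' (algebraMap S S₀ (algebraMap R S r)))
    rw [← IsScalarTower.algebraMap_apply R S S₀, ← IsScalarTower.algebraMap_apply R S₀ S',
      ← IsScalarTower.algebraMap_apply R S' S'']
  -- the points
  have hdR : Disjoint (Submonoid.powers f : Set R') p' := Set.disjoint_left.2 fun x hx hxp => by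
    obtain ⟨k, rfl⟩ := hx
    exact hf (‹p'.IsPrime›.mem_of_pow_mem k hxp)
  have hf' : f' ∉ q' := fun h => hf (by rw [hqp'.over]; exact h)
  have hdS : Disjoint (Submonoid.powers f' : Set S') q' := Set.disjoint_left.2 fun x hx hxp => by
    obtain ⟨k, rfl⟩ := hx
    exact hf' (‹q'.IsPrime›.mem_of_pow_mem k hxp)
  let p'' := p'.map (algebraMap R' R'')
  let q'' := q'.map (algebraMap S' S'')
  haveI : p''.IsPrime := IsLocalization.isPrime_of_isPrime_disjoint (Submonoid.powers f) R'' p' inferInstance hdR
  haveI : q''.IsPrime := IsLocalization.isPrime_of_isPrime_disjoint (Submonoid.powers f') S'' q' inferInstance hdS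
  have hcR : p''.comap (algebraMap R' R'') = p' :=
    IsLocalization.under_map_of_isPrime_disjoint (Submonoid.powers f) R'' ‹_› hdR
  have hcS : q''.comap (algebraMap S' S'') = q' :=
    IsLocalization.under_map_of_isPrime_disjoint (Submonoid.powers f') S'' ‹_› hdS
  have hover : q''.LiesOver p'' := ⟨by
    have h : (q''.comap (algebraMap R'' S'')).comap (algebraMap R' R'') = p' := by
      rw [Ideal.comap_comap, ← IsScalarTower.algebraMap_eq R' R'' S'', IsScalarTower.algebraMap_eq R' S' S'',
        ← Ideal.comap_comap, hcS]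
      exact hqp'.over.symm
    show p'' = q''.comap (algebraMap R'' S'')
    rw [← IsLocalization.map_under (Submonoid.powers f) R'' (q''.comap (algebraMap R'' S''))]
    exact congrArg (Ideal.map (algebraMap R' R'')) h.symm⟩
  refine ⟨R'', S'', inferInstance, inferInstance, inferInstance, inferInstance, inferInstance, inferInstance, inferInstance,
    inferInstance, p'', q'', inferInstance, inferInstance,
    GrothLib.RG6.Dev.isEtaleNhd_trans hp' (GrothLib.RG6.Dev.isEtaleNhd_away R'' f p' p'' hcR),
    GrothLib.RG6.Dev.isEtaleNhd_trans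
      (GrothLib.RG6.Dev.isEtaleNhd_trans (GrothLib.RG6.Dev.isEtaleNhd_away S₀ g q q₀ hq₀) hq')
      (GrothLib.RG6.Dev.isEtaleNhd_away S'' f' q' q'' hcS), hover, ?_⟩
  -- the module
  let P := S'' ⊗[S'] N'
  haveI : IsLocalizedModule (Submonoid.powers f') (TensorProduct.mk S' S'' N' 1) :=
    (isLocalizedModule_iff_isBaseChange (Submonoid.powers f') S'' _).2 (TensorProduct.isBaseChange S' N' S'')
  haveI : IsLocalizedModule (Submonoid.powers f) ((TensorProduct.mk S' S'' N' 1).restrictScalars R') :=
    isLocalizedModule_restrict f (TensorProduct.mk S' S'' N' 1)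
  have hbc : IsBaseChange R'' ((TensorProduct.mk S' S'' N' 1).restrictScalars R') :=
    (isLocalizedModule_iff_isBaseChange (Submonoid.powers f) R'' _).1 inferInstance
  let ePN : P ≃ₗ[S''] S'' ⊗[S] N :=
    AlgebraTensorModule.congr (LinearEquiv.refl S'' S'') (AlgebraTensorModule.cancelBaseChange S S₀ S' S' N) ≪≫ₗ
      AlgebraTensorModule.cancelBaseChange S S' S'' S'' N
  let eR : P ≃ₗ[R''] RestrictScalars R'' S'' (S'' ⊗[S] N) :=
    { (ePN.toAddEquiv.trans (RestrictScalars.addEquiv R'' S'' (S'' ⊗[S] N)).symm) with
      map_smul' := fun a z => by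
        show ePN (a • z) = algebraMap R'' S'' a • ePN z
        rw [← map_smul, algebraMap_smul] }
  exact Module.Projective.of_equiv ((LocalizedModule.equivTensorProduct (Submonoid.powers f) N') ≪≫ₗ hbc.equiv ≪≫ₗ eR)

end GrothLib.RGProj13
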