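import Groth.Agent.Lib.RGProj13.FlatML
import Groth.Agent.Lib.Flatness.InjMod
import Groth.Agent.Lib.FlatFP.InjCoker
import Groth.Agent.Lib.FreeStrat3.Main
import Groth.Agent.Lib.QuasiFlat.BaseChange
import Groth.Agent.Lib.RGProj13.AfterEtale
import Groth.Agent.Lib.ML.Ops
import Groth.Agent.Lib.IndEt.Retract

/-!
Inverting an element which is regular on a fibre keeps a module projective near the prime.
-/

set_option autoImplicit false
set_option linter.style.haveILetI false
universe u

open TensorProduct

namespace GrothLib.RGProj13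

/-- A map from a projective module over a local ring, injective modulo the maximal ideal, into a flat
module is injective with flat cokernel. -/
theorem injective_flat_coker_of_residue {R : Type u} [CommRing R] [IsLocalRing R] {M N : Type u} [AddCommGroup M]
    [Module R M] [Module.Flat R M] [AddCommGroup N] [Module R N] [Module.Projective R N] (u : N →ₗ[R] M)
    (h : Function.Injective (u.lTensor (IsLocalRing.ResidueField R))) :
    Function.Injective u ∧ Module.Flat R (M ⧸ LinearMap.range u) := by
  classical
  obtain ⟨s, hs⟩ := Module.projective_def'.1 ‹Module.Projective R N›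
  let lc : (N →₀ R) →ₗ[R] N := Finsupp.linearCombination R id
  let w : (N →₀ R) →ₗ[R] M × (N →₀ R) := (u ∘ₗ lc).prod (LinearMap.id - s ∘ₗ lc)
  let v : N → M × (N →₀ R) := fun n => w (Finsupp.single n 1)
  have hlc : ∀ a, Finsupp.linearCombination R v a = w a := fun a => by
    refine (LinearMap.congr_fun (show Finsupp.linearCombination R v = w from ?_) a)
    exact Finsupp.lhom_ext' fun n => LinearMap.ext_ring (by simp [v])
  let k := IsLocalRing.ResidueField R
  have hwk : Function.Injective (w.baseChange k) := by
    rw [injective_iff_map_eq_zero]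
    intro z hz
    change w.lTensor k z = 0 at hz
    have h1 : u.lTensor k (lc.lTensor k z) = 0 := by
      have := congrArg ((LinearMap.fst R M (N →₀ R)).lTensor k) hz
      rwa [map_zero, ← LinearMap.lTensor_comp_apply, LinearMap.fst_prod, LinearMap.lTensor_comp_apply] at this
    have h2 : z - s.lTensor k (lc.lTensor k z) = 0 := by
      have := congrArg ((LinearMap.snd R M (N →₀ R)).lTensor k) hz
      rwa [map_zero, ← LinearMap.lTensor_comp_apply, LinearMap.snd_prod, LinearMap.lTensor_sub, LinearMap.lTensor_id,
        LinearMap.sub_apply, LinearMap.id_apply, LinearMap.lTensor_comp_apply] at this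
    rw [(map_eq_zero_iff _ h).1 h1, map_zero, sub_zero] at h2
    exact h2
  have hli : LinearIndependent k (TensorProduct.mk R k (M × (N →₀ R)) 1 ∘ v) := by
    have hb := ((Finsupp.basisSingleOne (R := R) (ι := N)).baseChange k).linearIndependent.map'
      (w.baseChange k) (LinearMap.ker_eq_bot.2 hwk)
    have heq : TensorProduct.mk R k (M × (N →₀ R)) 1 ∘ v =
        w.baseChange k ∘ ((Finsupp.basisSingleOne (R := R) (ι := N)).baseChange k) := by
      funext n
      simp [v]
    rw [heq]
    exact hb
  haveI : Module.Flat R (M × (N →₀ R)) := GrothLib.IndEt.flat_prod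
  refine (fun ⟨a, b, _⟩ => ⟨a, b⟩) (GrothLib.Flatness.flat_coker_of_forall_mem u fun J x hx => ?_)
  have hsx : lc (s x) = x := LinearMap.congr_fun hs x
  have hw : w (s x) = (u x, 0) := by
    refine Prod.ext ?_ ?_
    · show u (lc (s x)) = u x
      rw [hsx]
    · show s x - s (lc (s x)) = 0
      rw [hsx, sub_self]
  have hmem : Finsupp.linearCombination R v (s x) ∈ J • (⊤ : Submodule R (M × (N →₀ R))) := by
    rw [hlc, hw, show ((u x, 0) : M × (N →₀ R)) = LinearMap.inl R M (N →₀ R) (u x) from rfl]
    have := Submodule.mem_map_of_mem (f := LinearMap.inl R M (N →₀ R)) hx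
    rw [Submodule.map_smul''] at this
    exact Submodule.smul_mono le_rfl le_top this
  have hc := GrothLib.Flatness.mem_smul_top_of_linearIndependent v hli J (s x) hmem
  rw [← hsx]
  simp only [lc, Finsupp.linearCombination_apply]
  exact Submodule.sum_mem _ fun i _ => Submodule.smul_mem_smul (hc i) trivial

/-- A finite module over a finite type algebra is countably generated over the base. -/
theorem countablyGenerated_of_finite {A B M : Type u} [CommRing A] [CommRing B] [Algebra A B] [Algebra.FiniteType A B]
    [AddCommGroup M] [Module B M] [Module A M] [IsScalarTower A B M] [Module.Finite B M] :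
    CAlg.IsCountablyGenerated A M := by
  obtain ⟨s, hs, hspan⟩ := countablyGenerated_of_finiteType A B
  obtain ⟨t, ht⟩ := Module.Finite.fg_top (R := B) (M := M)
  refine ⟨Set.image2 (fun b m => b • m) s (t : Set M), hs.image2 t.countable_toSet _, ?_⟩
  exact (Submodule.span_smul_of_span_eq_top hspan (t : Set M)).trans (by rw [ht, Submodule.restrictScalars_top])

/-- Inverting an element acting universally injectively keeps a module projective. -/
theorem projective_localization {A B M : Type u} [CommRing A] [CommRing B] [Algebra A B] [Algebra.FiniteType A B]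
    [AddCommGroup M] [Module B M] [Module A M] [IsScalarTower A B M] [Module.Finite B M] [Module.Projective A M] (g : B)
    (hinj : FlatCA.UnivInj A ((LinearMap.lsmul B M g).restrictScalars A))
    (D : Type u) [CommRing D] [Algebra B D] [Algebra A D] [IsScalarTower A B D] [IsLocalization.Away g D] :
    Module.Projective A (D ⊗[B] M) := by
  let N := D ⊗[B] M
  let ι : M →ₗ[B] N := TensorProduct.mk B D M 1
  haveI : IsLocalizedModule (Submonoid.powers g) ι :=
    (isLocalizedModule_iff_isBaseChange (Submonoid.powers g) D _).2 (TensorProduct.isBaseChange B M D)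
  haveI : Algebra.FinitePresentation B D := IsLocalization.Away.finitePresentation g
  haveI : Algebra.FiniteType A D := Algebra.FiniteType.trans (S := B) inferInstance inferInstance
  haveI : Module.Flat B D := IsLocalization.flat D (Submonoid.powers g)
  haveI : Module.Flat A N := GrothLib.QuasiFlat.flat_tensor (C := A) (T := B) D M
  have hsm : ∀ (Q : Type u) [AddCommGroup Q] [Module A Q] (n : ℕ) (y : M ⊗[A] Q), g ^ n • y = 0 → y = 0 := by
    intro Q _ _ n
    induction n with
    | zero => intro y hy; rwa [pow_zero, one_smul] at hy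
    | succ n ih =>
      intro y hy
      refine ih y ?_
      refine (LinearMap.lTensor_inj_iff_rTensor_inj Q _).1 (hinj Q) ?_
      rw [map_zero, ← hy, pow_succ', mul_smul]
      generalize g ^ n • y = z
      induction z using TensorProduct.induction_on with
      | zero => simp
      | add a b ha hb => rw [map_add, smul_add, ha, hb]
      | tmul m q => rfl
  have hι : ∀ (Q : Type u) [AddCommGroup Q] [Module A Q], Function.Injective ((ι.restrictScalars A).rTensor Q) := by
    intro Q _ _
    rw [injective_iff_map_eq_zero]
    intro y hy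
    haveI : IsLocalizedModule (Submonoid.powers g) (AlgebraTensorModule.rTensor A Q ι) := inferInstance
    have h0 : AlgebraTensorModule.rTensor A Q ι y = 0 := hy
    obtain ⟨⟨_, n, rfl⟩, hn⟩ := IsLocalizedModule.eq_zero_iff (Submonoid.powers g) (AlgebraTensorModule.rTensor A Q ι) |>.1 h0
    exact hsm Q n y hn
  refine GrothLib.ML.projective_of_countable ?_ (countablyGenerated_of_finite (B := D))
  intro ι' Q _ _
  rw [injective_iff_map_eq_zero]
  intro z hz
  have hM : CAlg.IsMittagLeffler A M := GrothLib.ML.ml_of_projective M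
  obtain ⟨⟨y, ⟨_, n, rfl⟩⟩, hn⟩ :=
    IsLocalizedModule.surj (Submonoid.powers g) (AlgebraTensorModule.rTensor A (∀ i, Q i) ι) z
  change g ^ n • z = AlgebraTensorModule.rTensor A (∀ i, Q i) ι y at hn
  let e : N →ₗ[A] N := (LinearMap.lsmul B N (g ^ n)).restrictScalars A
  have he : ∀ (X : Type u) [AddCommGroup X] [Module A X] (x : N ⊗[A] X), e.rTensor X x = g ^ n • x := by
    intro X _ _ x
    induction x using TensorProduct.induction_on with
    | zero => simp
    | add a b ha hb => rw [map_add, smul_add, ha, hb]
    | tmul m q => rfl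
  have hy : y = 0 := by
    refine hM ι' Q ?_
    rw [map_zero]
    funext i
    refine hι (Q i) ?_
    rw [Pi.zero_apply, map_zero]
    have h1 := GrothLib.ML.cmp_rTensor Q (ι.restrictScalars A) y i
    rw [show (ι.restrictScalars A).rTensor (∀ i, Q i) y = e.rTensor _ z from hn.symm.trans (he _ z).symm,
      GrothLib.ML.cmp_rTensor, show GrothLib.ML.cmp Q N z i = 0 from congrFun hz i, map_zero] at h1
    exact h1.symm
  rw [hy, map_zero] at hn
  refine ((Module.End.isUnit_iff _).1 (IsLocalizedModule.map_units (AlgebraTensorModule.rTensor A (∀ i, Q i) ι)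
    (⟨g ^ n, n, rfl⟩ : Submonoid.powers g))).1 ?_
  rw [map_zero]
  exact hn

/-- A localized module at a principal open of the base, as a module base change. -/
theorem nonempty_away_equiv {A B : Type u} [CommRing A] [CommRing B] [Algebra A B] (t : A) (A₁ B₁ : Type u)
    [CommRing A₁] [Algebra A A₁] [IsLocalization.Away t A₁] [CommRing B₁] [Algebra B B₁]
    [IsLocalization.Away (algebraMap A B t) B₁] [Algebra A B₁] [IsScalarTower A B B₁] [Algebra A₁ B₁]
    [IsScalarTower A A₁ B₁]
    (M : Type u) [AddCommGroup M] [Module B M] [Module A M] [IsScalarTower A B M] :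
    Nonempty (A₁ ⊗[A] M ≃ₗ[A₁] B₁ ⊗[B] M) := by
  haveI : IsLocalizedModule (Submonoid.powers (algebraMap A B t)) (TensorProduct.mk B B₁ M 1) :=
    (isLocalizedModule_iff_isBaseChange _ B₁ _).2 (TensorProduct.isBaseChange B M B₁)
  haveI : IsLocalizedModule (Submonoid.powers t) ((TensorProduct.mk B B₁ M 1).restrictScalars A) :=
    isLocalizedModule_restrict t (TensorProduct.mk B B₁ M 1)
  exact ⟨((isLocalizedModule_iff_isBaseChange (Submonoid.powers t) A₁ _).1
    (inferInstance : IsLocalizedModule (Submonoid.powers t) ((TensorProduct.mk B B₁ M 1).restrictScalars A))).equiv⟩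

/-- An endomorphism injective on a fibre is killed-injective near the prime, with flat cokernel. -/
theorem exists_away_flat_coker {A B : Type u} [CommRing A] [CommRing B] [Algebra A B] [Algebra.FinitePresentation A B]
    (M : Type u) [AddCommGroup M] [Module B M] [Module A M] [IsScalarTower A B M] [Module.FinitePresentation B M]
    [Module.Projective A M] (p : Ideal A) [p.IsPrime] (g : B)
    (hinj : Function.Injective (((LinearMap.lsmul B M g).restrictScalars A).lTensor p.ResidueField)) :
    ∃ t : A, t ∉ p ∧ (∀ z : M, g • z = 0 → ∃ n : ℕ, t ^ n • z = 0) ∧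
      Module.Flat (Localization.Away t) (Localization.Away t ⊗[A] (M ⧸ LinearMap.range (LinearMap.lsmul B M g))) := by
  classical
  let u : M →ₗ[B] M := LinearMap.lsmul B M g
  let Q := M ⧸ LinearMap.range u
  haveI : Module.FinitePresentation B Q := Module.finitePresentation_of_surjective _ (LinearMap.range u).mkQ_surjective
    (by rw [Submodule.ker_mkQ, ← Submodule.map_top]; exact Module.Finite.fg_top.map u)
  let Ap := Localization.AtPrime p
  let up := (u.restrictScalars A).baseChange Ap
  have hres : Function.Injective (up.lTensor (IsLocalRing.ResidueField Ap)) := by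
    let c := AlgebraTensorModule.cancelBaseChange A Ap Ap (IsLocalRing.ResidueField Ap) M
    have h : ∀ z, c (up.lTensor (IsLocalRing.ResidueField Ap) z) =
        (u.restrictScalars A).lTensor (IsLocalRing.ResidueField Ap) (c z) := fun z => by
      induction z using TensorProduct.induction_on with
      | zero => simp
      | add a b ha hb => simp only [map_add, ha, hb]
      | tmul r w =>
        induction w using TensorProduct.induction_on with
        | zero => simp
        | add a b ha hb => simp only [tmul_add, map_add, ha, hb]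
        | tmul a m => simp [up, c]
    intro a b hab
    exact c.injective (hinj (by rw [← h, ← h, hab]))
  obtain ⟨hupi, hupf⟩ := injective_flat_coker_of_residue up hres
  have hex : Function.Exact (u.restrictScalars A) ((LinearMap.range u).mkQ.restrictScalars A) :=
    LinearMap.exact_map_mkQ_range u
  have hflatp : Module.Flat Ap (LocalizedModule p.primeCompl Q) := by
    have hsur := LinearMap.lTensor_surjective Ap (show Function.Surjective ((LinearMap.range u).mkQ.restrictScalars A) from
      (LinearMap.range u).mkQ_surjective)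
    have hk : LinearMap.ker (((LinearMap.range u).mkQ.restrictScalars A).baseChange Ap) = LinearMap.range up :=
      (LinearMap.exact_iff (f := up)).1 (lTensor_exact Ap hex (LinearMap.range u).mkQ_surjective)
    exact Module.Flat.of_linearEquiv (LocalizedModule.equivTensorProduct p.primeCompl Q ≪≫ₗ
      ((Submodule.quotEquivOfEq _ _ hk.symm ≪≫ₗ LinearMap.quotKerEquivOfSurjective _ hsur)).symm)
  obtain ⟨t, htp, hflat⟩ := GrothLib.FreeStrat3.exists_flat_away (B := B) p Q hflatp
  let A₁ := Localization.Away t
  let B₁ := Localization.Away (algebraMap A B t)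
  letI : Algebra A₁ B₁ := (IsLocalization.Away.lift t (g := (algebraMap B B₁).comp (algebraMap A B))
    (IsLocalization.Away.algebraMap_isUnit (algebraMap A B t))).toAlgebra
  haveI : IsScalarTower A A₁ B₁ := IsScalarTower.of_algebraMap_eq fun r => by
    show algebraMap A B₁ r = IsLocalization.Away.lift t (IsLocalization.Away.algebraMap_isUnit (algebraMap A B t)) (algebraMap A A₁ r)
    rw [IsLocalization.Away.lift_eq]
    exact IsScalarTower.algebraMap_apply A B B₁ r
  haveI : Algebra.FinitePresentation B B₁ := IsLocalization.Away.finitePresentation (algebraMap A B t)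
  haveI : Algebra.FinitePresentation A B₁ := Algebra.FinitePresentation.trans A B B₁
  obtain ⟨eQ⟩ := nonempty_away_equiv (B := B) t A₁ B₁ Q
  haveI : Module.Flat A₁ (A₁ ⊗[A] Q) := hflat
  haveI : Module.Flat A A₁ := IsLocalization.flat A₁ (Submonoid.powers t)
  haveI : Module.Flat A₁ (B₁ ⊗[B] Q) := Module.Flat.of_linearEquiv eQ.symm
  haveI : Module.Flat A (B₁ ⊗[B] Q) := Module.Flat.trans A A₁ _
  let u₁ := u.baseChange B₁
  obtain ⟨k, hk0, hk⟩ := GrothLib.FlatFP.exists_fg_ker_away (A := A) u₁ ((LinearMap.range u).mkQ.baseChange B₁)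
    (lTensor_exact B₁ (LinearMap.exact_map_mkQ_range u) (LinearMap.range u).mkQ_surjective)
    (LinearMap.lTensor_surjective B₁ (LinearMap.range u).mkQ_surjective) 1 fun q _ _ => by
      haveI : Module.Flat B₁ (Localization.AtPrime q) := IsLocalization.flat _ q.primeCompl
      haveI : Module.Flat A (Localization.AtPrime q ⊗[B₁] (B₁ ⊗[B] Q)) :=
        GrothLib.QuasiFlat.flat_tensor (C := A) (T := B₁) (Localization.AtPrime q) (B₁ ⊗[B] Q)
      exact Module.Flat.of_linearEquiv
        ((LocalizedModule.equivTensorProduct q.primeCompl (B₁ ⊗[B] Q)).restrictScalars A)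
  let j : M →ₗ[B] B₁ ⊗[B] M := TensorProduct.mk B B₁ M 1
  haveI : IsLocalizedModule (Submonoid.powers (algebraMap A B t)) j :=
    (isLocalizedModule_iff_isBaseChange _ B₁ _).2 (TensorProduct.isBaseChange B M B₁)
  have hju : ∀ m, u₁ (j m) = j (u m) := fun m => rfl
  -- kill the generators
  have hkill : ∀ x ∈ k, ∃ s : A, s ∉ p ∧ s • x = 0 := by
    intro x hx
    obtain ⟨⟨y, ⟨_, m, rfl⟩⟩, hy⟩ := IsLocalizedModule.surj (Submonoid.powers (algebraMap A B t)) j x
    change (algebraMap A B t) ^ m • x = j y at hy
    have h0 : j (u y) = 0 := by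
      rw [← hju, ← hy, ← map_pow, algebraMap_smul, LinearMap.map_smul_of_tower, hk0 x hx, smul_zero]
    obtain ⟨⟨_, l, rfl⟩, hl⟩ := (IsLocalizedModule.eq_zero_iff (Submonoid.powers (algebraMap A B t)) j).1 h0
    change (algebraMap A B t) ^ l • u y = 0 at hl
    rw [← map_pow, algebraMap_smul] at hl
    have h1 : up ((1 : Ap) ⊗ₜ[A] (t ^ l • y)) = 0 := by
      show (1 : Ap) ⊗ₜ[A] u (t ^ l • y) = 0
      rw [LinearMap.map_smul_of_tower, hl, tmul_zero]
    have h2 : TensorProduct.mk A Ap M 1 (t ^ l • y) = 0 := hupi (h1.trans (map_zero up).symm)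
    haveI : IsLocalizedModule p.primeCompl (TensorProduct.mk A Ap M 1) :=
      (isLocalizedModule_iff_isBaseChange p.primeCompl Ap _).2 (TensorProduct.isBaseChange A M Ap)
    obtain ⟨⟨s, hs⟩, hs0⟩ := (IsLocalizedModule.eq_zero_iff p.primeCompl _).1 h2
    change s • t ^ l • y = 0 at hs0
    refine ⟨s * t ^ (l + m), p.primeCompl.mul_mem hs (p.primeCompl.pow_mem htp _), ?_⟩
    rw [pow_add, mul_smul, mul_smul, ← algebraMap_smul B (t ^ m) x, map_pow, hy, ← LinearMap.map_smul_of_tower,
      ← LinearMap.map_smul_of_tower, hs0, map_zero]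
  choose! s hs hsx using hkill
  refine ⟨t * ∏ x ∈ k, s x, p.primeCompl.mul_mem htp (prod_mem fun x hx => hs x hx), fun z hz => ?_, ?_⟩
  · obtain ⟨n, hn⟩ := hk (j z) ((hju z).trans (by rw [show u z = 0 from hz, map_zero]))
    rw [one_pow, one_smul] at hn
    have h0 : (∏ x ∈ k, s x) • j z = 0 := by
      generalize j z = w at hn ⊢
      induction hn using Submodule.span_induction with
      | mem x hx =>
        obtain ⟨c, hc⟩ := Finset.dvd_prod_of_mem s hx
        rw [hc, mul_comm, mul_smul, hsx x hx, smul_zero]
      | zero => exact smul_zero _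
      | add a b _ _ ha hb => rw [smul_add, ha, hb, add_zero]
      | smul c a _ ha => rw [smul_comm, ha, smul_zero]
    rw [← LinearMap.map_smul_of_tower] at h0
    obtain ⟨⟨_, l, rfl⟩, hl⟩ := (IsLocalizedModule.eq_zero_iff (Submonoid.powers (algebraMap A B t)) j).1 h0
    change (algebraMap A B t) ^ l • ((∏ x ∈ k, s x) • z) = 0 at hl
    rw [← map_pow, algebraMap_smul] at hl
    refine ⟨l + 1, ?_⟩
    rw [mul_pow, mul_smul, pow_succ (∏ x ∈ k, s x), mul_smul, smul_comm (t ^ (l + 1)), pow_succ', mul_smul,
      hl, smul_zero, smul_zero]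
  · let A₂ := Localization.Away (t * ∏ x ∈ k, s x)
    have ht : IsUnit (algebraMap A A₂ t) := by
      have := IsLocalization.Away.algebraMap_isUnit (S := A₂) (t * ∏ x ∈ k, s x)
      rw [map_mul] at this
      exact isUnit_of_mul_isUnit_left this
    letI : Algebra A₁ A₂ := (IsLocalization.Away.lift t ht).toAlgebra
    haveI : IsScalarTower A A₁ A₂ := IsScalarTower.of_algebraMap_eq fun r => (IsLocalization.Away.lift_eq t ht r).symm
    exact Module.Flat.of_linearEquiv (AlgebraTensorModule.cancelBaseChange A A₁ A₂ A₂ Q).symm

/-- Inverting an element regular on a fibre keeps a module projective near the prime. -/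
theorem exists_projective_away {A B : Type u} [CommRing A] [CommRing B] [Algebra A B] [Algebra.FinitePresentation A B]
    (M : Type u) [AddCommGroup M] [Module B M] [Module A M] [IsScalarTower A B M] [Module.FinitePresentation B M]
    [Module.Projective A M] (p : Ideal A) [p.IsPrime] (g : B)
    (hinj : Function.Injective (((LinearMap.lsmul B M g).restrictScalars A).lTensor p.ResidueField)) :
    ∃ t : A, t ∉ p ∧ ∀ (D : Type u) [CommRing D] [Algebra B D] [IsLocalization.Away (algebraMap A B t * g) D]
      [Algebra A D] [IsScalarTower A B D] [Algebra (Localization.Away t) D] [IsScalarTower A (Localization.Away t) D],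
      Module.Projective (Localization.Away t) (D ⊗[B] M) := by
  obtain ⟨t, htp, hker, hflat⟩ := exists_away_flat_coker M p g hinj
  refine ⟨t, htp, fun D _ _ _ _ _ _ _ => ?_⟩
  let u : M →ₗ[B] M := LinearMap.lsmul B M g
  let Q := M ⧸ LinearMap.range u
  let A₂ := Localization.Away t
  let B₂ := Localization.Away (algebraMap A B t)
  letI : Algebra A₂ B₂ := (IsLocalization.Away.lift t (g := (algebraMap B B₂).comp (algebraMap A B))
    (IsLocalization.Away.algebraMap_isUnit (algebraMap A B t))).toAlgebra
  haveI : IsScalarTower A A₂ B₂ := IsScalarTower.of_algebraMap_eq fun r => by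
    show algebraMap A B₂ r = IsLocalization.Away.lift t (IsLocalization.Away.algebraMap_isUnit (algebraMap A B t)) (algebraMap A A₂ r)
    rw [IsLocalization.Away.lift_eq]
    exact IsScalarTower.algebraMap_apply A B B₂ r
  have hu : IsUnit (algebraMap B D (algebraMap A B t)) := by
    have := IsLocalization.Away.algebraMap_isUnit (S := D) (algebraMap A B t * g)
    rw [map_mul] at this
    exact isUnit_of_mul_isUnit_left this
  letI : Algebra B₂ D := (IsLocalization.Away.lift (algebraMap A B t) hu).toAlgebra
  haveI : IsScalarTower B B₂ D :=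
    IsScalarTower.of_algebraMap_eq fun b => (IsLocalization.Away.lift_eq (algebraMap A B t) hu b).symm
  haveI : IsScalarTower A₂ B₂ D := IsScalarTower.of_algebraMap_eq' (IsLocalization.ringHom_ext (Submonoid.powers t)
    (RingHom.ext fun r => by
      show algebraMap A₂ D (algebraMap A A₂ r) = algebraMap B₂ D (algebraMap A₂ B₂ (algebraMap A A₂ r))
      rw [← IsScalarTower.algebraMap_apply A A₂ D, ← IsScalarTower.algebraMap_apply A A₂ B₂,
        IsScalarTower.algebraMap_apply A B B₂, ← IsScalarTower.algebraMap_apply B B₂ D, ← IsScalarTower.algebraMap_apply A B D]))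
  let g₂ := algebraMap B B₂ g
  haveI : IsLocalization.Away g₂ D := by
    haveI : IsLocalization.Away (algebraMap A B t * g) (Localization.Away g₂) :=
      IsLocalization.Away.mul' B₂ (Localization.Away g₂) _ _
    let e : Localization.Away g₂ ≃ₐ[B] D :=
      IsLocalization.algEquiv (Submonoid.powers (algebraMap A B t * g)) (Localization.Away g₂) D
    have he : ∀ b, e (algebraMap B₂ (Localization.Away g₂) b) = algebraMap B₂ D b := RingHom.congr_fun
      (IsLocalization.ringHom_ext (Submonoid.powers (algebraMap A B t)) (R := B) (S := B₂)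
        (j := e.toRingEquiv.toRingHom.comp (algebraMap B₂ (Localization.Away g₂))) (k := algebraMap B₂ D)
        (RingHom.ext fun b => by
          show e (algebraMap B₂ (Localization.Away g₂) (algebraMap B B₂ b)) = algebraMap B₂ D (algebraMap B B₂ b)
          rw [← IsScalarTower.algebraMap_apply, e.commutes, ← IsScalarTower.algebraMap_apply]))
    exact IsLocalization.isLocalization_of_algEquiv (Submonoid.powers g₂) (AlgEquiv.ofRingEquiv (f := e.toRingEquiv) he)
  haveI : Algebra.FinitePresentation B B₂ := IsLocalization.Away.finitePresentation (algebraMap A B t)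
  haveI : Algebra.FinitePresentation A B₂ := Algebra.FinitePresentation.trans A B B₂
  haveI : Algebra.FiniteType A₂ B₂ := Algebra.FiniteType.of_restrictScalars_finiteType A A₂ B₂
  obtain ⟨eM⟩ := nonempty_away_equiv (B := B) t A₂ B₂ M
  haveI : Module.Projective A₂ (B₂ ⊗[B] M) := Module.Projective.of_equiv eM
  obtain ⟨eQ⟩ := nonempty_away_equiv (B := B) t A₂ B₂ Q
  haveI : Module.Flat A₂ (A₂ ⊗[A] Q) := hflat
  haveI : Module.Flat A₂ (B₂ ⊗[B] Q) := Module.Flat.of_linearEquiv eQ.symm
  let j : M →ₗ[B] B₂ ⊗[B] M := TensorProduct.mk B B₂ M 1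
  haveI : IsLocalizedModule (Submonoid.powers (algebraMap A B t)) j :=
    (isLocalizedModule_iff_isBaseChange _ B₂ _).2 (TensorProduct.isBaseChange B M B₂)
  have hu₂ : ∀ z, u.baseChange B₂ z = g₂ • z := fun z => by
    induction z using TensorProduct.induction_on with
    | zero => simp
    | add a b ha hb => rw [map_add, smul_add, ha, hb]
    | tmul c m =>
      rw [LinearMap.baseChange_tmul, algebraMap_smul, TensorProduct.smul_tmul', TensorProduct.smul_tmul]
      rfl
  have hinj₂ : Function.Injective (u.baseChange B₂) := by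
    rw [injective_iff_map_eq_zero]
    intro x hx
    obtain ⟨⟨y, ⟨_, m, rfl⟩⟩, hy⟩ := IsLocalizedModule.surj (Submonoid.powers (algebraMap A B t)) j x
    change (algebraMap A B t) ^ m • x = j y at hy
    have h0 : j (u y) = 0 := by
      show u.baseChange B₂ (j y) = 0
      rw [← hy, LinearMap.map_smul_of_tower, hx, smul_zero]
    obtain ⟨⟨_, l, rfl⟩, hl⟩ := (IsLocalizedModule.eq_zero_iff (Submonoid.powers (algebraMap A B t)) j).1 h0
    change (algebraMap A B t) ^ l • u y = 0 at hl
    obtain ⟨n, hn⟩ := hker ((algebraMap A B t) ^ l • y) (by rw [← LinearMap.lsmul_apply (R := B), map_smul]; exact hl)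
    have hy0 : j y = 0 := (IsLocalizedModule.eq_zero_iff (Submonoid.powers (algebraMap A B t)) j).2
      ⟨⟨_, n + l, rfl⟩, by
        show (algebraMap A B t) ^ (n + l) • y = 0
        rw [pow_add, mul_smul, ← map_pow, algebraMap_smul]
        exact hn⟩
    rw [hy0] at hy
    exact ((Module.End.isUnit_iff _).1 (IsLocalizedModule.map_units j
      (⟨(algebraMap A B t) ^ m, m, rfl⟩ : Submonoid.powers (algebraMap A B t)))).1 (hy.trans (map_zero _).symm)
  have huniv : FlatCA.UnivInj A₂ ((LinearMap.lsmul B₂ (B₂ ⊗[B] M) g₂).restrictScalars A₂) := by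
    have heq : u.baseChange B₂ = LinearMap.lsmul B₂ (B₂ ⊗[B] M) g₂ := LinearMap.ext hu₂
    rw [← heq]
    intro X _ _
    exact LinearMap.lTensor_injective_of_exact_of_flat (((LinearMap.range u).mkQ.baseChange B₂).restrictScalars A₂)
      (LinearMap.lTensor_surjective B₂ (LinearMap.range u).mkQ_surjective) ((u.baseChange B₂).restrictScalars A₂) hinj₂
      (lTensor_exact B₂ (LinearMap.exact_map_mkQ_range u) (LinearMap.range u).mkQ_surjective) X
  haveI := projective_localization (A := A₂) (B := B₂) (M := B₂ ⊗[B] M) g₂ huniv D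
  exact Module.Projective.of_equiv ((AlgebraTensorModule.cancelBaseChange B B₂ D D M).restrictScalars A₂)

end GrothLib.RGProj13
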