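import Groth.Agent.Lib.RGProj13.FreeDescent

/-!
Freeness over the local ring of an étale neighbourhood of the base, after étale localization along a whole fibre.
-/

set_option autoImplicit false
set_option linter.style.haveILetI false
set_option linter.unusedSectionVars false
universe u

open TensorProduct

namespace GrothLib.RGProj13

attribute [local instance] Algebra.TensorProduct.rightAlgebra

/-- An étale piece, free over the local ring of its base at the distinguished point. -/
structure FreePiece (R S : Type u) [CommRing R] [CommRing S] [Algebra R S] (N : Type u) [AddCommGroup N] [Module S N]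
    (p : Ideal R) [p.IsPrime] where
  A : Type u
  B : Type u
  [cA : CommRing A]
  [cB : CommRing B]
  [aRA : Algebra R A]
  [aSB : Algebra S B]
  [aAB : Algebra A B]
  [aRB : Algebra R B]
  [tRA : IsScalarTower R A B]
  [tRS : IsScalarTower R S B]
  pA : Ideal A
  [hpA : pA.IsPrime]
  nhd : FlatCA.IsEtaleNhd R A p pA
  etale : Algebra.Etale S B
  f : A
  uniq : ∀ P : Ideal A, P.IsPrime → P.LiesOver p → f ∉ P → P = pA
  free : Module.Free (Localization.AtPrime pA) ((Localization.AtPrime pA ⊗[A] B) ⊗[B] (B ⊗[S] N))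
  fp : Module.FinitePresentation (Localization.AtPrime pA ⊗[A] B) ((Localization.AtPrime pA ⊗[A] B) ⊗[B] (B ⊗[S] N))

attribute [instance] FreePiece.cA FreePiece.cB FreePiece.aRA FreePiece.aSB FreePiece.aAB FreePiece.aRB
  FreePiece.tRA FreePiece.tRS FreePiece.hpA

variable {R S : Type u} [CommRing R] [CommRing S] [Algebra R S] {N : Type u} [AddCommGroup N] [Module S N]

theorem exists_freePiece [Algebra.FiniteType R S] [Module R N] [IsScalarTower R S N] [Module.Finite S N]
    (p : Ideal R) [p.IsPrime] (q : Ideal S) [q.IsPrime] [q.LiesOver p] (hflat : FlatCA.FlatAt R q N) :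
    ∃ (T : FreePiece R S N p) (z : PrimeSpectrum T.B),
      algebraMap T.A T.B T.f ∉ z.asIdeal ∧ z.asIdeal.comap (algebraMap S T.B) = q := by
  obtain ⟨A, B, _, _, _, _, _, _, _, _, pA, qB, _, _, hpA, hqB, hBA, hfree, hfp⟩ := exists_free_after_etale N p q hflat
  haveI : Algebra.Etale R A := hpA.1
  obtain ⟨hpo, -⟩ := hpA.2
  obtain ⟨hqo, -⟩ := hqB.2
  haveI := hpo
  haveI : Algebra.QuasiFinite R A := inferInstance
  haveI : Algebra.QuasiFiniteAt R pA := inferInstance
  obtain ⟨f, hf, hfo⟩ := Ideal.exists_not_mem_forall_mem_of_ne_of_liesOver p pA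
  exact ⟨{ A := A, B := B, pA := pA, nhd := hpA, etale := hqB.1, f := f,
           uniq := fun P hP hPp hfP => by
            by_contra hne
            exact hfP (hfo P hP hne hPp)
           free := hfree, fp := hfp },
    ⟨qB, inferInstance⟩, fun h => hf (hBA.over.symm.le h), hqo.over.symm⟩

/-- A common refinement of the bases of finitely many pieces. -/
theorem exists_common_freeBase (p : Ideal R) [p.IsPrime] (l : List (FreePiece R S N p)) :
    ∃ (R' : Type u) (_ : CommRing R') (_ : Algebra R R') (p' : Ideal R') (_ : p'.IsPrime), FlatCA.IsEtaleNhd R R' p p' ∧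
      ∀ T ∈ l, ∃ φ : T.A →ₐ[R] R', p'.comap φ.toRingHom = T.pA := by
  induction l with
  | nil => exact ⟨R, inferInstance, Algebra.id R, p, inferInstance, GrothLib.RG6.Dev.isEtaleNhd_refl R p, fun T h => absurd h List.not_mem_nil⟩
  | cons T l ih =>
    obtain ⟨R₁, _, _, p₁, _, h₁, hl⟩ := ih
    haveI : Algebra.Etale R R₁ := h₁.1
    haveI : Algebra.Etale R T.A := T.nhd.1
    obtain ⟨ho₁, hb₁⟩ := h₁.2
    obtain ⟨hoT, -⟩ := T.nhd.2
    haveI := hoT
    obtain ⟨Q, _, hQ₁, hQT, ⟨hQo, hQb⟩, -⟩ := GrothLib.RG6.Dev.exists_baseChange_point (B := T.A) p p₁ ho₁ hb₁ T.pA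
    refine ⟨R₁ ⊗[R] T.A, inferInstance, inferInstance, Q, inferInstance, ?_, fun T' hT' => ?_⟩
    · haveI : Algebra.Etale R (R₁ ⊗[R] T.A) := Algebra.Etale.comp R R₁ (R₁ ⊗[R] T.A)
      haveI : IsScalarTower R T.A (R₁ ⊗[R] T.A) := inferInstance
      haveI : Algebra.Etale T.A (R₁ ⊗[R] T.A) := Algebra.Etale.of_restrictScalars R T.A (R₁ ⊗[R] T.A)
      exact GrothLib.RG6.Dev.isEtaleNhd_trans T.nhd ⟨inferInstance, hQo, hQb⟩
    · rcases List.mem_cons.1 hT' with rfl | h
      · exact ⟨Algebra.TensorProduct.includeRight, hQT⟩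
      · obtain ⟨φ, hφ⟩ := hl T' h
        refine ⟨(Algebra.TensorProduct.includeLeft : R₁ →ₐ[R] R₁ ⊗[R] T.A).comp φ, ?_⟩
        rw [← hφ, hQ₁.over]
        rfl

/-- The residue fields of two neighbourhoods, one refining the other, agree. -/
theorem bijective_residue_of_refinement {A R' : Type u} [CommRing A] [CommRing R'] [Algebra R A] [Algebra R R']
    [Algebra A R'] [IsScalarTower R A R'] {p : Ideal R} [p.IsPrime] {pA : Ideal A} [pA.IsPrime] {p' : Ideal R'}
    [p'.IsPrime] (hA : FlatCA.IsEtaleNhd R A p pA) (h' : FlatCA.IsEtaleNhd R R' p p') (hover : p'.LiesOver pA) :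
    Function.Bijective (Ideal.ResidueField.mapₐ pA p' (Algebra.ofId A R') hover.over) := by
  obtain ⟨ho, hb⟩ := h'.2
  obtain ⟨hoT, hbT⟩ := hA.2
  let m₁ := Ideal.ResidueField.mapₐ p pA (Algebra.ofId R A) hoT.over
  let m₂ := Ideal.ResidueField.mapₐ pA p' (Algebra.ofId A R') hover.over
  let m := Ideal.ResidueField.mapₐ p p' (Algebra.ofId R R') ho.over
  have h : m.toRingHom = m₂.toRingHom.comp m₁.toRingHom := by
    refine Ideal.ResidueField.ringHom_ext (RingHom.ext fun a => ?_)
    show m (algebraMap R p.ResidueField a) = m₂ (m₁ (algebraMap R p.ResidueField a))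
    rw [AlgHom.commutes, AlgHom.commutes, IsScalarTower.algebraMap_apply R A pA.ResidueField, AlgHom.commutes,
      ← IsScalarTower.algebraMap_apply R A p'.ResidueField]
  have h2 : (m : p.ResidueField → p'.ResidueField) = m₂ ∘ m₁ := funext fun w => RingHom.congr_fun h w
  refine (Function.Bijective.of_comp_iff _ hbT).1 ?_
  rw [← h2]
  exact hb

/-- Freeness and finite presentation along a base change of the local base. -/
theorem free_baseChange_piece {A A' S' S₀ E C M : Type u} [CommRing A] [CommRing A'] [CommRing S'] [CommRing E]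
    [CommRing C] [CommRing S₀] [Algebra A A'] [Algebra A E] [Algebra A' C] [Algebra E C] [Algebra A C]
    [IsScalarTower A A' C] [IsScalarTower A E C] [Algebra.IsPushout A A' E C] [Algebra S₀ S'] [Algebra S' E]
    [Algebra S' C] [IsScalarTower S' E C] [Algebra S₀ C] [IsScalarTower S₀ S' C]
    [AddCommGroup M] [Module S₀ M] (hfree : Module.Free A (E ⊗[S'] (S' ⊗[S₀] M)))
    (hfp : Module.FinitePresentation E (E ⊗[S'] (S' ⊗[S₀] M))) :
    Module.FinitePresentation C (C ⊗[S₀] M) ∧ Module.Free A' (C ⊗[S₀] M) := by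
  let Y := E ⊗[S'] (S' ⊗[S₀] M)
  let e : C ⊗[E] Y ≃ₗ[C] C ⊗[S₀] M :=
    AlgebraTensorModule.cancelBaseChange S' E C C (S' ⊗[S₀] M) ≪≫ₗ AlgebraTensorModule.cancelBaseChange S₀ S' C C M
  haveI : Module.Free A' (A' ⊗[A] Y) := inferInstance
  haveI : Module.Free A' (C ⊗[E] Y) := Module.Free.of_equiv (Algebra.IsPushout.cancelBaseChange A A' E C Y).symm
  exact ⟨Module.FinitePresentation.of_equiv e, Module.Free.of_equiv (e.restrictScalars A')⟩

/-- Finite presentation over a finite product of rings, piece by piece. -/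
theorem free_pi {A : Type u} [CommRing A] {n : ℕ} (C : Fin n → Type u) [∀ i, CommRing (C i)] [∀ i, Algebra A (C i)]
    [∀ i, Algebra S (C i)] (hfp : ∀ i, Module.FinitePresentation (C i) (C i ⊗[S] N))
    (hfree : ∀ i, Module.Free A (C i ⊗[S] N)) :
    Module.FinitePresentation (∀ i, C i) ((∀ i, C i) ⊗[S] N) ∧ Module.Free A ((∀ i, C i) ⊗[S] N) := by
  classical
  let P := ∀ i, C i
  let ev : ∀ i, P →+* C i := fun i => Pi.evalRingHom C i
  letI : ∀ i, Algebra P (C i) := fun i => (ev i).toAlgebra
  haveI : ∀ i, IsScalarTower S P (C i) := fun i => IsScalarTower.of_algebraMap_eq fun _ => rfl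
  haveI : ∀ i, IsScalarTower A P (C i) := fun i => IsScalarTower.of_algebraMap_eq fun _ => rfl
  haveI : ∀ i, Module.FinitePresentation P (C i) := fun i => by
    let π : P →ₗ[P] C i := Algebra.linearMap P (C i)
    have hπ : Function.Surjective π := fun c => ⟨Pi.single i c, Pi.single_eq_same (M := C) i c⟩
    refine Module.finitePresentation_of_surjective π hπ ?_
    have hker : LinearMap.ker π = Submodule.span P {1 - Pi.single i (1 : C i)} := by
      refine le_antisymm (fun x hx => Submodule.mem_span_singleton.2 ⟨x, ?_⟩) ?_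
      · funext j
        rw [Pi.smul_apply', Pi.sub_apply, Pi.one_apply, smul_eq_mul]
        by_cases hj : j = i
        · subst hj
          rw [Pi.single_eq_same, sub_self, mul_zero]
          exact (LinearMap.mem_ker.1 hx).symm
        · rw [Pi.single_eq_of_ne hj, sub_zero, mul_one]
      · rw [Submodule.span_singleton_le_iff_mem, LinearMap.mem_ker]
        show (1 - Pi.single i (1 : C i) : P) i = 0
        rw [Pi.sub_apply, Pi.one_apply, Pi.single_eq_same, sub_self]
    rw [hker]
    exact Submodule.fg_span_singleton _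
  haveI : ∀ i, IsScalarTower P (C i) (C i ⊗[S] N) := fun i => inferInstance
  haveI : ∀ i, Module.FinitePresentation P (C i ⊗[S] N) := fun i => by
    haveI := hfp i
    exact Module.FinitePresentation.trans (R := P) (M := C i ⊗[S] N) (S := C i)
  let eL := TensorProduct.piLeft (R := S) (M := C) (N := N)
  have hL : ∀ (a : P) (z : P ⊗[S] N), eL (a • z) = a • eL z := fun a z => by
    induction z using TensorProduct.induction_on with
    | zero => rw [smul_zero, map_zero, smul_zero]
    | add u v hu hv => rw [smul_add, map_add, map_add, hu, hv, smul_add]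
    | tmul c n =>
      funext T
      simp [eL, TensorProduct.smul_tmul']
      rfl
  let e : P ⊗[S] N ≃ₗ[P] ∀ i, C i ⊗[S] N := { eL.toAddEquiv with map_smul' := hL }
  haveI := hfree
  haveI : Module.FinitePresentation P (∀ i, C i ⊗[S] N) := Module.FinitePresentation.pi (R := P) (fun i => C i ⊗[S] N)
  exact ⟨Module.FinitePresentation.of_equiv e.symm, Module.Free.of_equiv (e.symm.restrictScalars A)⟩


/-- A point of a piece after a refinement of the base. -/
theorem exists_point_refinement {p : Ideal R} [p.IsPrime] (T : FreePiece R S N p) {R' : Type u} [CommRing R']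
    [Algebra R R'] [Algebra T.A R'] [IsScalarTower R T.A R'] {p' : Ideal R'} [p'.IsPrime]
    (hp' : FlatCA.IsEtaleNhd R R' p p') (hover : p'.LiesOver T.pA) (z : PrimeSpectrum T.B)
    (hzf : algebraMap T.A T.B T.f ∉ z.asIdeal) (hz : (z.asIdeal.comap (algebraMap S T.B)).LiesOver p) :
    ∃ (Y : Ideal (R' ⊗[T.A] T.B)) (_ : Y.IsPrime), Y.LiesOver p' ∧
      Y.comap (Algebra.TensorProduct.includeRight (R := T.A) (A := R') (B := T.B)).toRingHom = z.asIdeal := by
  haveI hzA : z.asIdeal.LiesOver T.pA := ⟨(T.uniq (z.asIdeal.comap (algebraMap T.A T.B)) inferInstance ⟨by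
    show p = (z.asIdeal.comap (algebraMap T.A T.B)).comap (algebraMap R T.A)
    rw [Ideal.comap_comap, ← IsScalarTower.algebraMap_eq R T.A T.B, IsScalarTower.algebraMap_eq R S T.B, ← Ideal.comap_comap]
    exact hz.over⟩ hzf).symm⟩
  obtain ⟨Q, hQ, hQp, hQz, -, -⟩ := GrothLib.RG6.Dev.exists_baseChange_point (B := T.B) T.pA p' hover
    (bijective_residue_of_refinement T.nhd hp' hover) z.asIdeal
  exact ⟨Q, hQ, hQp, hQz⟩

/-- Transfer to a model of the base change. -/
theorem free_model' {A SA C NA : Type u} [CommRing A] [CommRing SA] [CommRing C] [Algebra A C] [Algebra S SA]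
    [Algebra SA C] [Algebra S C] [IsScalarTower S SA C] [AddCommGroup NA] [Module SA NA] [Module S NA]
    [IsScalarTower S SA NA] {f : N →ₗ[S] NA} (hf : IsBaseChange SA f)
    (hfp : Module.FinitePresentation C (C ⊗[S] N)) (hfree : Module.Free A (C ⊗[S] N)) :
    Module.FinitePresentation C (C ⊗[SA] NA) ∧ Module.Free A (RestrictScalars A C (C ⊗[SA] NA)) := by
  let e : C ⊗[SA] NA ≃ₗ[C] C ⊗[S] N := modelEquiv hf
  haveI : Module.Free A (C ⊗[SA] NA) := Module.Free.of_equiv (e.symm.restrictScalars A)
  exact ⟨Module.FinitePresentation.of_equiv e.symm, free_restrictScalars⟩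

set_option maxHeartbeats 1600000 in
/-- A piece stays free after refining the base and localizing. -/
theorem free_of_piece {p : Ideal R} [p.IsPrime] (T : FreePiece R S N p) {R' : Type u} [CommRing R'] [Algebra T.A R']
    {p' : Ideal R'} [p'.IsPrime] (hover : p'.LiesOver T.pA) (X : Type u) [CommRing X] [Algebra R' X] [Algebra T.A X]
    [Algebra T.B X] [IsScalarTower T.A R' X] [IsScalarTower T.A T.B X] [Algebra.IsPushout T.A R' T.B X]
    (C : Type u) [CommRing C] [Algebra R' C] [Algebra (Localization.AtPrime p') C] [Algebra X C]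
    [IsScalarTower R' (Localization.AtPrime p') C] [IsScalarTower R' X C]
    [Algebra.IsPushout R' (Localization.AtPrime p') X C] [Algebra S X] [IsScalarTower S T.B X]
    [Algebra S C] [IsScalarTower S X C] :
    Module.FinitePresentation C (C ⊗[S] N) ∧ Module.Free (Localization.AtPrime p') (C ⊗[S] N) := by
  let A := Localization.AtPrime p'
  let Ai := Localization.AtPrime T.pA
  letI : Algebra Ai A := (Localization.localRingHom T.pA p' (algebraMap T.A R') hover.over).toAlgebra
  haveI : IsScalarTower T.A Ai A := IsScalarTower.of_algebraMap_eq fun a => by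
    show algebraMap T.A A a = Localization.localRingHom T.pA p' _ _ (algebraMap T.A Ai a)
    rw [Localization.localRingHom_to_map]
    exact IsScalarTower.algebraMap_apply T.A R' A a
  letI : Algebra T.A C := ((algebraMap R' C).comp (algebraMap T.A R')).toAlgebra
  haveI : IsScalarTower T.A R' C := IsScalarTower.of_algebraMap_eq fun _ => rfl
  haveI : IsScalarTower T.A A C := IsScalarTower.of_algebraMap_eq fun a => by
    rw [IsScalarTower.algebraMap_apply T.A R' A, ← IsScalarTower.algebraMap_apply R' A C]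
    rfl
  letI : Algebra T.B C := ((algebraMap X C).comp (algebraMap T.B X)).toAlgebra
  haveI : IsScalarTower T.B X C := IsScalarTower.of_algebraMap_eq fun _ => rfl
  haveI : IsScalarTower S T.B C := IsScalarTower.of_algebraMap_eq fun s => by
    rw [IsScalarTower.algebraMap_apply S X C, IsScalarTower.algebraMap_apply S T.B X]
    rfl
  haveI : IsScalarTower T.A X C := IsScalarTower.of_algebraMap_eq fun a => by
    rw [IsScalarTower.algebraMap_apply T.A R' X, ← IsScalarTower.algebraMap_apply R' X C]
    rfl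
  haveI : IsScalarTower T.A T.B C := IsScalarTower.of_algebraMap_eq fun a => by
    rw [IsScalarTower.algebraMap_apply T.B X C, ← IsScalarTower.algebraMap_apply T.A T.B X,
      ← IsScalarTower.algebraMap_apply T.A X C]
  haveI : Algebra.IsPushout T.A A T.B C := (Algebra.IsPushout.comp_iff T.A R' T.B X).2 inferInstance
  let E := Ai ⊗[T.A] T.B
  let φE : E →ₐ[T.A] C := Algebra.TensorProduct.lift
    ((IsScalarTower.toAlgHom T.A A C).comp (IsScalarTower.toAlgHom T.A Ai A))
    (IsScalarTower.toAlgHom T.A T.B C) fun _ _ => mul_comm _ _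
  letI : Algebra E C := φE.toRingHom.toAlgebra
  letI : Algebra Ai C := ((algebraMap A C).comp (algebraMap Ai A)).toAlgebra
  haveI : IsScalarTower Ai A C := IsScalarTower.of_algebraMap_eq fun _ => rfl
  haveI : IsScalarTower Ai E C := IsScalarTower.of_algebraMap_eq fun a => by
    show algebraMap A C (algebraMap Ai A a) = φE (a ⊗ₜ 1)
    refine ((Algebra.TensorProduct.lift_tmul _ _ _ _ _).trans ?_).symm
    rw [map_one, mul_one]
    rfl
  haveI : IsScalarTower T.B E C := IsScalarTower.of_algebraMap_eq fun b => by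
    show algebraMap T.B C b = φE (1 ⊗ₜ b)
    refine ((Algebra.TensorProduct.lift_tmul _ _ _ _ _).trans ?_).symm
    rw [map_one, one_mul]
    rfl
  haveI : IsScalarTower T.A Ai C := IsScalarTower.of_algebraMap_eq fun a => by
    rw [IsScalarTower.algebraMap_apply Ai A C, ← IsScalarTower.algebraMap_apply T.A Ai A,
      ← IsScalarTower.algebraMap_apply T.A A C]
  haveI : IsScalarTower T.A E C := IsScalarTower.of_algebraMap_eq fun a => (φE.commutes a).symm
  haveI : Algebra.IsPushout Ai A E C := by
    haveI p1 : Algebra.IsPushout T.A Ai T.B E := inferInstance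
    exact (Algebra.IsPushout.comp_iff T.A Ai T.B E).1 inferInstance
  exact free_baseChange_piece (A := Ai) (A' := A) (S' := T.B) (E := E) (C := C) T.free T.fp

set_option maxHeartbeats 3200000 in
/-- A module flat along a fibre is free and finitely presented over the local ring of an étale neighbourhood of the
base, after an étale localization covering the fibre. -/
theorem exists_free_fibre [Algebra.FiniteType R S] [Module R N] [IsScalarTower R S N] [Module.Finite S N]
    (p : Ideal R) [p.IsPrime] (hflat : ∀ (q : Ideal S) [q.IsPrime], q.LiesOver p → FlatCA.FlatAt R q N) :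
    ∃ (R' : Type u) (_ : CommRing R') (_ : Algebra R R') (p' : Ideal R') (_ : p'.IsPrime), FlatCA.IsEtaleNhd R R' p p' ∧
      ∀ (SA NA : Type u) [CommRing SA] [Algebra R SA] [Algebra S SA] [Algebra (Localization.AtPrime p') SA]
        [IsScalarTower R S SA] [IsScalarTower R (Localization.AtPrime p') SA]
        [Algebra.IsPushout R S (Localization.AtPrime p') SA]
        [AddCommGroup NA] [Module SA NA] [Module S NA] [IsScalarTower S SA NA]
        (f : N →ₗ[S] NA), IsBaseChange SA f →
        ∃ (C : Type u) (_ : CommRing C) (_ : Algebra SA C) (_ : Algebra (Localization.AtPrime p') C)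
          (_ : IsScalarTower (Localization.AtPrime p') SA C) (_ : Algebra S C) (_ : IsScalarTower S SA C),
          Algebra.Etale SA C ∧
          (∀ (q : Ideal S) [q.IsPrime], q.LiesOver p → ∃ x' : Ideal C, x'.IsPrime ∧ x'.comap (algebraMap S C) = q ∧
            x'.LiesOver (IsLocalRing.maximalIdeal (Localization.AtPrime p'))) ∧
          Module.FinitePresentation C (C ⊗[SA] NA) ∧
          Module.Free (Localization.AtPrime p') (RestrictScalars (Localization.AtPrime p') C (C ⊗[SA] NA)) := by
  classical
  let Z := PrimeSpectrum.comap (algebraMap R S) ⁻¹' {(⟨p, inferInstance⟩ : PrimeSpectrum R)}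
  have hZc : IsCompact Z := by
    let e := PrimeSpectrum.preimageHomeomorphFiber R S ⟨p, inferInstance⟩
    haveI : CompactSpace Z := e.symm.compactSpace
    exact isCompact_iff_compactSpace.2 inferInstance
  let U : FreePiece R S N p → Set (PrimeSpectrum S) := fun T =>
    PrimeSpectrum.comap (algebraMap S T.B) '' (PrimeSpectrum.basicOpen (algebraMap T.A T.B T.f) : Set (PrimeSpectrum T.B))
  have hcov : Z ⊆ ⋃ T, U T := fun z hz => by
    haveI : z.asIdeal.LiesOver p := ⟨(congrArg PrimeSpectrum.asIdeal (Set.mem_singleton_iff.1 hz)).symm⟩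
    obtain ⟨T, w, hw, hwz⟩ := exists_freePiece (N := N) p z.asIdeal (hflat _ inferInstance)
    exact Set.mem_iUnion.2 ⟨T, w, hw, PrimeSpectrum.ext hwz⟩
  obtain ⟨t, ht⟩ := hZc.elim_finite_subcover U (fun T => by
    haveI := T.etale
    exact PrimeSpectrum.isOpenMap_comap_of_hasGoingDown_of_finitePresentation (R := S) (S := T.B) _
      (PrimeSpectrum.basicOpen (algebraMap T.A T.B T.f)).isOpen) hcov
  obtain ⟨R', _, _, p', _, hp', hhom⟩ := exists_common_freeBase p t.toList
  haveI : Algebra.Etale R R' := hp'.1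
  let Tp : Fin t.card → FreePiece R S N p := fun i => (t.equivFin.symm i).1
  choose ψ hψ using fun i => hhom (Tp i) (Finset.mem_toList.2 (t.equivFin.symm i).2)
  letI : ∀ i, Algebra (Tp i).A R' := fun i => (ψ i).toRingHom.toAlgebra
  haveI : ∀ i, IsScalarTower R (Tp i).A R' := fun i => IsScalarTower.of_algebraMap_eq fun r => ((ψ i).commutes r).symm
  have hover : ∀ i, p'.LiesOver (Tp i).pA := fun i => ⟨(hψ i).symm⟩
  let X : Fin t.card → Type u := fun i => R' ⊗[(Tp i).A] (Tp i).B
  letI : ∀ i, Algebra S (X i) := fun i => ((algebraMap (Tp i).B (R' ⊗[(Tp i).A] (Tp i).B)).comp (algebraMap S (Tp i).B)).toAlgebra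
  haveI : ∀ i, IsScalarTower S (Tp i).B (X i) := fun i => IsScalarTower.of_algebraMap_eq fun _ => rfl
  haveI : ∀ i, IsScalarTower R S (X i) := fun i => IsScalarTower.of_algebraMap_eq fun r => by
    show algebraMap R R' r ⊗ₜ[(Tp i).A] (1 : (Tp i).B) = (1 : R') ⊗ₜ[(Tp i).A] algebraMap S (Tp i).B (algebraMap R S r)
    rw [← IsScalarTower.algebraMap_apply R S (Tp i).B, IsScalarTower.algebraMap_apply R (Tp i).A (Tp i).B,
      Algebra.algebraMap_eq_smul_one (A := (Tp i).B), ← TensorProduct.smul_tmul, Algebra.smul_def, mul_one,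
      ← IsScalarTower.algebraMap_apply R (Tp i).A R']
  haveI : ∀ i, Algebra.Etale S (X i) := fun i => by
    haveI := (Tp i).etale
    haveI : Algebra.Etale R (Tp i).A := (Tp i).nhd.1
    haveI : Algebra.Etale (Tp i).A R' := Algebra.Etale.of_restrictScalars R (Tp i).A R'
    haveI : Algebra.Etale (Tp i).B (X i) := Algebra.Etale.of_equiv
      (show (Tp i).B ⊗[(Tp i).A] R' ≃ₐ[(Tp i).B] X i from
        AlgEquiv.ofRingEquiv (f := (Algebra.TensorProduct.comm (Tp i).A (Tp i).B R').toRingEquiv) fun _ => rfl)
    exact Algebra.Etale.comp S (Tp i).B (X i)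
  refine ⟨R', inferInstance, inferInstance, p', inferInstance, hp', ?_⟩
  intro SA NA _ _ _ _ _ _ _ _ _ _ _ g hg
  let A := Localization.AtPrime p'
  choose a2 t2 hS2 het using fun i =>
    exists_etale_algebra_baseChange (R := R) (S := S) (R' := R') (S' := X i) (A := A) SA
  let C : Fin t.card → Type u := fun i => A ⊗[R'] X i
  letI : ∀ i, Algebra SA (C i) := a2
  haveI : ∀ i, IsScalarTower A SA (C i) := t2
  letI : ∀ i, Algebra S (C i) := fun i => ((algebraMap (X i) (A ⊗[R'] X i)).comp (algebraMap S (X i))).toAlgebra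
  haveI : ∀ i, IsScalarTower S (X i) (C i) := fun i => IsScalarTower.of_algebraMap_eq fun _ => rfl
  haveI : ∀ i, IsScalarTower S SA (C i) := fun i => IsScalarTower.of_algebraMap_eq fun s => (hS2 i s).symm
  haveI := het
  let P := ∀ i, C i
  haveI : IsScalarTower A SA P := ⟨fun a b c => funext fun i => smul_assoc a b (c i)⟩
  haveI : IsScalarTower S SA P := ⟨fun a b c => funext fun i => smul_assoc a b (c i)⟩
  have hpiece : ∀ i, Module.FinitePresentation (C i) (C i ⊗[S] N) ∧ Module.Free A (C i ⊗[S] N) := fun i =>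
    free_of_piece (Tp i) (hover i) (X i) (C i)
  obtain ⟨hfp, hfree⟩ := free_pi (A := A) C (fun i => (hpiece i).1) (fun i => (hpiece i).2)
  obtain ⟨hfp', hfree'⟩ := free_model' (A := A) (C := P) hg hfp hfree
  refine ⟨P, inferInstance, inferInstance, inferInstance, inferInstance, inferInstance, inferInstance, inferInstance,
    fun q _ hq => ?_, hfp', hfree'⟩
  have hqZ : (⟨q, inferInstance⟩ : PrimeSpectrum S) ∈ Z := Set.mem_singleton_iff.2 (PrimeSpectrum.ext hq.over.symm)
  obtain ⟨T, hT, z, hzf, hz⟩ := Set.mem_iUnion₂.1 (ht hqZ)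
  obtain ⟨i, rfl⟩ : ∃ i, Tp i = T := ⟨t.equivFin ⟨T, hT⟩, by simp [Tp]⟩
  have hzq : z.asIdeal.comap (algebraMap S (Tp i).B) = q := congrArg PrimeSpectrum.asIdeal hz
  obtain ⟨Y, hY, hYp, hYz⟩ := exists_point_refinement (Tp i) hp' (hover i) z hzf (by rw [hzq]; exact hq)
  let Y' : Ideal (X i) := Y
  haveI : Y'.IsPrime := hY
  have hd : Disjoint (Algebra.algebraMapSubmonoid (X i) p'.primeCompl : Set (X i)) Y' := Set.disjoint_left.2 fun x hx hxY => by
    obtain ⟨a, ha, rfl⟩ := hx
    exact ha (hYp.over.symm.le hxY)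
  let x := Y'.map (algebraMap (X i) (C i))
  haveI : x.IsPrime := IsLocalization.isPrime_of_isPrime_disjoint (Algebra.algebraMapSubmonoid (X i) p'.primeCompl) (C i) Y' inferInstance hd
  have hc : x.comap (algebraMap (X i) (C i)) = Y' :=
    IsLocalization.under_map_of_isPrime_disjoint (Algebra.algebraMapSubmonoid (X i) p'.primeCompl) (C i) ‹_› hd
  refine ⟨x.comap (Pi.evalRingHom C i), inferInstance, ?_, ⟨?_⟩⟩
  · rw [Ideal.comap_comap]
    show x.comap (algebraMap S (C i)) = q
    rw [IsScalarTower.algebraMap_eq S (X i) (C i), ← Ideal.comap_comap, hc, IsScalarTower.algebraMap_eq S (Tp i).B (X i),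
      ← Ideal.comap_comap]
    exact (congrArg (Ideal.comap (algebraMap S (Tp i).B)) hYz).trans hzq
  · show IsLocalRing.maximalIdeal A = (x.comap (Pi.evalRingHom C i)).comap (algebraMap A P)
    rw [Ideal.comap_comap]
    refine (IsLocalRing.maximalIdeal.isMaximal A).eq_of_le Ideal.IsPrime.ne_top' (fun a ha => ?_)
    rw [← Localization.AtPrime.map_eq_maximalIdeal] at ha
    refine Ideal.map_le_iff_le_comap.2 (fun r hr => ?_) ha
    show algebraMap A (C i) (algebraMap R' A r) ∈ x
    rw [← IsScalarTower.algebraMap_apply R' A (C i), IsScalarTower.algebraMap_apply R' (X i) (C i)]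
    exact hc.symm.le (hYp.over.le hr)

/-- A module flat along a fibre is flat and finitely presented near every point of the closed fibre over an étale
neighbourhood of the base. -/
theorem exists_away_fibre [Algebra.FiniteType R S] [Module R N] [IsScalarTower R S N] [Module.Finite S N]
    (p : Ideal R) [p.IsPrime] (hflat : ∀ (q : Ideal S) [q.IsPrime], q.LiesOver p → FlatCA.FlatAt R q N) :
    ∃ (R' : Type u) (_ : CommRing R') (_ : Algebra R R') (p' : Ideal R') (_ : p'.IsPrime), FlatCA.IsEtaleNhd R R' p p' ∧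
      ∀ (SA NA : Type u) [CommRing SA] [Algebra R SA] [Algebra S SA] [Algebra (Localization.AtPrime p') SA]
        [IsScalarTower R S SA] [IsScalarTower R (Localization.AtPrime p') SA]
        [Algebra.IsPushout R S (Localization.AtPrime p') SA]
        [AddCommGroup NA] [Module SA NA] [Module S NA] [IsScalarTower S SA NA]
        [Module (Localization.AtPrime p') NA] [IsScalarTower (Localization.AtPrime p') SA NA]
        (f : N →ₗ[S] NA), IsBaseChange SA f →
        ∀ (Q : Ideal SA) [Q.IsPrime], Q.LiesOver (IsLocalRing.maximalIdeal (Localization.AtPrime p')) →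
        ∃ g : SA, g ∉ Q ∧
          Module.FinitePresentation (Localization.Away g) (LocalizedModule (Submonoid.powers g) NA) ∧
          Module.Flat (Localization.AtPrime p') (LocalizedModule (Submonoid.powers g) NA) := by
  obtain ⟨R', _, _, p', _, hR, H⟩ := exists_free_fibre (N := N) p hflat
  refine ⟨R', inferInstance, inferInstance, p', inferInstance, hR, ?_⟩
  intro SA NA _ _ _ _ _ _ _ _ _ _ _ _ _ f hf Q _ hQm
  obtain ⟨C, _, _, _, _, _, _, _, hsurj, hfp, hfree⟩ := H SA NA f hf
  let A := Localization.AtPrime p'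
  obtain ⟨ho, -⟩ := hR.2
  have hm : (IsLocalRing.maximalIdeal A).LiesOver p := ⟨by
    show p = (IsLocalRing.maximalIdeal A).comap (algebraMap R A)
    rw [IsScalarTower.algebraMap_eq R R' A, ← Ideal.comap_comap]
    exact ho.over.trans (congrArg (Ideal.comap (algebraMap R R')) (IsLocalization.AtPrime.under_maximalIdeal A p').symm)⟩
  let q := Q.comap (algebraMap S SA)
  have hqp : q.LiesOver p := ⟨by
    show p = (Q.comap (algebraMap S SA)).comap (algebraMap R S)
    rw [Ideal.comap_comap, ← IsScalarTower.algebraMap_eq R S SA, IsScalarTower.algebraMap_eq R A SA, ← Ideal.comap_comap]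
    exact hm.over.trans (congrArg (Ideal.comap (algebraMap R A)) hQm.over)⟩
  obtain ⟨x', hx', hxq, hxm⟩ := hsurj q hqp
  haveI := hx'
  have hflatC : Module.Flat A (C ⊗[SA] NA) := by
    haveI := hfree
    exact Module.Flat.of_linearEquiv
      ({ (RestrictScalars.addEquiv A C (C ⊗[SA] NA)).symm with
         map_smul' := fun a z => by
          show a • z = algebraMap A C a • z
          rw [algebraMap_smul] } : C ⊗[SA] NA ≃ₗ[A] RestrictScalars A C (C ⊗[SA] NA))
  obtain ⟨g, hg, h1, h2⟩ := exists_away_flat NA x' hfp hflatC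
  refine ⟨g, fun hgQ => hg ?_, h1, h2⟩
  rw [eq_of_residue_bijective hm (exists_frac_residue hR) q (x'.comap (algebraMap SA C)) Q ⟨by
      show q = (x'.comap (algebraMap SA C)).comap (algebraMap S SA)
      rw [Ideal.comap_comap, ← IsScalarTower.algebraMap_eq S SA C]
      exact hxq.symm⟩ ⟨rfl⟩ ⟨by
      show IsLocalRing.maximalIdeal A = (x'.comap (algebraMap SA C)).comap (algebraMap A SA)
      rw [Ideal.comap_comap, ← IsScalarTower.algebraMap_eq A SA C]
      exact hxm.over⟩ hQm]
  exact hgQ

end GrothLib.RGProj13
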