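import Groth.Agent.Lib.RGProj13.FreeOpen
import Groth.Agent.Lib.FlatteningHens1.Main
import Groth.Agent.Lib.ProjPure13.EtaleAss

/-!
A flat finite module over a local algebra essentially of finite type over a henselian local ring is
Mittag-Leffler over the base.
-/

set_option autoImplicit false
set_option linter.style.haveILetI false
set_option linter.unusedSectionVars false
universe u

open TensorProduct

namespace GrothLib.RGProj13

attribute [local instance] Algebra.TensorProduct.rightAlgebra

/-- Smul on a tensor product as the tensor of the smul. -/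
theorem rTensor_lsmul {A B M : Type u} [CommRing A] [CommRing B] [Algebra A B] [AddCommGroup M] [Module B M]
    [Module A M] [IsScalarTower A B M] (Q : Type u) [AddCommGroup Q] [Module A Q] (b : B) (y : M ⊗[A] Q) :
    ((LinearMap.lsmul B M b).restrictScalars A).rTensor Q y = b • y := by
  induction y using TensorProduct.induction_on with
  | zero => simp
  | add x y hx hy => rw [map_add, smul_add, hx, hy]
  | tmul m q => rfl

/-- A localization along universally injective elements of a Mittag-Leffler module is Mittag-Leffler. -/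
theorem ml_of_isLocalizedModule {A B M N : Type u} [CommRing A] [CommRing B] [Algebra A B] [AddCommGroup M]
    [Module B M] [Module A M] [IsScalarTower A B M] [AddCommGroup N] [Module B N] [Module A N] [IsScalarTower A B N]
    (T : Submonoid B) (ι : M →ₗ[B] N) [IsLocalizedModule T ι]
    (hT : ∀ t ∈ T, FlatCA.UnivInj A ((LinearMap.lsmul B M t).restrictScalars A))
    (hM : CAlg.IsMittagLeffler A M) : CAlg.IsMittagLeffler A N := by
  have hsm : ∀ (Q : Type u) [AddCommGroup Q] [Module A Q] (t : B), t ∈ T → ∀ y : M ⊗[A] Q, t • y = 0 → y = 0 := by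
    intro Q _ _ t ht y hy
    refine (LinearMap.lTensor_inj_iff_rTensor_inj Q _).1 (hT t ht Q) ?_
    rw [map_zero, rTensor_lsmul, hy]
  have hι : ∀ (Q : Type u) [AddCommGroup Q] [Module A Q], Function.Injective ((ι.restrictScalars A).rTensor Q) := by
    intro Q _ _
    rw [injective_iff_map_eq_zero]
    intro y hy
    haveI : IsLocalizedModule T (AlgebraTensorModule.rTensor A Q ι) := inferInstance
    have h0 : AlgebraTensorModule.rTensor A Q ι y = 0 := hy
    obtain ⟨⟨t, ht⟩, hn⟩ := IsLocalizedModule.eq_zero_iff T (AlgebraTensorModule.rTensor A Q ι) |>.1 h0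
    exact hsm Q t ht y hn
  intro ι' Q _ _
  rw [injective_iff_map_eq_zero]
  intro z hz
  obtain ⟨⟨y, ⟨t, ht⟩⟩, hn⟩ := IsLocalizedModule.surj T (AlgebraTensorModule.rTensor A (∀ i, Q i) ι) z
  change t • z = AlgebraTensorModule.rTensor A (∀ i, Q i) ι y at hn
  let e : N →ₗ[A] N := (LinearMap.lsmul B N t).restrictScalars A
  have hy : y = 0 := by
    refine hM ι' Q ?_
    rw [map_zero]
    funext i
    refine hι (Q i) ?_
    rw [Pi.zero_apply, map_zero]
    have h1 := GrothLib.ML.cmp_rTensor Q (ι.restrictScalars A) y i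
    rw [show (ι.restrictScalars A).rTensor (∀ i, Q i) y = e.rTensor _ z from
        hn.symm.trans (rTensor_lsmul (A := A) (∀ i, Q i) t z).symm,
      GrothLib.ML.cmp_rTensor, show GrothLib.ML.cmp Q N z i = 0 from congrFun hz i, map_zero] at h1
    exact h1.symm
  rw [hy, map_zero] at hn
  refine ((Module.End.isUnit_iff _).1 (IsLocalizedModule.map_units (AlgebraTensorModule.rTensor A (∀ i, Q i) ι)
    (⟨t, ht⟩ : T))).1 ?_
  rw [map_zero]
  exact hn

/-- One element kills all torsion at a prime of a fibre. -/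
theorem exists_kill_torsion {A B : Type u} [CommRing A] [CommRing B] [Algebra A B] [Algebra.FiniteType A B]
    (M : Type u) [AddCommGroup M] [Module B M] [Module A M] [IsScalarTower A B M] [Module.Finite B M]
    (p : Ideal A) [p.IsPrime] (q : Ideal B) [q.IsPrime] :
    ∃ g ∉ q, ∀ s ∉ q, ∀ y : M ⊗[A] p.ResidueField, s • y = 0 → g • y = 0 := by
  classical
  haveI : IsNoetherianRing (p.Fiber B) := Algebra.FiniteType.isNoetherianRing p.ResidueField _
  haveI : Module.Finite (p.Fiber B) (FlatCA.fiberMod p B M) :=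
    inferInstanceAs (Module.Finite (p.Fiber B) ((p.Fiber B) ⊗[B] M))
  obtain ⟨e, he⟩ := GrothLib.WeakAssFib.exists_fibreEquiv p (S := B) M
  let φ := GrothLib.WeakAssFib.toFib (R := A) (S := B) p
  let K : Submodule (p.Fiber B) (FlatCA.fiberMod p B M) :=
    { carrier := {w | ∃ s ∉ q, φ s • w = 0}
      add_mem' := by
        rintro a b ⟨s, hs, ha⟩ ⟨t, ht, hb⟩
        refine ⟨s * t, q.primeCompl.mul_mem hs ht, ?_⟩
        rw [map_mul, smul_add, mul_comm (φ s), mul_smul, ha, smul_zero, zero_add, mul_comm, mul_smul, hb, smul_zero]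
      zero_mem' := ⟨1, q.primeCompl.one_mem, smul_zero _⟩
      smul_mem' := by
        rintro c w ⟨s, hs, hw⟩
        exact ⟨s, hs, by rw [smul_comm, hw, smul_zero]⟩ }
  obtain ⟨F, hF⟩ : K.FG := IsNoetherian.noetherian K
  have hmem : ∀ w ∈ F, ∃ s ∉ q, φ s • w = 0 := fun w hw =>
    show w ∈ K from hF ▸ Submodule.subset_span hw
  choose! s hs hsw using hmem
  refine ⟨∏ w ∈ F, s w, prod_mem (S := q.primeCompl) fun w hw => hs w hw, fun t ht y hy => ?_⟩
  have hK : e y ∈ K := ⟨t, ht, by rw [← he, hy, map_zero]⟩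
  refine e.injective ?_
  rw [he, map_zero]
  rw [← hF] at hK
  show φ (∏ w ∈ F, s w) • e y = 0
  generalize e y = w at hK
  induction hK using Submodule.span_induction with
  | mem x hx =>
    obtain ⟨c, hc⟩ := Finset.dvd_prod_of_mem s hx
    rw [hc, mul_comm, map_mul, mul_smul, hsw x hx, smul_zero]
  | zero => exact smul_zero _
  | add a b _ _ ha hb => rw [smul_add, ha, hb, add_zero]
  | smul c a _ ha => rw [smul_comm, ha, smul_zero]

/-- Regularity at a prime passes to principal localizations. -/
theorem regular_localized {A B M M' : Type u} [CommRing A] [CommRing B] [Algebra A B] [AddCommGroup M] [Module B M]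
    [Module A M] [IsScalarTower A B M] [AddCommGroup M'] [Module B M'] [Module A M'] [IsScalarTower A B M']
    (Q : Type u) [AddCommGroup Q] [Module A Q] (q : Ideal B) [q.IsPrime] (g h : B) (hg : g ∉ q) (hh : h ∉ q)
    (ι : M →ₗ[B] M') [IsLocalizedModule (Submonoid.powers (g * h)) ι]
    (htor : ∀ s ∉ q, ∀ y : M ⊗[A] Q, s • y = 0 → g • y = 0) (s : B) (hs : s ∉ q) (y : M' ⊗[A] Q) (hy : s • y = 0) :
    y = 0 := by
  let ι' := AlgebraTensorModule.rTensor A Q ι
  haveI : IsLocalizedModule (Submonoid.powers (g * h)) ι' := inferInstance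
  obtain ⟨⟨z, c⟩, hc⟩ := IsLocalizedModule.surj (Submonoid.powers (g * h)) ι' y
  change (c : B) • y = ι' z at hc
  have hinj : ∀ w : M' ⊗[A] Q, (c : B) • w = 0 → w = 0 := fun w hw =>
    ((Module.End.isUnit_iff _).1 (IsLocalizedModule.map_units ι' c)).1 (hw.trans (map_zero _).symm)
  have hgh : ∀ w : M' ⊗[A] Q, (g * h) • w = 0 → w = 0 := fun w hw =>
    ((Module.End.isUnit_iff _).1 (IsLocalizedModule.map_units ι'
      (⟨g * h, Submonoid.mem_powers _⟩ : Submonoid.powers (g * h)))).1 (hw.trans (map_zero _).symm)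
  have h0 : ι' (s • z) = 0 := by rw [map_smul, ← hc, smul_comm, hy, smul_zero]
  obtain ⟨⟨_, j, rfl⟩, hj⟩ := (IsLocalizedModule.eq_zero_iff (Submonoid.powers (g * h)) ι').1 h0
  change (g * h) ^ j • s • z = 0 at hj
  rw [smul_smul] at hj
  have hgz : g • z = 0 :=
    htor _ (q.primeCompl.mul_mem (q.primeCompl.pow_mem (q.primeCompl.mul_mem hg hh) j) hs) z hj
  refine hinj y (hgh _ ?_)
  rw [hc, mul_comm, mul_smul, ← map_smul, hgz, map_zero, smul_zero]

/-- Freeness of an étale piece along a change of the base. -/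
theorem projective_transfer {A' A SA B C C₁ NA N : Type u} [CommRing A'] [CommRing A] [CommRing SA] [CommRing B]
    [CommRing C] [CommRing C₁] [Algebra A' A] [Algebra SA B] [Algebra SA C] [Algebra C C₁] [Algebra B C₁]
    [Algebra SA C₁] [IsScalarTower SA C C₁] [IsScalarTower SA B C₁] [Algebra A' C] [Algebra A C₁] [Algebra A' C₁]
    [IsScalarTower A' A C₁] [IsScalarTower A' C C₁] [Algebra.IsPushout A' A C C₁]
    [AddCommGroup NA] [Module SA NA] [AddCommGroup N] [Module B N] [Module SA N] [IsScalarTower SA B N]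
    {φ : NA →ₗ[SA] N} (hφ : IsBaseChange B φ) [Module.Projective A' (C ⊗[SA] NA)] :
    Module.Projective A (C₁ ⊗[B] N) := by
  let Y := C ⊗[SA] NA
  let e : C₁ ⊗[C] Y ≃ₗ[C₁] C₁ ⊗[B] N :=
    AlgebraTensorModule.cancelBaseChange SA C C₁ C₁ NA ≪≫ₗ (modelEquiv hφ).symm
  haveI : Module.Projective A (A ⊗[A'] Y) := inferInstance
  haveI : Module.Projective A (C₁ ⊗[C] Y) :=
    Module.Projective.of_equiv (Algebra.IsPushout.cancelBaseChange A' A C C₁ Y).symm
  exact Module.Projective.of_equiv (e.restrictScalars A)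

set_option maxHeartbeats 800000 in
/-- Over a henselian local base a module flat at a point over the closed point is free on a principal open. -/
theorem exists_free_away_henselian {A B : Type u} [CommRing A] [HenselianLocalRing A] [CommRing B] [Algebra A B]
    [Algebra.FiniteType A B] (N : Type u) [AddCommGroup N] [Module B N] [Module A N] [IsScalarTower A B N]
    [Module.Finite B N] (q : Ideal B) [q.IsPrime] [q.LiesOver (IsLocalRing.maximalIdeal A)]
    (hflat : FlatCA.FlatAt A q N) :
    ∃ h ∉ q, Module.Free A (Localization.Away h ⊗[B] N) := by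
  let m := IsLocalRing.maximalIdeal A
  obtain ⟨R', _, _, p', _, hR, H⟩ := exists_free_nhd N m q hflat
  obtain ⟨σ, hσ⟩ := GrothLib.FlatteningHens1.exists_section p' hR
  let A' := Localization.AtPrime p'
  have hu : ∀ y : p'.primeCompl, IsUnit (σ y) := fun y => by
    by_contra hn
    exact y.2 (hσ.le hn)
  letI : Algebra A' A := (IsLocalization.lift (S := A') (g := σ.toRingHom) hu).toAlgebra
  haveI : IsScalarTower A A' A := IsScalarTower.of_algebraMap_eq fun a => by
    show a = IsLocalization.lift (S := A') (g := σ.toRingHom) hu (algebraMap A A' a)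
    rw [IsScalarTower.algebraMap_apply A R' A', IsLocalization.lift_eq]
    exact (σ.commutes a).symm
  obtain ⟨SA, NA, _, _, _, _, _, _, _, _, _, _, _, _, f, hpo, hf⟩ := GrothLib.RG6.Impure.exists_data A B N A'
  haveI hpo₂ : Algebra.IsPushout A B A B := Algebra.IsPushout.symm (inferInstance : Algebra.IsPushout A A B B)
  obtain ⟨_, _, _, _, _, hsq, _, _, φ, hφ, -⟩ := GrothLib.RG6.Impure.exists_map (A₁ := A') (A₂ := A) hpo hf hpo₂
    (IsBaseChange.ofEquiv (LinearEquiv.refl B N))
  obtain ⟨C, _, _, _, _, _, _, x, _, hxq, het, -, hxm, -, hfree⟩ := H SA NA f hf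
  haveI := het
  haveI : Module.Projective A' (C ⊗[SA] NA) := by
    haveI := hfree
    exact Module.Projective.of_equiv
      ({ RestrictScalars.addEquiv A' C (C ⊗[SA] NA) with
         map_smul' := fun a z => by
          show algebraMap A' C a • RestrictScalars.addEquiv A' C _ z = a • RestrictScalars.addEquiv A' C _ z
          rw [algebraMap_smul] } : RestrictScalars A' C (C ⊗[SA] NA) ≃ₗ[A'] C ⊗[SA] NA)
  -- the two points agree
  haveI hA' : (IsLocalRing.maximalIdeal A').LiesOver m := by
    obtain ⟨ho, -⟩ := hR.2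
    haveI := ho
    haveI : (IsLocalRing.maximalIdeal A').LiesOver p' := ⟨(IsLocalization.AtPrime.under_maximalIdeal A' p').symm⟩
    exact Ideal.LiesOver.trans _ p' m
  have hloc : (IsLocalRing.maximalIdeal A').comap (algebraMap A A') = m := hA'.over.symm
  have hm' : m.comap (algebraMap A' A) = IsLocalRing.maximalIdeal A' := by
    refine ((IsLocalRing.maximalIdeal.isMaximal A').eq_of_le ?_ ?_).symm
    · exact (Ideal.IsPrime.comap _).ne_top
    · rw [← Localization.AtPrime.map_eq_maximalIdeal]
      refine Ideal.map_le_iff_le_comap.2 fun r hr => ?_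
      show algebraMap A' A (algebraMap R' A' r) ∈ m
      show IsLocalization.lift (S := A') (g := σ.toRingHom) hu (algebraMap R' A' r) ∈ m
      rw [IsLocalization.lift_eq]
      exact hσ.symm.le hr
  have heq : q.comap (algebraMap SA B) = x.comap (algebraMap SA C) :=
    eq_of_residue_bijective (R := A) (S := B) (A := A') (SA := SA) hA' (exists_frac_residue hR) q _ _
      ⟨by
        show q = (q.comap (algebraMap SA B)).comap (algebraMap B SA)
        rw [Ideal.comap_comap, ← IsScalarTower.algebraMap_eq B SA B]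
        rfl⟩
      ⟨by
        show q = (x.comap (algebraMap SA C)).comap (algebraMap B SA)
        rw [Ideal.comap_comap, ← IsScalarTower.algebraMap_eq B SA C]
        exact hxq.over⟩
      ⟨by
        show _ = (q.comap (algebraMap SA B)).comap (algebraMap A' SA)
        rw [Ideal.comap_comap, ← IsScalarTower.algebraMap_eq A' SA B, IsScalarTower.algebraMap_eq A' A B,
          ← Ideal.comap_comap, ← hm']
        exact congrArg _ (Ideal.LiesOver.over : m = q.comap (algebraMap A B))⟩
      ⟨by
        show _ = (x.comap (algebraMap SA C)).comap (algebraMap A' SA)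
        rw [Ideal.comap_comap, ← IsScalarTower.algebraMap_eq A' SA C]
        exact hxm.over⟩
  obtain ⟨x₁, hx₁, hx₁q⟩ := GrothLib.ProjPure13.exists_prime_tensor (R := SA) (S := B) (T := C) q x heq
  haveI := hx₁
  let C₁ := B ⊗[SA] C
  haveI : IsScalarTower A' C C₁ := IsScalarTower.of_algebraMap_eq fun r => by
    show algebraMap A' B r ⊗ₜ[SA] (1 : C) = (1 : B) ⊗ₜ[SA] algebraMap A' C r
    rw [IsScalarTower.algebraMap_apply A' SA B, IsScalarTower.algebraMap_apply A' SA C,
      Algebra.algebraMap_eq_smul_one (A := B), Algebra.algebraMap_eq_smul_one (A := C), TensorProduct.smul_tmul]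
  haveI : Algebra.IsPushout A' SA A B := Algebra.IsPushout.symm hsq
  haveI : Algebra.IsPushout SA C B C₁ := Algebra.IsPushout.symm inferInstance
  haveI : Algebra.IsPushout A' C A C₁ := (Algebra.IsPushout.comp_iff A' SA A B).2 inferInstance
  haveI : Algebra.IsPushout A' A C C₁ := Algebra.IsPushout.symm inferInstance
  haveI : Module.Projective A (C₁ ⊗[B] N) := projective_transfer (A' := A') (C := C) hφ
  obtain ⟨h, hh, hfree₁⟩ := exists_free_away (A := A) (SA := B) (C := C₁) (NA := N) x₁
  exact ⟨h, fun hq => hh (hx₁q.symm.le hq), hfree₁⟩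

set_option maxHeartbeats 800000 in
/-- The Mittag-Leffler property from a finite type model regular at the point. -/
theorem ml_of_model {A B M N : Type u} [CommRing A] [HenselianLocalRing A] [CommRing B] [Algebra A B]
    [Algebra.FiniteType A B] [AddCommGroup M] [Module B M] [Module A M] [IsScalarTower A B M] [Module.Finite B M]
    [AddCommGroup N] [Module B N] [Module A N] [IsScalarTower A B N] [Module.Flat A N]
    (q : Ideal B) [q.IsPrime] [q.LiesOver (IsLocalRing.maximalIdeal A)] (f : M →ₗ[B] N)
    [IsLocalizedModule q.primeCompl f]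
    (hreg : ∀ s ∉ q, ∀ y : M ⊗[A] (IsLocalRing.maximalIdeal A).ResidueField, s • y = 0 → y = 0) :
    CAlg.IsMittagLeffler A N := by
  let m := IsLocalRing.maximalIdeal A
  have hflat : FlatCA.FlatAt A q M :=
    Module.Flat.of_linearEquiv ((IsLocalizedModule.iso q.primeCompl f).restrictScalars A)
  obtain ⟨h, hh, hfree⟩ := exists_free_away_henselian M q hflat
  haveI := hfree
  let M' := Localization.Away h ⊗[B] M
  let ι : M →ₗ[B] M' := TensorProduct.mk B (Localization.Away h) M 1
  haveI : IsLocalizedModule (Submonoid.powers h) ι :=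
    (isLocalizedModule_iff_isBaseChange _ (Localization.Away h) _).2 (TensorProduct.isBaseChange B M _)
  haveI : IsLocalizedModule (Submonoid.powers (1 * h)) ι := by rw [one_mul]; infer_instance
  have hpow : ∀ c : Submonoid.powers h, (c : B) ∉ q := fun c hc => by
    obtain ⟨_, n, rfl⟩ := c
    exact hh (‹q.IsPrime›.mem_of_pow_mem n hc)
  have hu : ∀ c : Submonoid.powers h, IsUnit (algebraMap B (Module.End B N) c) := fun c =>
    IsLocalizedModule.map_units f (⟨c, hpow c⟩ : q.primeCompl)
  let j : M' →ₗ[B] N := IsLocalizedModule.lift (Submonoid.powers h) ι f hu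
  have hj : ∀ z, j (ι z) = f z := fun z => IsLocalizedModule.lift_apply (Submonoid.powers h) ι f hu z
  haveI : IsLocalizedModule q.primeCompl j := by
    refine ⟨fun c => IsLocalizedModule.map_units f c, fun y => ?_, fun {x y} hxy => ?_⟩
    · obtain ⟨⟨z, s⟩, hz⟩ := IsLocalizedModule.surj q.primeCompl f y
      exact ⟨⟨ι z, s⟩, hz.trans (hj z).symm⟩
    · obtain ⟨⟨z, c⟩, hz⟩ := IsLocalizedModule.surj (Submonoid.powers h) ι (x - y)
      change (c : B) • (x - y) = ι z at hz
      have : f z = 0 := by rw [← hj, ← hz, map_smul, map_sub, hxy, sub_self, smul_zero]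
      obtain ⟨s, hs⟩ := (IsLocalizedModule.eq_zero_iff q.primeCompl f).1 this
      refine ⟨s * ⟨c, hpow c⟩, ?_⟩
      rw [Submonoid.smul_def, Submonoid.smul_def, ← sub_eq_zero, ← smul_sub]
      show ((s : B) * (c : B)) • (x - y) = 0
      rw [mul_smul, hz, ← map_smul]
      exact (congrArg ι hs).trans (map_zero ι)
  refine ml_of_isLocalizedModule q.primeCompl j (fun s hs => univInj_of_closed_fibre _ ?_)
    (GrothLib.ML.ml_of_projective M')
  refine (LinearMap.lTensor_inj_iff_rTensor_inj m.ResidueField _).2 ?_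
  rw [injective_iff_map_eq_zero]
  intro y hy
  rw [rTensor_lsmul] at hy
  exact regular_localized m.ResidueField q 1 h q.primeCompl.one_mem hh ι
    (fun t ht z hz => by rw [one_smul]; exact hreg t ht z hz) s hs y hy

set_option maxHeartbeats 800000 in
/-- The Mittag-Leffler property from a finite type model. -/
theorem ml_of_ftModel {A B B₀ N N₀ : Type u} [CommRing A] [HenselianLocalRing A] [CommRing B] [IsLocalRing B]
    [Algebra A B] [IsLocalHom (algebraMap A B)] [CommRing B₀] [Algebra A B₀] [Algebra.FiniteType A B₀] [Algebra B₀ B]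
    [IsScalarTower A B₀ B] [AddCommGroup N] [Module B N] [Module B₀ N] [IsScalarTower B₀ B N] [Module A N]
    [IsScalarTower A B N] [IsScalarTower A B₀ N] [Module.Flat A N] [AddCommGroup N₀] [Module B₀ N₀] [Module A N₀]
    [IsScalarTower A B₀ N₀] [Module.Finite B₀ N₀] (κ : N₀ →ₗ[B₀] N) (hκ : Function.Injective κ)
    (hsurj : ∀ y : N, ∃ s ∉ (IsLocalRing.maximalIdeal B).comap (algebraMap B₀ B), ∃ w, κ w = s • y) :
    CAlg.IsMittagLeffler A N := by
  let m := IsLocalRing.maximalIdeal A
  let q := (IsLocalRing.maximalIdeal B).comap (algebraMap B₀ B)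
  have hunit : ∀ s : B₀, s ∉ q → IsUnit (algebraMap B₀ B s) := fun s hs => by
    by_contra hn
    exact hs hn
  haveI : q.LiesOver m := ⟨by
    show m = ((IsLocalRing.maximalIdeal B).comap (algebraMap B₀ B)).comap (algebraMap A B₀)
    rw [Ideal.comap_comap, ← IsScalarTower.algebraMap_eq A B₀ B]
    exact (IsLocalRing.maximalIdeal_comap (algebraMap A B)).symm⟩
  obtain ⟨g, hg, htor⟩ := exists_kill_torsion N₀ m q
  let B₁ := Localization.Away g
  letI : Algebra B₁ B := (IsLocalization.Away.lift g (hunit g hg)).toAlgebra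
  haveI : IsScalarTower B₀ B₁ B :=
    IsScalarTower.of_algebraMap_eq fun r => (IsLocalization.Away.lift_eq g (hunit g hg) r).symm
  haveI : IsScalarTower A B₁ B := IsScalarTower.of_algebraMap_eq fun r => by
    rw [IsScalarTower.algebraMap_apply A B₀ B₁, ← IsScalarTower.algebraMap_apply B₀ B₁ B,
      ← IsScalarTower.algebraMap_apply A B₀ B]
  letI : Module B₁ N := Module.compHom N (algebraMap B₁ B)
  haveI : IsScalarTower B₁ B N := IsScalarTower.of_algebraMap_smul fun _ _ => rfl
  haveI : IsScalarTower B₀ B₁ N := IsScalarTower.of_algebraMap_smul fun b y => by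
    rw [← algebraMap_smul B (algebraMap B₀ B₁ b) y, ← IsScalarTower.algebraMap_apply B₀ B₁ B, algebraMap_smul]
  haveI : IsScalarTower A B₁ N := IsScalarTower.of_algebraMap_smul fun a y => by
    rw [← algebraMap_smul B (algebraMap A B₁ a) y, ← IsScalarTower.algebraMap_apply A B₁ B, algebraMap_smul]
  let q₁ := (IsLocalRing.maximalIdeal B).comap (algebraMap B₁ B)
  have hq₁ : ∀ s : B₀, s ∉ q → algebraMap B₀ B₁ s ∉ q₁ := fun s hs h => hs (by
    show algebraMap B₀ B s ∈ IsLocalRing.maximalIdeal B
    rw [IsScalarTower.algebraMap_apply B₀ B₁ B]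
    exact h)
  haveI : q₁.LiesOver m := ⟨by
    show m = ((IsLocalRing.maximalIdeal B).comap (algebraMap B₁ B)).comap (algebraMap A B₁)
    rw [Ideal.comap_comap, ← IsScalarTower.algebraMap_eq A B₁ B]
    exact (IsLocalRing.maximalIdeal_comap (algebraMap A B)).symm⟩
  haveI : Algebra.FinitePresentation B₀ B₁ := IsLocalization.Away.finitePresentation g
  haveI : Algebra.FiniteType A B₁ := Algebra.FiniteType.trans (S := B₀) inferInstance inferInstance
  let M := B₁ ⊗[B₀] N₀
  let ι : N₀ →ₗ[B₀] M := TensorProduct.mk B₀ B₁ N₀ 1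
  haveI : IsLocalizedModule (Submonoid.powers g) ι :=
    (isLocalizedModule_iff_isBaseChange _ B₁ _).2 (TensorProduct.isBaseChange B₀ N₀ B₁)
  haveI : IsLocalizedModule (Submonoid.powers (g * 1)) ι := by rw [mul_one]; infer_instance
  let f : M →ₗ[B₁] N := (TensorProduct.isBaseChange B₀ N₀ B₁).lift κ
  have hf : ∀ z, f (ι z) = κ z := fun z => (TensorProduct.isBaseChange B₀ N₀ B₁).lift_eq κ z
  haveI : IsLocalizedModule q₁.primeCompl f := by
    refine ⟨fun c => ?_, fun y => ?_, fun {x y} hxy => ⟨1, ?_⟩⟩
    · have hc : IsUnit (algebraMap B₁ B c) := by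
        by_contra hn
        exact c.2 hn
      rw [Module.End.isUnit_iff]
      have h1 := hc.smul_bijective (β := N)
      convert h1 using 1
      funext z
      exact (algebraMap_smul B (c : B₁) z).symm
    · obtain ⟨s, hs, w, hy⟩ := hsurj y
      refine ⟨⟨ι w, ⟨algebraMap B₀ B₁ s, hq₁ s hs⟩⟩, ?_⟩
      show algebraMap B₀ B₁ s • y = f (ι w)
      rw [hf, hy, algebraMap_smul]
    · obtain ⟨⟨z, c⟩, hz⟩ := IsLocalizedModule.surj (Submonoid.powers g) ι (x - y)
      change (c : B₀) • (x - y) = ι z at hz
      have h0 : κ z = 0 := by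
        rw [← hf, ← hz, LinearMap.map_smul_of_tower, map_sub, hxy, sub_self, smul_zero]
      rw [show z = 0 from hκ (h0.trans (map_zero κ).symm), map_zero] at hz
      have h2 : x - y = 0 :=
        ((Module.End.isUnit_iff _).1 (IsLocalizedModule.map_units ι c)).1 (hz.trans (map_zero _).symm)
      rw [sub_eq_zero.1 h2]
  refine ml_of_model (B := B₁) q₁ f fun s hs y hy => ?_
  obtain ⟨⟨b, d⟩, hb⟩ := IsLocalization.surj (Submonoid.powers g) s
  have hbq : b ∉ q := fun hbm => by
    have h1 : algebraMap B₀ B₁ b ∈ q₁ := by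
      show algebraMap B₁ B (algebraMap B₀ B₁ b) ∈ IsLocalRing.maximalIdeal B
      rw [← IsScalarTower.algebraMap_apply B₀ B₁ B]
      exact hbm
    rw [← hb] at h1
    exact hs ((q₁.mul_unit_mem_iff_mem (IsLocalization.map_units B₁ d)).1 h1)
  refine regular_localized m.ResidueField q g 1 hg q.primeCompl.one_mem ι htor b hbq y ?_
  rw [← algebraMap_smul B₁ b y, ← hb, mul_comm, mul_smul, hy, smul_zero]

set_option maxHeartbeats 800000 in
/-- A flat finite module over a local algebra essentially of finite type over a henselian local ring is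
Mittag-Leffler. -/
theorem ml_of_henselian {A B : Type u} [CommRing A] [HenselianLocalRing A] [CommRing B] [IsLocalRing B] [Algebra A B]
    [IsLocalHom (algebraMap A B)] [Algebra.EssFiniteType A B]
    (N : Type u) [AddCommGroup N] [Module B N] [Module A N] [IsScalarTower A B N] [Module.Finite B N] [Module.Flat A N] :
    CAlg.IsMittagLeffler A N := by
  classical
  let B₀ := Algebra.EssFiniteType.subalgebra A B
  let q := (IsLocalRing.maximalIdeal B).comap (algebraMap B₀ B)
  obtain ⟨G, hG⟩ := Module.Finite.fg_top (R := B) (M := N)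
  let N₀ : Submodule B₀ N := Submodule.span B₀ (G : Set N)
  haveI : Module.Finite B₀ N₀ := Module.Finite.iff_fg.2 (Submodule.fg_span G.finite_toSet)
  have hsurj : ∀ y : N, ∃ s ∉ q, s • y ∈ N₀ := by
    intro y
    have hy : y ∈ Submodule.span B (G : Set N) := hG ▸ trivial
    induction hy using Submodule.span_induction with
    | mem x hx => exact ⟨1, q.primeCompl.one_mem, by rw [one_smul]; exact Submodule.subset_span hx⟩
    | zero => exact ⟨1, q.primeCompl.one_mem, by rw [smul_zero]; exact N₀.zero_mem⟩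
    | add a b _ _ ha hb =>
      obtain ⟨s, hs, ha⟩ := ha
      obtain ⟨t, ht, hb⟩ := hb
      refine ⟨s * t, q.primeCompl.mul_mem hs ht, ?_⟩
      rw [smul_add]
      refine N₀.add_mem ?_ ?_
      · rw [mul_comm, mul_smul]
        exact N₀.smul_mem t ha
      · rw [mul_smul]
        exact N₀.smul_mem s hb
    | smul c a _ ha =>
      obtain ⟨s, hs, ha⟩ := ha
      obtain ⟨⟨b, t⟩, hbt⟩ := IsLocalization.surj (Algebra.EssFiniteType.submonoid A B) c
      have ht : (t : B₀) ∉ q := fun hq =>
        (IsLocalRing.notMem_maximalIdeal.2 (IsLocalization.map_units B t)) hq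
      refine ⟨t * s, q.primeCompl.mul_mem ht hs, ?_⟩
      have e1 : ((t : B₀) * s) • c • a = b • s • a := by
        rw [← algebraMap_smul B ((t : B₀) * s), ← algebraMap_smul B b, ← algebraMap_smul B s a, smul_smul, smul_smul,
          ← hbt, map_mul]
        congr 1
        ring
      rw [e1]
      exact N₀.smul_mem b ha
  exact ml_of_ftModel (B := B) N₀.subtype N₀.injective_subtype fun y => by
    obtain ⟨s, hs, hy⟩ := hsurj y
    exact ⟨s, hs, ⟨s • y, hy⟩, rfl⟩

end GrothLib.RGProj13
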