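import Groth.Agent.Lib.RGProj13.Descend
import Groth.Agent.Lib.RG6.Dev.Models
import Groth.Agent.Lib.RG6.Dev.Nbhd
import Groth.Agent.S12243

/-!
Complete dévissages covering a fibre after one étale localization of the base.
-/

set_option autoImplicit false
set_option linter.style.haveILetI false
universe u

open TensorProduct

namespace GrothLib.RGProj13

attribute [local instance] Algebra.TensorProduct.rightAlgebra

/-- The zero module has a complete dévissage. -/
theorem nonempty_devissage_of_subsingleton {R S : Type u} [CommRing R] [CommRing S] [Algebra R S]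
    (N : Type u) [AddCommGroup N] [Module S N] [Subsingleton N] (p : Ideal R) [hp : p.IsPrime] :
    Nonempty (FlatCA.CompleteDevissage R S N p) := by
  haveI hirr : FlatCA.GeomIntegralFibres R R := GrothLib.RG6.Geom.geomIntegralFibres_of_isDomain fun K _ _ =>
    (Algebra.TensorProduct.rid R K K).toMulEquiv.isDomain
  haveI : (p.map (algebraMap R R)).IsPrime := by rw [Algebra.algebraMap_self, Ideal.map_id]; exact hp
  haveI : Subsingleton (PUnit.{u + 1}) := inferInstance
  exact ⟨{ n := 1
           pos := Nat.one_pos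
           A := fun _ => PUnit.{u + 1}
           B := fun _ => R
           M := fun _ => PUnit.{u + 1}
           r := fun _ => 0
           tRBA := fun _ => IsScalarTower.of_algebraMap_eq fun _ => Subsingleton.elim _ _
           tRSA := IsScalarTower.of_algebraMap_eq fun _ => Subsingleton.elim _ _
           tRBA' := fun _ => IsScalarTower.of_algebraMap_eq fun _ => Subsingleton.elim _ _
           tBAM := fun _ => ⟨fun _ _ _ => Subsingleton.elim _ _⟩
           tRBM := fun _ => ⟨fun _ _ _ => Subsingleton.elim _ _⟩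
           tSAM := ⟨fun _ _ _ => Subsingleton.elim _ _⟩
           tB'AM := fun _ => ⟨fun _ _ _ => Subsingleton.elim _ _⟩
           hp := fun _ => inferInstance
           α := fun _ => 0
           surjSA := fun x => ⟨0, Subsingleton.elim _ _⟩
           fpSA := Algebra.FinitePresentation.of_surjective (f := Algebra.ofId S PUnit.{u + 1})
             (fun x => ⟨0, Subsingleton.elim _ _⟩) (by
               rw [show RingHom.ker (Algebra.ofId S PUnit.{u + 1}).toRingHom = (⊤ : Ideal S) from
                 eq_top_iff.2 fun x _ => Subsingleton.elim _ _]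
               exact ⟨{1}, by simp⟩)
           surjBA' := fun i h => absurd h (by omega)
           fpBA' := fun i h => absurd h (by omega)
           finiteBA := fun _ _ => inferInstance
           smooth := fun _ _ => inferInstance
           geomIrred := fun _ _ => inferInstance
           finiteM := fun _ _ => inferInstance
           isoN := { toFun := fun _ => PUnit.unit, invFun := fun _ => 0, left_inv := fun _ => Subsingleton.elim _ _,
                     right_inv := fun _ => rfl, map_add' := fun _ _ => rfl, map_smul' := fun _ _ => rfl }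
           isoCoker := fun i h => absurd h (by omega)
           fibreIso := fun i _ => by
             haveI : Subsingleton ((p.map (algebraMap R R)).ResidueField ⊗[R] PUnit.{u + 1}) :=
               ⟨fun a b => by
                 have h0 : ∀ z : (p.map (algebraMap R R)).ResidueField ⊗[R] PUnit.{u + 1}, z = 0 := fun z => by
                   induction z using TensorProduct.induction_on with
                   | zero => rfl
                   | tmul x y => rw [Subsingleton.elim y 0, tmul_zero]
                   | add x y hx hy => rw [hx, hy, add_zero]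
                 rw [h0 a, h0 b]⟩
             haveI : Subsingleton ((p.map (algebraMap R R)).ResidueField ⊗[R] (Fin 0 → R)) :=
               ⟨fun a b => by
                 have h0 : ∀ z : (p.map (algebraMap R R)).ResidueField ⊗[R] (Fin 0 → R), z = 0 := fun z => by
                   induction z using TensorProduct.induction_on with
                   | zero => rfl
                   | tmul x y => rw [Subsingleton.elim y 0, tmul_zero]
                   | add x y hx hy => rw [hx, hy, add_zero]
                 rw [h0 a, h0 b]⟩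
             exact ⟨fun a b _ => Subsingleton.elim _ _, fun b => ⟨0, Subsingleton.elim _ _⟩⟩
           cokerLast := fun x => ⟨0, Subsingleton.elim _ _⟩ }⟩

/-- An étale piece with a complete dévissage, and an open where the point over the base point is unique. -/
structure DevPiece (A B : Type u) [CommRing A] [CommRing B] [Algebra A B] (N : Type u) [AddCommGroup N] [Module B N]
    (p : Ideal A) [p.IsPrime] where
  R : Type u
  S : Type u
  [cR : CommRing R]
  [cS : CommRing S]
  [aAR : Algebra A R]
  [aBS : Algebra B S]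
  [aRS : Algebra R S]
  [aAS : Algebra A S]
  [tAR : IsScalarTower A R S]
  [tAB : IsScalarTower A B S]
  pR : Ideal R
  [hpR : pR.IsPrime]
  nhd : FlatCA.IsEtaleNhd A R p pR
  etale : Algebra.Etale B S
  f : R
  uniq : ∀ P : Ideal R, P.IsPrime → P.LiesOver p → f ∉ P → P = pR
  dev : Nonempty (FlatCA.CompleteDevissage R S (S ⊗[B] N) pR)

attribute [instance] DevPiece.cR DevPiece.cS DevPiece.aAR DevPiece.aBS DevPiece.aRS DevPiece.aAS DevPiece.tAR
  DevPiece.tAB DevPiece.hpR

variable {A B : Type u} [CommRing A] [CommRing B] [Algebra A B] {N : Type u} [AddCommGroup N] [Module B N]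

/-- The open of the base covered by a piece. -/
noncomputable def DevPiece.cover {p : Ideal A} [p.IsPrime] (T : DevPiece A B N p) : Set (PrimeSpectrum B) :=
  PrimeSpectrum.comap (algebraMap B T.S) '' (PrimeSpectrum.basicOpen (algebraMap T.R T.S T.f) : Set (PrimeSpectrum T.S))

theorem exists_devPiece [Algebra.FiniteType A B] [Module A N] [IsScalarTower A B N] [Module.Finite B N]
    (p : Ideal A) [p.IsPrime] (q : Ideal B) [q.IsPrime] [q.LiesOver p] :
    ∃ T : DevPiece A B N p, (⟨q, inferInstance⟩ : PrimeSpectrum B) ∈ T.cover := by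
  by_cases hann : Module.annihilator B N ≤ q
  · obtain ⟨R, S, _, _, _, _, _, _, _, _, pR, qS, _, _, hR, hS, hqp, hdev⟩ :=
      GrothLib.RG6.Dev.exists_completeDevissage_etale N p q hann
    haveI : Algebra.Etale A R := hR.1
    obtain ⟨hpo, -⟩ := hR.2
    obtain ⟨hqo, -⟩ := hS.2
    haveI : Algebra.QuasiFiniteAt A pR := inferInstance
    obtain ⟨f, hf, hfo⟩ := Ideal.exists_not_mem_forall_mem_of_ne_of_liesOver p pR
    obtain ⟨D, -⟩ := hdev (S ⊗[B] N) (TensorProduct.mk B S N 1) (TensorProduct.isBaseChange B N S)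
    refine ⟨{ R := R, S := S, pR := pR, nhd := hR, etale := hS.1, f := f,
              uniq := fun P hP hPp hfP => by_contra fun hne => hfP (hfo P hP hne hPp), dev := ⟨D⟩ }, ?_⟩
    exact ⟨⟨qS, inferInstance⟩, fun h => hf (by rw [hqp.over]; exact h), PrimeSpectrum.ext hqo.over.symm⟩
  · obtain ⟨s, hs, hsq⟩ := SetLike.not_le_iff_exists.1 hann
    let S := Localization.Away s
    haveI : Subsingleton (S ⊗[B] N) := ⟨fun a b => by
      have h0 : ∀ z : S ⊗[B] N, z = 0 := fun z => by
        induction z using TensorProduct.induction_on with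
        | zero => rfl
        | add a b ha hb => rw [ha, hb, add_zero]
        | tmul a n =>
          obtain ⟨u, hu⟩ := IsLocalization.Away.algebraMap_isUnit (S := S) s
          rw [show a = s • (↑u⁻¹ * a) by rw [Algebra.smul_def, ← hu, Units.mul_inv_cancel_left],
            TensorProduct.smul_tmul, Module.mem_annihilator.1 hs n, TensorProduct.tmul_zero]
      rw [h0 a, h0 b]⟩
    refine ⟨{ R := A, S := S, aAR := Algebra.id A, pR := p, nhd := GrothLib.RG6.Dev.isEtaleNhd_refl A p,
              etale := Algebra.Etale.of_isLocalizationAway s, f := 1,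
              uniq := fun P _ hP _ => by rw [hP.over]; exact (Ideal.comap_id P).symm,
              dev := nonempty_devissage_of_subsingleton (S ⊗[B] N) p }, ?_⟩
    obtain ⟨z, hz⟩ : (⟨q, inferInstance⟩ : PrimeSpectrum B) ∈ Set.range (PrimeSpectrum.comap (algebraMap B S)) := by
      rw [PrimeSpectrum.localization_away_comap_range S s]
      exact hsq
    refine ⟨z, ?_, hz⟩
    show algebraMap A S (1 : A) ∉ z.asIdeal
    rw [map_one]
    exact fun h => z.2.ne_top ((Ideal.eq_top_iff_one _).2 h)

/-- A common refinement of the bases of finitely many pieces, with the base points corresponding. -/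
theorem exists_common_nhd (p : Ideal A) [p.IsPrime] (l : List (DevPiece A B N p)) :
    ∃ (R' : Type u) (_ : CommRing R') (_ : Algebra A R') (p' : Ideal R') (_ : p'.IsPrime), FlatCA.IsEtaleNhd A R' p p' ∧
      ∀ T ∈ l, ∃ φ : T.R →ₐ[A] R', p'.comap φ.toRingHom = T.pR := by
  induction l with
  | nil => exact ⟨A, inferInstance, Algebra.id A, p, inferInstance, GrothLib.RG6.Dev.isEtaleNhd_refl A p,
      fun T h => absurd h List.not_mem_nil⟩
  | cons T l ih =>
    obtain ⟨R₁, _, _, p₁, _, h₁, hl⟩ := ih
    haveI : Algebra.Etale A R₁ := h₁.1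
    haveI : Algebra.Etale A T.R := T.nhd.1
    obtain ⟨ho₁, hb₁⟩ := h₁.2
    obtain ⟨hoT, -⟩ := T.nhd.2
    haveI := hoT
    obtain ⟨Q, _, hQ₁, hQT, ⟨hQo, hQb⟩, -⟩ := GrothLib.RG6.Dev.exists_baseChange_point (B := T.R) p p₁ ho₁ hb₁ T.pR
    refine ⟨R₁ ⊗[A] T.R, inferInstance, inferInstance, Q, inferInstance, ?_, fun T' hT' => ?_⟩
    · haveI : Algebra.Etale A (R₁ ⊗[A] T.R) := Algebra.Etale.comp A R₁ (R₁ ⊗[A] T.R)
      haveI : Algebra.Etale T.R (R₁ ⊗[A] T.R) := Algebra.Etale.of_restrictScalars A T.R (R₁ ⊗[A] T.R)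
      exact GrothLib.RG6.Dev.isEtaleNhd_trans T.nhd ⟨inferInstance, hQo, hQb⟩
    · rcases List.mem_cons.1 hT' with rfl | h
      · exact ⟨Algebra.TensorProduct.includeRight, hQT⟩
      · obtain ⟨φ, hφ⟩ := hl T' h
        refine ⟨(Algebra.TensorProduct.includeLeft : R₁ →ₐ[A] R₁ ⊗[A] T.R).comp φ, ?_⟩
        refine Eq.trans ?_ hφ
        rw [hQ₁.over]
        rfl

/-- The residue extension between two neighbourhoods of the same point is trivial. -/
theorem bijective_residue_over {A R R' : Type u} [CommRing A] [CommRing R] [CommRing R'] [Algebra A R] [Algebra A R']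
    [Algebra R R'] [IsScalarTower A R R'] {p : Ideal A} [p.IsPrime] {pR : Ideal R} [pR.IsPrime] {p' : Ideal R'} [p'.IsPrime]
    (h : FlatCA.IsEtaleNhd A R p pR) (h' : FlatCA.IsEtaleNhd A R' p p') (hover : p'.LiesOver pR) :
    Function.Bijective (Ideal.ResidueField.mapₐ pR p' (Algebra.ofId R R') hover.over) := by
  obtain ⟨ho, hb⟩ := h.2
  obtain ⟨ho', hb'⟩ := h'.2
  let m₁ := Ideal.ResidueField.mapₐ p pR (Algebra.ofId A R) ho.over
  let m₂ := Ideal.ResidueField.mapₐ pR p' (Algebra.ofId R R') hover.over
  let m := Ideal.ResidueField.mapₐ p p' (Algebra.ofId A R') ho'.over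
  have h : m.toRingHom = m₂.toRingHom.comp m₁.toRingHom := by
    refine Ideal.ResidueField.ringHom_ext (RingHom.ext fun a => ?_)
    show m (algebraMap A p.ResidueField a) = m₂ (m₁ (algebraMap A p.ResidueField a))
    rw [AlgHom.commutes, AlgHom.commutes, IsScalarTower.algebraMap_apply A R pR.ResidueField, AlgHom.commutes,
      ← IsScalarTower.algebraMap_apply A R p'.ResidueField]
  have h'' : (m : p.ResidueField → p'.ResidueField) = m₂ ∘ m₁ := funext fun w => RingHom.congr_fun h w
  refine (Function.Bijective.of_comp_iff _ hb).1 ?_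
  rw [← h'']
  exact hb'

set_option maxHeartbeats 1600000 in
/-- Complete dévissages covering a fibre after one étale localization of the base. -/
theorem exists_devissage_cover [Algebra.FiniteType A B] [Module A N] [IsScalarTower A B N] [Module.Finite B N]
    (p : Ideal A) [p.IsPrime] :
    ∃ (A' : Type u) (_ : CommRing A') (_ : Algebra A A') (p' : Ideal A') (_ : p'.IsPrime), FlatCA.IsEtaleNhd A A' p p' ∧
      ∀ (BA NA : Type u) [CommRing BA] [Algebra B BA] [Algebra A' BA] [Algebra A BA] [IsScalarTower A B BA] [IsScalarTower A A' BA]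
        [Algebra.IsPushout A B A' BA]
        [AddCommGroup NA] [Module BA NA] [Module B NA] [IsScalarTower B BA NA]
        (fA : N →ₗ[B] NA), IsBaseChange BA fA →
        ∃ (k : ℕ) (C : Fin k → Type u) (_ : ∀ i, CommRing (C i)) (_ : ∀ i, Algebra BA (C i)) (_ : ∀ i, Algebra A' (C i))
          (_ : ∀ i, IsScalarTower A' BA (C i))
          (Nc : Fin k → Type u) (_ : ∀ i, AddCommGroup (Nc i)) (_ : ∀ i, Module (C i) (Nc i)) (_ : ∀ i, Module BA (Nc i))
          (_ : ∀ i, IsScalarTower BA (C i) (Nc i)) (g : ∀ i, NA →ₗ[BA] Nc i),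
          (∀ i, Algebra.Etale BA (C i) ∧ IsBaseChange (C i) (g i) ∧ Nonempty (FlatCA.CompleteDevissage A' (C i) (Nc i) p')) ∧
          ∀ (Q : Ideal BA) [Q.IsPrime], Q.LiesOver p' → ∃ (i : Fin k) (Q' : Ideal (C i)), Q'.IsPrime ∧ Q'.comap (algebraMap BA (C i)) = Q := by
  classical
  let Z := PrimeSpectrum.comap (algebraMap A B) ⁻¹' {(⟨p, inferInstance⟩ : PrimeSpectrum A)}
  have hZc : IsCompact Z := by
    let e := PrimeSpectrum.preimageHomeomorphFiber A B ⟨p, inferInstance⟩
    haveI : CompactSpace Z := e.symm.compactSpace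
    exact isCompact_iff_compactSpace.2 inferInstance
  have hcov : Z ⊆ ⋃ T : DevPiece A B N p, T.cover := fun z hz => by
    haveI : z.asIdeal.LiesOver p := ⟨(congrArg PrimeSpectrum.asIdeal (Set.mem_singleton_iff.1 hz)).symm⟩
    obtain ⟨T, hT⟩ := exists_devPiece (N := N) p z.asIdeal
    exact Set.mem_iUnion.2 ⟨T, hT⟩
  obtain ⟨t, ht⟩ := hZc.elim_finite_subcover _ (fun T => by
    haveI := T.etale
    exact PrimeSpectrum.isOpenMap_comap_of_hasGoingDown_of_finitePresentation (R := B) (S := T.S) _
      (PrimeSpectrum.basicOpen (algebraMap T.R T.S T.f)).2) hcov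
  obtain ⟨A', _, _, p', _, hp', hhom⟩ := exists_common_nhd p t.toList
  haveI : Algebra.Etale A A' := hp'.1
  refine ⟨A', inferInstance, inferInstance, p', inferInstance, hp', ?_⟩
  intro BA NA _ _ _ _ _ _ hpush _ _ _ _ fA hfA
  let Tp : Fin t.card → DevPiece A B N p := fun i => (t.equivFin.symm i).1
  choose ψ hψ using fun i => hhom (Tp i) (Finset.mem_toList.2 (t.equivFin.symm i).2)
  letI : ∀ i, Algebra (Tp i).R A' := fun i => (ψ i).toRingHom.toAlgebra
  haveI : ∀ i, IsScalarTower A (Tp i).R A' := fun i => IsScalarTower.of_algebraMap_eq fun r => ((ψ i).commutes r).symm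
  haveI hover : ∀ i, p'.LiesOver (Tp i).pR := fun i => ⟨(hψ i).symm⟩
  let C : Fin t.card → Type u := fun i => A' ⊗[(Tp i).R] (Tp i).S
  haveI hB : ∀ i, IsScalarTower A (Tp i).S (C i) := fun i => IsScalarTower.of_algebraMap_eq fun r => by
    show algebraMap A A' r ⊗ₜ[(Tp i).R] (1 : (Tp i).S) = (1 : A') ⊗ₜ[(Tp i).R] algebraMap A (Tp i).S r
    rw [IsScalarTower.algebraMap_apply A (Tp i).R (Tp i).S, Algebra.algebraMap_eq_smul_one (A := (Tp i).S),
      ← TensorProduct.smul_tmul, Algebra.smul_def, mul_one, ← IsScalarTower.algebraMap_apply A (Tp i).R A']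
  letI aBC : ∀ i, Algebra B (C i) := fun i =>
    ((algebraMap (Tp i).S (A' ⊗[(Tp i).R] (Tp i).S)).comp (algebraMap B (Tp i).S)).toAlgebra
  haveI : ∀ i, IsScalarTower B (Tp i).S (C i) := fun i => IsScalarTower.of_algebraMap_eq fun _ => rfl
  haveI : ∀ i, IsScalarTower A B (C i) := fun i => IsScalarTower.of_algebraMap_eq fun r => by
    rw [IsScalarTower.algebraMap_apply A (Tp i).S (C i), IsScalarTower.algebraMap_apply A B (Tp i).S,
      ← IsScalarTower.algebraMap_apply B (Tp i).S (C i)]
  haveI hA' : ∀ i, IsScalarTower A A' (C i) := fun i => inferInstance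
  haveI hpush' : Algebra.IsPushout A A' B BA := Algebra.IsPushout.symm hpush
  let e := Algebra.IsPushout.equiv A A' B BA
  let φ : ∀ i, BA →ₐ[A'] C i := fun i => (Algebra.TensorProduct.lift (Algebra.ofId A' (C i)) (IsScalarTower.toAlgHom A B (C i))
    fun _ _ => Commute.all _ _).comp e.symm.toAlgHom
  letI : ∀ i, Algebra BA (C i) := fun i => (φ i).toRingHom.toAlgebra
  haveI : ∀ i, IsScalarTower A' BA (C i) := fun i => IsScalarTower.of_algebraMap_eq fun r => ((φ i).commutes r).symm
  haveI : ∀ i, IsScalarTower B BA (C i) := fun i => IsScalarTower.of_algebraMap_eq fun b => by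
    show algebraMap B (C i) b = φ i (algebraMap B BA b)
    simp [φ, e, Algebra.IsPushout.equiv_symm_algebraMap_right]
  haveI : Algebra.Etale B BA := by
    haveI : Algebra.Etale B (A' ⊗[A] B) := Algebra.Etale.of_equiv
      (show B ⊗[A] A' ≃ₐ[B] A' ⊗[A] B from AlgEquiv.ofRingEquiv (f := (Algebra.TensorProduct.comm A B A').toRingEquiv) fun _ => rfl)
    exact Algebra.Etale.of_equiv (AlgEquiv.ofRingEquiv (R := B) (f := e.toRingEquiv) fun b => by
      show e ((1 : A') ⊗ₜ b) = _
      simp [e, Algebra.IsPushout.equiv_tmul])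
  have hEt : ∀ i, Algebra.Etale BA (C i) := fun i => by
    haveI := (Tp i).etale
    haveI : Algebra.Etale A (Tp i).R := (Tp i).nhd.1
    haveI : Algebra.Etale (Tp i).R A' := Algebra.Etale.of_restrictScalars A (Tp i).R A'
    haveI : Algebra.Etale (Tp i).S (C i) := Algebra.Etale.of_equiv
      (show (Tp i).S ⊗[(Tp i).R] A' ≃ₐ[(Tp i).S] C i from
        AlgEquiv.ofRingEquiv (f := (Algebra.TensorProduct.comm (Tp i).R (Tp i).S A').toRingEquiv) fun _ => rfl)
    haveI : Algebra.Etale B (C i) := Algebra.Etale.comp B (Tp i).S (C i)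
    exact Algebra.Etale.of_restrictScalars B BA (C i)
  let Nc : Fin t.card → Type u := fun i => C i ⊗[BA] NA
  refine ⟨t.card, C, inferInstance, inferInstance, inferInstance, inferInstance, Nc, fun i => inferInstance,
    fun i => inferInstance, fun i => inferInstance, fun i => inferInstance, fun i => TensorProduct.mk BA (C i) NA 1,
    fun i => ⟨hEt i, TensorProduct.isBaseChange BA NA (C i), ?_⟩, fun Q _ hQ => ?_⟩
  · obtain ⟨D⟩ := (Tp i).dev
    haveI : Algebra.IsPushout (Tp i).R A' (Tp i).S (C i) := inferInstance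
    haveI : Algebra.FiniteType (Tp i).R (Tp i).S := by
      haveI := (Tp i).etale
      haveI : Algebra.FiniteType A (Tp i).S := Algebra.FiniteType.trans (S := B) inferInstance inferInstance
      exact Algebra.FiniteType.of_restrictScalars_finiteType A (Tp i).R (Tp i).S
    let gB : N →ₗ[B] Nc i := ((TensorProduct.mk BA (C i) NA 1).restrictScalars B) ∘ₗ fA
    have hgB : IsBaseChange (C i) gB := hfA.comp (TensorProduct.isBaseChange BA NA (C i))
    let e1 : (C i) ⊗[(Tp i).S] ((Tp i).S ⊗[B] N) ≃ₗ[C i] Nc i :=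
      AlgebraTensorModule.cancelBaseChange B (Tp i).S (C i) (C i) N ≪≫ₗ hgB.equiv
    let f1 : (Tp i).S ⊗[B] N →ₗ[(Tp i).S] Nc i :=
      (e1.toLinearMap.restrictScalars (Tp i).S) ∘ₗ TensorProduct.mk (Tp i).S (C i) ((Tp i).S ⊗[B] N) 1
    have hf1 : IsBaseChange (C i) f1 := IsBaseChange.of_equiv e1 fun m => rfl
    obtain ⟨D', -⟩ := Groth.Agent.S12243.result (Tp i).R (Tp i).S ((Tp i).S ⊗[B] N) (Tp i).pR D A' p' (C i) (Nc i) f1 hf1
    exact ⟨D'⟩
  · obtain ⟨ho', hb'⟩ := hp'.2
    let q := Q.comap (algebraMap B BA)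
    have hqp : q.comap (algebraMap A B) = p := by
      rw [Ideal.comap_comap, ← IsScalarTower.algebraMap_eq A B BA, IsScalarTower.algebraMap_eq A A' BA,
        ← Ideal.comap_comap, show Q.comap (algebraMap A' BA) = p' from hQ.over.symm]
      exact ho'.over.symm
    have hqZ : (⟨q, inferInstance⟩ : PrimeSpectrum B) ∈ Z := Set.mem_singleton_iff.2 (PrimeSpectrum.ext hqp)
    obtain ⟨T, hT, z, hfz, hz⟩ := Set.mem_iUnion₂.1 (ht hqZ)
    obtain ⟨i, rfl⟩ : ∃ i, Tp i = T := ⟨t.equivFin ⟨T, hT⟩, by simp [Tp]⟩
    haveI : z.asIdeal.LiesOver (Tp i).pR := ⟨((Tp i).uniq (z.asIdeal.comap (algebraMap (Tp i).R (Tp i).S)) inferInstance ⟨by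
      show p = (z.asIdeal.comap (algebraMap (Tp i).R (Tp i).S)).comap (algebraMap A (Tp i).R)
      rw [Ideal.comap_comap, ← IsScalarTower.algebraMap_eq A (Tp i).R (Tp i).S, IsScalarTower.algebraMap_eq A B (Tp i).S,
        ← Ideal.comap_comap]
      exact hqp.symm.trans (congrArg (Ideal.comap (algebraMap A B)) (congrArg PrimeSpectrum.asIdeal hz).symm)⟩ hfz).symm⟩
    obtain ⟨Q', hQ', hQ'p, hQ'z, -, -⟩ := GrothLib.RG6.Dev.exists_baseChange_point (B := (Tp i).S) (Tp i).pR p' (hover i)
      (bijective_residue_over (Tp i).nhd hp' (hover i)) z.asIdeal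
    refine ⟨i, Q', hQ', ?_⟩
    have h1 : (Q'.comap (algebraMap BA (C i))).comap (algebraMap A' BA) = p' := by
      rw [Ideal.comap_comap, ← IsScalarTower.algebraMap_eq A' BA (C i)]
      exact hQ'p.over.symm
    have h2 : (Q'.comap (algebraMap BA (C i))).comap (algebraMap B BA) = q := by
      rw [Ideal.comap_comap, ← IsScalarTower.algebraMap_eq B BA (C i), IsScalarTower.algebraMap_eq B (Tp i).S (C i),
        ← Ideal.comap_comap]
      exact (congrArg (Ideal.comap (algebraMap B (Tp i).S)) hQ'z).trans (congrArg PrimeSpectrum.asIdeal hz)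
    haveI : q.LiesOver p := ⟨hqp.symm⟩
    obtain ⟨Q₀, -, -, -, -, huniq⟩ := GrothLib.RG6.Dev.exists_baseChange_point (B := B) p p' ho' hb' q
    have key : ∀ P : Ideal BA, P.IsPrime → P.comap (algebraMap A' BA) = p' → P.comap (algebraMap B BA) = q →
        P.comap e.toRingEquiv.toRingHom = Q₀ := by
      intro P hP ha hb
      refine huniq _ inferInstance ⟨?_⟩ ?_
      · show p' = (P.comap e.toRingEquiv.toRingHom).comap (algebraMap A' (A' ⊗[A] B))
        rw [Ideal.comap_comap, show e.toRingEquiv.toRingHom.comp (algebraMap A' (A' ⊗[A] B)) = algebraMap A' BA from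
          RingHom.ext fun r => e.commutes r]
        exact ha.symm
      · rw [Ideal.comap_comap, show e.toRingEquiv.toRingHom.comp
          (Algebra.TensorProduct.includeRight (R := A) (A := A') (B := B)).toRingHom = algebraMap B BA from
          RingHom.ext fun b => by
            show e ((1 : A') ⊗ₜ b) = _
            simp [e, Algebra.IsPushout.equiv_tmul]]
        exact hb
    exact Ideal.comap_injective_of_surjective e.toRingEquiv.toRingHom e.surjective
      ((key _ inferInstance h1 h2).trans (key Q inferInstance hQ.over.symm rfl).symm)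

end GrothLib.RGProj13
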