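import Mathlib

/-!
# Modules filtered by chains of cokernels
-/

set_option autoImplicit false
set_option linter.style.haveILetI false

universe u

open TensorProduct

namespace GrothLib.RGProj13

theorem chain_split {R : Type u} [CommRing R] (m : ℕ) : ∀ (M F : ℕ → Type u) [∀ k, AddCommGroup (M k)]
    [∀ k, Module R (M k)] [∀ k, AddCommGroup (F k)] [∀ k, Module R (F k)] (a : ∀ k, F k →ₗ[R] M k)
    (_hinj : ∀ k ≤ m, Function.Injective (a k))
    (_hnext : ∀ k < m, ∃ π : M k →ₗ[R] M (k + 1), Function.Surjective π ∧ Function.Exact (a k) π)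
    (_hlast : Function.Surjective (a m)) (_hproj : ∀ k ≤ m, Module.Projective R (F k)),
    Module.Projective R (M 0) ∧ Nonempty (M 0 ≃ₗ[R] ∀ k : Fin (m + 1), F k) := by
  induction m with
  | zero =>
    intro M F _ _ _ _ a hinj hnext hlast hproj
    let e := LinearEquiv.ofBijective (a 0) ⟨hinj 0 le_rfl, hlast⟩
    haveI := hproj 0 le_rfl
    refine ⟨Module.Projective.of_equiv e, ⟨e.symm ≪≫ₗ ?_⟩⟩
    exact
      { toFun := fun x i => Fin.fin_one_eq_zero i ▸ x
        map_add' := fun x y => funext fun i => by rw [Fin.fin_one_eq_zero i]; rfl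
        map_smul' := fun c x => funext fun i => by rw [Fin.fin_one_eq_zero i]; rfl
        invFun := fun f => f 0
        left_inv := fun x => rfl
        right_inv := fun f => funext fun i => by rw [Fin.fin_one_eq_zero i] }
  | succ m ih =>
    intro M F _ _ _ _ a hinj hnext hlast hproj
    obtain ⟨hP, ⟨e⟩⟩ := ih (fun k => M (k + 1)) (fun k => F (k + 1)) (fun k => a (k + 1))
      (fun k hk => hinj (k + 1) (Nat.succ_le_succ hk)) (fun k hk => hnext (k + 1) (Nat.succ_lt_succ hk)) hlast
      (fun k hk => hproj (k + 1) (Nat.succ_le_succ hk))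
    obtain ⟨π, hπ, hex⟩ := hnext 0 (Nat.succ_pos m)
    haveI := hP
    obtain ⟨l, hl⟩ := Module.projective_lifting_property π LinearMap.id hπ
    obtain ⟨e0, -⟩ := hex.splitSurjectiveEquiv (hinj 0 (Nat.zero_le _)) ⟨l, hl⟩
    haveI := hproj 0 (Nat.zero_le _)
    refine ⟨Module.Projective.of_equiv e0.symm, ⟨e0 ≪≫ₗ ?_⟩⟩
    exact LinearEquiv.prodCongr (LinearEquiv.refl R (F 0)) e ≪≫ₗ
      Fin.consLinearEquiv R (fun k : Fin (m + 1 + 1) => F k)

theorem chain_split' {R : Type u} [CommRing R] (n : ℕ) (hn : 0 < n) (M F : ℕ → Type u) [∀ k, AddCommGroup (M k)]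
    [∀ k, Module R (M k)] [∀ k, AddCommGroup (F k)] [∀ k, Module R (F k)] (a : ∀ k, F k →ₗ[R] M k)
    (hinj : ∀ k < n, Function.Injective (a k))
    (hnext : ∀ k, k + 1 < n → ∃ π : M k →ₗ[R] M (k + 1), Function.Surjective π ∧ Function.Exact (a k) π)
    (hlast : Function.Surjective (a (n - 1))) (hproj : ∀ k < n, Module.Projective R (F k)) :
    Module.Projective R (M 0) ∧ Nonempty (M 0 ≃ₗ[R] ∀ k : Fin n, F k) := by
  obtain ⟨m, rfl⟩ : ∃ m, n = m + 1 := ⟨n - 1, by omega⟩
  exact chain_split m M F a (fun k hk => hinj k (by omega)) (fun k hk => hnext k (by omega)) hlast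
    fun k hk => hproj k (by omega)

theorem finitePresentation_up {B A M : Type u} [CommRing B] [CommRing A] [AddCommGroup M] [Algebra B A]
    [Module.Finite B A] [Module A M] [Module B M] [IsScalarTower B A M] [Module.Finite A M]
    [Module.FinitePresentation B M] : Module.FinitePresentation A M := by
  obtain ⟨n, f, hf⟩ := Module.Finite.exists_fin' A M
  refine Module.finitePresentation_of_free_of_surjective f hf ?_
  have h := Module.FinitePresentation.fg_ker (f.restrictScalars B) hf
  obtain ⟨s, hs⟩ := h
  refine ⟨s, le_antisymm (Submodule.span_le.2 fun x hx => ?_) fun x hx => ?_⟩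
  · exact hs.le (Submodule.subset_span hx)
  · exact Submodule.span_le_restrictScalars B A _ (hs.ge hx)

theorem finitePresentation_down {S A M : Type u} [CommRing S] [CommRing A] [AddCommGroup M] [Algebra S A]
    [Module A M] [Module S M] [IsScalarTower S A M] [Algebra.FinitePresentation S A] [Module.Finite S A]
    [Module.FinitePresentation A M] : Module.FinitePresentation S M := by
  haveI : Module.FinitePresentation S A := Module.FinitePresentation.of_finite_of_finitePresentation S A
  exact Module.FinitePresentation.trans S M A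

end GrothLib.RGProj13
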