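import Groth.Agent.Lib.RGProj13.LocalEtale

/-!
A module flat at a point is free over the local ring of an étale neighbourhood of the base, after étale localization.
-/

set_option autoImplicit false
set_option linter.style.haveILetI false
set_option linter.unusedSectionVars false
universe u

open TensorProduct

namespace GrothLib.RGProj13

attribute [local instance] Algebra.TensorProduct.rightAlgebra

/-- A restricted free module. -/
theorem free_restrictScalars {A C M : Type u} [CommRing A] [CommRing C] [Algebra A C] [AddCommGroup M] [Module C M]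
    [Module A M] [IsScalarTower A C M] [Module.Free A M] : Module.Free A (RestrictScalars A C M) :=
  Module.Free.of_equiv
    ({ (RestrictScalars.addEquiv A C M).symm with
       map_smul' := fun a z => by
        show a • z = algebraMap A C a • z
        rw [algebraMap_smul] } : M ≃ₗ[A] RestrictScalars A C M)

/-- Any model of the base change of a module gives the same tensor product. -/
noncomputable def modelEquiv {S SA C N NA : Type u} [CommRing S] [CommRing SA] [CommRing C] [Algebra S SA]
    [Algebra SA C] [Algebra S C] [IsScalarTower S SA C] [AddCommGroup N] [Module S N] [AddCommGroup NA] [Module SA NA]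
    [Module S NA] [IsScalarTower S SA NA] {f : N →ₗ[S] NA} (hf : IsBaseChange SA f) :
    C ⊗[SA] NA ≃ₗ[C] C ⊗[S] N :=
  AlgebraTensorModule.congr (LinearEquiv.refl C C) hf.equiv.symm ≪≫ₗ
    AlgebraTensorModule.cancelBaseChange S SA C C N

/-- Transfer of a free, finitely presented base change to another model. -/
theorem free_model {A S S' SA C N NA : Type u} [CommRing A] [CommRing S] [CommRing S'] [CommRing SA] [CommRing C]
    [Algebra A C] [Algebra S SA] [Algebra SA C] [Algebra S C] [IsScalarTower S SA C] [Algebra S S'] [Algebra S' C]
    [IsScalarTower S S' C] [AddCommGroup N] [Module S N] [AddCommGroup NA] [Module SA NA]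
    [Module S NA] [IsScalarTower S SA NA] {f : N →ₗ[S] NA} (hf : IsBaseChange SA f)
    (hfp : Module.FinitePresentation C (C ⊗[S'] (S' ⊗[S] N))) (hfree : Module.Free A (C ⊗[S'] (S' ⊗[S] N))) :
    Module.FinitePresentation C (C ⊗[SA] NA) ∧ Module.Free A (RestrictScalars A C (C ⊗[SA] NA)) := by
  let e : C ⊗[SA] NA ≃ₗ[C] C ⊗[S'] (S' ⊗[S] N) :=
    modelEquiv hf ≪≫ₗ (AlgebraTensorModule.cancelBaseChange S S' C C N).symm
  haveI : Module.Free A (C ⊗[SA] NA) := Module.Free.of_equiv (e.symm.restrictScalars A)
  exact ⟨Module.FinitePresentation.of_equiv e.symm, free_restrictScalars⟩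

/-- A point of the localization over a given point with the same residue field. -/
theorem exists_point_localization {S S' C : Type u} [CommRing S] [CommRing S'] [CommRing C] [Algebra S S'] [Algebra S' C]
    [Algebra S C] [IsScalarTower S S' C] (M : Submonoid S') [IsLocalization M C] (q : Ideal S) [q.IsPrime] (q' : Ideal S')
    [q'.IsPrime] (hd : Disjoint (M : Set S') q') (ho : q'.LiesOver q)
    (hb : Function.Bijective (Ideal.ResidueField.mapₐ q q' (Algebra.ofId S S') ho.over)) :
    ∃ (x' : Ideal C) (_ : x'.IsPrime) (hx : x'.LiesOver q), x'.comap (algebraMap S' C) = q' ∧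
      Function.Bijective (Ideal.ResidueField.mapₐ q x' (Algebra.ofId S C) hx.over) := by
  let x' := q'.map (algebraMap S' C)
  haveI : x'.IsPrime := IsLocalization.isPrime_of_isPrime_disjoint M C q' inferInstance hd
  have hc : x'.comap (algebraMap S' C) = q' := IsLocalization.under_map_of_isPrime_disjoint M C ‹_› hd
  have hq : q = x'.comap (algebraMap S C) := by
    rw [IsScalarTower.algebraMap_eq S S' C, ← Ideal.comap_comap, hc]
    exact ho.over
  refine ⟨x', inferInstance, ⟨hq⟩, hc, ?_⟩
  have h2 := (RingHom.surjectiveOnStalks_of_isLocalization (M := M) C).residueFieldMap_bijective q' x' hc.symm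
  have h : Ideal.ResidueField.map q x' (algebraMap S C) hq =
      (Ideal.ResidueField.map q' x' (algebraMap S' C) hc.symm).comp
        (Ideal.ResidueField.map q q' (algebraMap S S') ho.over) := by
    refine Ideal.ResidueField.ringHom_ext (RingHom.ext fun a => ?_)
    simp only [RingHom.comp_apply, Ideal.ResidueField.map_algebraMap]
    rw [← IsScalarTower.algebraMap_apply S S' C]
  have hb' : Function.Bijective (Ideal.ResidueField.map q q' (algebraMap S S') ho.over) := hb
  show Function.Bijective (Ideal.ResidueField.map q x' (algebraMap S C) hq)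
  rw [h, RingHom.coe_comp]
  exact h2.comp hb'

set_option maxHeartbeats 1600000 in
/-- A module flat at a point is free and finitely presented over the local ring of an étale neighbourhood of
the base, after étale localization. -/
theorem exists_free_nhd {R S : Type u} [CommRing R] [CommRing S] [Algebra R S] [Algebra.FiniteType R S]
    (N : Type u) [AddCommGroup N] [Module S N] [Module R N] [IsScalarTower R S N] [Module.Finite S N]
    (p : Ideal R) [p.IsPrime] (q : Ideal S) [q.IsPrime] [q.LiesOver p] (hflat : FlatCA.FlatAt R q N) :
    ∃ (R' : Type u) (_ : CommRing R') (_ : Algebra R R') (p' : Ideal R') (_ : p'.IsPrime), FlatCA.IsEtaleNhd R R' p p' ∧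
      ∀ (SA NA : Type u) [CommRing SA] [Algebra R SA] [Algebra S SA] [Algebra (Localization.AtPrime p') SA]
        [IsScalarTower R S SA] [IsScalarTower R (Localization.AtPrime p') SA]
        [Algebra.IsPushout R S (Localization.AtPrime p') SA]
        [AddCommGroup NA] [Module SA NA] [Module S NA] [IsScalarTower S SA NA]
        (f : N →ₗ[S] NA), IsBaseChange SA f →
        ∃ (C : Type u) (_ : CommRing C) (_ : Algebra SA C) (_ : Algebra (Localization.AtPrime p') C)
          (_ : IsScalarTower (Localization.AtPrime p') SA C) (_ : Algebra S C) (_ : IsScalarTower S SA C)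
          (x' : Ideal C) (_ : x'.IsPrime) (hx : x'.LiesOver q),
          Algebra.Etale SA C ∧
          Function.Bijective (Ideal.ResidueField.mapₐ q x' (Algebra.ofId S C) hx.over) ∧
          x'.LiesOver (IsLocalRing.maximalIdeal (Localization.AtPrime p')) ∧
          Module.FinitePresentation C (C ⊗[SA] NA) ∧
          Module.Free (Localization.AtPrime p') (RestrictScalars (Localization.AtPrime p') C (C ⊗[SA] NA)) := by
  obtain ⟨R', S', _, _, _, _, _, _, _, _, p', q', _, _, hR, hS, hqp, hfree, hfp⟩ := exists_free_after_etale N p q hflat
  refine ⟨R', inferInstance, inferInstance, p', inferInstance, hR, ?_⟩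
  intro SA NA _ _ _ _ _ _ _ _ _ _ _ f hf
  haveI : Algebra.Etale R R' := hR.1
  haveI : Algebra.Etale S S' := hS.1
  obtain ⟨hqo, hqb⟩ := hS.2
  let A := Localization.AtPrime p'
  obtain ⟨a2, t2, hS2, het⟩ := exists_etale_algebra_baseChange (R := R) (S := S) (R' := R') (S' := S') (A := A) SA
  let C := A ⊗[R'] S'
  letI := a2
  haveI := t2
  letI aSC : Algebra S C := ((algebraMap S' C).comp (algebraMap S S')).toAlgebra
  haveI : IsScalarTower S S' C := IsScalarTower.of_algebraMap_eq fun _ => rfl
  haveI : IsScalarTower S SA C := IsScalarTower.of_algebraMap_eq fun s => (hS2 s).symm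
  have hd : Disjoint (Algebra.algebraMapSubmonoid S' p'.primeCompl : Set S') q' := Set.disjoint_left.2 fun x hx hxq => by
    obtain ⟨a, ha, rfl⟩ := hx
    exact ha (hqp.over.symm.le hxq)
  obtain ⟨x', _, hx, hxc, hxb⟩ := exists_point_localization (C := C) (Algebra.algebraMapSubmonoid S' p'.primeCompl) q q' hd hqo hqb
  have hxm : x'.LiesOver (IsLocalRing.maximalIdeal A) := ⟨by
    show IsLocalRing.maximalIdeal A = x'.comap (algebraMap A C)
    refine (IsLocalRing.maximalIdeal.isMaximal A).eq_of_le Ideal.IsPrime.ne_top' (fun a ha => ?_)
    rw [← Localization.AtPrime.map_eq_maximalIdeal] at ha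
    refine Ideal.map_le_iff_le_comap.2 (fun r hr => ?_) ha
    show algebraMap A C (algebraMap R' A r) ∈ x'
    rw [← IsScalarTower.algebraMap_apply R' A C, IsScalarTower.algebraMap_apply R' S' C]
    exact hxc.symm.le (hqp.over.le hr)⟩
  obtain ⟨h1, h2⟩ := free_model (A := A) (S' := S') (C := C) hf hfp hfree
  exact ⟨C, inferInstance, a2, inferInstance, t2, aSC, inferInstance, x', inferInstance, hx, het, hxb, hxm, h1, h2⟩

/-- The rings in the neighbourhood are finitely presented over the local ring of the base. -/
theorem finitePresentation_baseChange_model {R S A SA C : Type u} [CommRing R] [CommRing S] [CommRing A] [CommRing SA]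
    [CommRing C] [Algebra R S] [Algebra R A] [Algebra R SA] [Algebra S SA] [Algebra A SA] [IsScalarTower R S SA]
    [IsScalarTower R A SA] [Algebra.IsPushout R S A SA] [Algebra SA C] [Algebra A C] [IsScalarTower A SA C]
    [Algebra.FinitePresentation R S] [Algebra.Etale SA C] : Algebra.FinitePresentation A C := by
  haveI : Algebra.IsPushout R A S SA := Algebra.IsPushout.symm inferInstance
  haveI : Algebra.FinitePresentation A SA := Algebra.FinitePresentation.equiv (Algebra.IsPushout.equiv R A S SA)
  exact Algebra.FinitePresentation.trans A SA C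

end GrothLib.RGProj13
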