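import Groth.Agent.Lib.RGProj13.OpenShrink
import Groth.Agent.Lib.RGProj13.FreeNhd
import Groth.Agent.Lib.RGProj13.FreeDescent
import Groth.Agent.Lib.RG6.Impure.Basic

/-!
A module flat at a point is free on an open neighbourhood after étale localization of the base, and a
finite type algebra flat at a point is flat and finitely presented near it after étale localization.
-/

set_option autoImplicit false
set_option linter.style.haveILetI false
set_option linter.unusedSectionVars false
universe u

open TensorProduct
open AlgebraicGeometry CategoryTheory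

namespace GrothLib.RGProj13

attribute [local instance] Algebra.TensorProduct.rightAlgebra

/-- An endomorphism of a projective module over a local ring, injective on the closed fibre, is universally
injective. -/
theorem univInj_of_closed_fibre {A M : Type u} [CommRing A] [IsLocalRing A] [AddCommGroup M] [Module A M]
    [Module.Projective A M] (u : M →ₗ[A] M)
    (hinj : Function.Injective (u.lTensor (IsLocalRing.maximalIdeal A).ResidueField)) : FlatCA.UnivInj A u := by
  intro Q _ _
  let m := IsLocalRing.maximalIdeal A
  let e : (A ⧸ m) ≃ₗ[A] m.ResidueField :=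
    LinearEquiv.ofBijective (IsScalarTower.toAlgHom A (A ⧸ m) m.ResidueField).toLinearMap
      m.bijective_algebraMap_quotient_residueField
  have h1 : Function.Injective (u.lTensor (IsLocalRing.ResidueField A)) := by
    intro a b hab
    have hc : ∀ z : (A ⧸ m) ⊗[A] M, e.toLinearMap.rTensor M (u.lTensor (A ⧸ m) z) =
        u.lTensor m.ResidueField (e.toLinearMap.rTensor M z) := fun z => by
      rw [← LinearMap.comp_apply, LinearMap.rTensor_comp_lTensor, ← LinearMap.lTensor_comp_rTensor,
        LinearMap.comp_apply]
    exact (e.rTensor M).injective (hinj ((hc a).symm.trans ((congrArg _ hab).trans (hc b))))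
  obtain ⟨hu, hflat⟩ := injective_flat_coker_of_residue u h1
  haveI := hflat
  exact LinearMap.lTensor_injective_of_exact_of_flat (LinearMap.range u).mkQ (LinearMap.range u).mkQ_surjective u hu
    (LinearMap.exact_map_mkQ_range u) Q

set_option maxHeartbeats 800000 in
/-- Freeness descends from an étale piece to a principal open. -/
theorem exists_free_away {A SA C NA : Type u} [CommRing A] [IsLocalRing A] [CommRing SA] [CommRing C] [Algebra A SA]
    [Algebra.FiniteType A SA] [Algebra SA C] [Algebra A C] [IsScalarTower A SA C] [Algebra.Etale SA C]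
    [AddCommGroup NA] [Module SA NA] [Module.Finite SA NA]
    [Module.Projective A (C ⊗[SA] NA)] (x : Ideal C) [x.IsPrime] :
    ∃ h : SA, h ∉ x.comap (algebraMap SA C) ∧ Module.Free A (Localization.Away h ⊗[SA] NA) := by
  haveI : Algebra.FiniteType A C := Algebra.FiniteType.trans (S := SA) inferInstance inferInstance
  let M := C ⊗[SA] NA
  obtain ⟨h, hx, him, hinj⟩ := exists_regular_in_open (S₀ := SA) (A := A) (B := C) M (IsLocalRing.maximalIdeal A) x
  let g := algebraMap SA C h
  let C₀ := Localization.Away h
  let D := Localization.Away g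
  have hu : IsUnit (algebraMap SA D h) := by
    rw [IsScalarTower.algebraMap_apply SA C D]
    exact IsLocalization.Away.algebraMap_isUnit g
  letI : Algebra C₀ D := (IsLocalization.Away.lift h hu).toAlgebra
  haveI : IsScalarTower SA C₀ D := IsScalarTower.of_algebraMap_eq fun r => (IsLocalization.Away.lift_eq h hu r).symm
  haveI : IsScalarTower A C₀ D := IsScalarTower.of_algebraMap_eq fun r => by
    rw [IsScalarTower.algebraMap_apply A SA C₀, ← IsScalarTower.algebraMap_apply SA C₀ D,
      IsScalarTower.algebraMap_apply SA C D, ← IsScalarTower.algebraMap_apply A SA C,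
      ← IsScalarTower.algebraMap_apply A C D]
  haveI : Module.Projective A (D ⊗[C] M) := projective_localization g (univInj_of_closed_fibre _ hinj) D
  -- faithfully flat cover of the open
  haveI : Module.Flat C D := IsLocalization.flat D (Submonoid.powers g)
  haveI : Module.Flat SA D := Module.Flat.trans SA C D
  haveI : Module.Flat C₀ D := (Module.flat_iff_of_isLocalization C₀ (Submonoid.powers h) D).2 inferInstance
  haveI : Module.FaithfullyFlat C₀ D := Module.FaithfullyFlat.of_comap_surjective fun P => by
    have hP : h ∉ (PrimeSpectrum.comap (algebraMap SA C₀) P).asIdeal := fun hm =>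
      P.2.ne_top (P.asIdeal.eq_top_of_isUnit_mem hm (IsLocalization.Away.algebraMap_isUnit h))
    obtain ⟨y, hy⟩ := him (show PrimeSpectrum.comap (algebraMap SA C₀) P ∈ PrimeSpectrum.basicOpen h from hP)
    have hy' : g ∉ y.asIdeal := fun hm => hP (by rw [← congrArg PrimeSpectrum.asIdeal hy]; exact hm)
    obtain ⟨z, hz⟩ : y ∈ Set.range (PrimeSpectrum.comap (algebraMap C D)) := by
      rw [PrimeSpectrum.localization_away_comap_range D g]
      exact hy'
    refine ⟨z, PrimeSpectrum.localization_comap_injective C₀ (Submonoid.powers h) ?_⟩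
    rw [show (PrimeSpectrum.comap (algebraMap C₀ D) z).comap (algebraMap SA C₀) =
      PrimeSpectrum.comap ((algebraMap C₀ D).comp (algebraMap SA C₀)) z from rfl,
      ← IsScalarTower.algebraMap_eq SA C₀ D, IsScalarTower.algebraMap_eq SA C D]
    show PrimeSpectrum.comap (algebraMap SA C) (PrimeSpectrum.comap (algebraMap C D) z) = _
    rw [hz, hy]
  let X := C₀ ⊗[SA] NA
  haveI : Module.Projective A (D ⊗[C₀] X) := Module.Projective.of_equiv
    ((AlgebraTensorModule.cancelBaseChange SA C D D NA).restrictScalars A ≪≫ₗ
      (AlgebraTensorModule.cancelBaseChange SA C₀ D D NA).symm.restrictScalars A)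
  let ι : X →ₗ[A] D ⊗[C₀] X := (TensorProduct.mk C₀ D X 1).restrictScalars A
  have huniv : FlatCA.UnivInj A ι := fun Q _ _ => by
    refine (LinearMap.lTensor_inj_iff_rTensor_inj Q ι).2 ?_
    let e := AlgebraTensorModule.assoc A C₀ C₀ D X Q
    have he : ∀ y, e (ι.rTensor Q y) = TensorProduct.mk C₀ D (X ⊗[A] Q) 1 y := fun y => by
      induction y using TensorProduct.induction_on with
      | zero => simp
      | add a b ha hb => simp only [map_add, ha, hb]
      | tmul x q => simp [e, ι]
    intro a b hab
    exact Module.FaithfullyFlat.tensorProduct_mk_injective (A := C₀) (B := D) (X ⊗[A] Q)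
      (by rw [← he, ← he, hab])
  haveI : Module.Flat A X := flat_of_univInj ι huniv
  haveI : Algebra.FinitePresentation SA C₀ := IsLocalization.Away.finitePresentation h
  haveI : Algebra.FiniteType A C₀ := Algebra.FiniteType.trans (S := SA) inferInstance inferInstance
  haveI : Module.Projective A X := GrothLib.ML.projective_of_countable
    (ml_of_univInj ι huniv (GrothLib.ML.ml_of_projective _)) (countablyGenerated_of_finite (B := C₀))
  exact ⟨h, hx, GrothLib.ProjLocal.free_of_projective (R := A) (P := X)⟩

/-- A module flat at a point is free on an affine open neighbourhood after étale localization of the base. -/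
theorem exists_free_open {R S : Type u} [CommRing R] [CommRing S] [Algebra R S] [Algebra.FiniteType R S]
    (N : Type u) [AddCommGroup N] [Module S N] [Module R N] [IsScalarTower R S N] [Module.Finite S N]
    (p : Ideal R) [p.IsPrime] (q : Ideal S) [q.IsPrime] [q.LiesOver p] (hflat : FlatCA.FlatAt R q N) :
    ∃ (R' : Type u) (_ : CommRing R') (_ : Algebra R R') (p' : Ideal R') (_ : p'.IsPrime), FlatCA.IsEtaleNhd R R' p p' ∧
      ∀ (SA NA : Type u) [CommRing SA] [Algebra R SA] [Algebra S SA] [Algebra (Localization.AtPrime p') SA]
        [IsScalarTower R S SA] [IsScalarTower R (Localization.AtPrime p') SA]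
        [Algebra.IsPushout R S (Localization.AtPrime p') SA]
        [AddCommGroup NA] [Module SA NA] [Module S NA] [IsScalarTower S SA NA]
        (f : N →ₗ[S] NA), IsBaseChange SA f →
        ∃ (C : Type u) (_ : CommRing C) (_ : Algebra SA C) (_ : Algebra (Localization.AtPrime p') C)
          (_ : IsScalarTower (Localization.AtPrime p') SA C) (x' : Ideal C) (_ : x'.IsPrime),
          IsOpenImmersion (Spec.map (CommRingCat.ofHom (algebraMap SA C))) ∧
          (x'.comap (algebraMap SA C)).LiesOver q ∧
          (x'.comap (algebraMap SA C)).LiesOver (IsLocalRing.maximalIdeal (Localization.AtPrime p')) ∧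
          Module.Free (Localization.AtPrime p') (RestrictScalars (Localization.AtPrime p') C (C ⊗[SA] NA)) := by
  obtain ⟨R', _, _, p', _, hR, H⟩ := exists_free_nhd N p q hflat
  refine ⟨R', inferInstance, inferInstance, p', inferInstance, hR, ?_⟩
  intro SA NA _ _ _ _ _ _ hpo _ _ _ _ f hf
  obtain ⟨C, _, _, _, _, _, _, x, _, hxq, het, -, hxm, -, hfree⟩ := H SA NA f hf
  let A := Localization.AtPrime p'
  haveI := het
  haveI : Algebra.FiniteType A SA := GrothLib.RG6.Impure.finiteType_baseChange hpo
  haveI : Module.Finite SA NA := by
    haveI : Module.Finite SA (SA ⊗[S] N) := inferInstance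
    exact Module.Finite.equiv hf.equiv
  haveI : Module.Projective A (C ⊗[SA] NA) := by
    haveI := hfree
    exact Module.Projective.of_equiv
      ({ RestrictScalars.addEquiv A C (C ⊗[SA] NA) with
         map_smul' := fun a z => by
          show algebraMap A C a • RestrictScalars.addEquiv A C _ z = a • RestrictScalars.addEquiv A C _ z
          rw [algebraMap_smul] } : RestrictScalars A C (C ⊗[SA] NA) ≃ₗ[A] C ⊗[SA] NA)
  obtain ⟨h, hh, hX⟩ := exists_free_away (A := A) (SA := SA) (C := C) (NA := NA) x
  let C₀ := Localization.Away h
  let x₀ := x.comap (algebraMap SA C)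
  have hd : Disjoint (Submonoid.powers h : Set SA) x₀ := Set.disjoint_left.2 fun y hy hyp => by
    obtain ⟨k, rfl⟩ := hy
    exact hh ((Ideal.IsPrime.comap (algebraMap SA C)).mem_of_pow_mem k hyp)
  haveI : (x₀.map (algebraMap SA C₀)).IsPrime :=
    IsLocalization.isPrime_of_isPrime_disjoint (Submonoid.powers h) C₀ x₀ inferInstance hd
  have hc : (x₀.map (algebraMap SA C₀)).comap (algebraMap SA C₀) = x₀ :=
    IsLocalization.under_map_of_isPrime_disjoint (Submonoid.powers h) C₀ inferInstance hd
  haveI := hX
  refine ⟨C₀, inferInstance, inferInstance, inferInstance, inferInstance, x₀.map (algebraMap SA C₀), inferInstance,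
    IsOpenImmersion.of_isLocalization h, ?_, ?_, free_restrictScalars⟩
  · rw [hc]
    exact ⟨by
      show q = (x.comap (algebraMap SA C)).comap (algebraMap S SA)
      rw [Ideal.comap_comap, ← IsScalarTower.algebraMap_eq S SA C]
      exact hxq.over⟩
  · rw [hc]
    exact ⟨by
      show IsLocalRing.maximalIdeal A = (x.comap (algebraMap SA C)).comap (algebraMap A SA)
      rw [Ideal.comap_comap, ← IsScalarTower.algebraMap_eq A SA C]
      exact hxm.over⟩

/-- A surjection from a finitely presented algebra: flatness at a point transfers. -/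
theorem flatAt_of_surjective {R P S : Type u} [CommRing R] [CommRing P] [CommRing S] [Algebra R P] [Algebra R S]
    [Algebra P S] [IsScalarTower R P S] (hs : Function.Surjective (algebraMap P S)) (q : Ideal S) [q.IsPrime]
    (hflat : Module.Flat R (Localization.AtPrime q)) : FlatCA.FlatAt R (q.comap (algebraMap P S)) S := by
  let L := Localization.AtPrime q
  let T := (q.comap (algebraMap P S)).primeCompl
  have hT : Algebra.algebraMapSubmonoid S T = q.primeCompl := by
    ext s
    refine ⟨?_, fun h => ?_⟩
    · rintro ⟨t, ht, rfl⟩
      exact ht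
    · obtain ⟨t, rfl⟩ := hs s
      exact ⟨t, h, rfl⟩
  haveI : IsLocalization (Algebra.algebraMapSubmonoid S T) L := by
    rw [hT]
    infer_instance
  haveI : IsLocalizedModule T (IsScalarTower.toAlgHom P S L).toLinearMap :=
    isLocalizedModule_iff_isLocalization.2 inferInstance
  haveI := hflat
  exact Module.Flat.of_linearEquiv ((IsLocalizedModule.iso T (IsScalarTower.toAlgHom P S L).toLinearMap).restrictScalars R)

set_option maxHeartbeats 800000 in
/-- A finite type algebra flat at a point is flat and finitely presented near it after étale localization of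
the base. -/
theorem exists_flat_fp_away {R S : Type u} [CommRing R] [CommRing S] [Algebra R S] [Algebra.FiniteType R S]
    (p : Ideal R) [p.IsPrime] (q : Ideal S) [q.IsPrime] [q.LiesOver p] (hflat : Module.Flat R (Localization.AtPrime q)) :
    ∃ (R' : Type u) (_ : CommRing R') (_ : Algebra R R') (p' : Ideal R') (_ : p'.IsPrime), FlatCA.IsEtaleNhd R R' p p' ∧
      ∀ (SA : Type u) [CommRing SA] [Algebra R SA] [Algebra S SA] [Algebra (Localization.AtPrime p') SA]
        [IsScalarTower R S SA] [IsScalarTower R (Localization.AtPrime p') SA]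
        [Algebra.IsPushout R S (Localization.AtPrime p') SA],
        ∃ g : SA, (∀ (Q : Ideal SA) [Q.IsPrime], Q.LiesOver q → Q.LiesOver (IsLocalRing.maximalIdeal (Localization.AtPrime p')) → g ∉ Q) ∧
          Module.Flat (Localization.AtPrime p') (Localization.Away g) ∧
          Algebra.FinitePresentation (Localization.AtPrime p') (Localization.Away g) := by
  obtain ⟨n, φ, hφ⟩ := Algebra.FiniteType.iff_quotient_mvPolynomial''.1 ‹Algebra.FiniteType R S›
  let P := MvPolynomial (Fin n) R
  letI : Algebra P S := φ.toRingHom.toAlgebra
  haveI : IsScalarTower R P S := IsScalarTower.of_algebraMap_eq fun r => (φ.commutes r).symm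
  haveI : Module.Finite P S := Module.Finite.of_surjective (Algebra.linearMap P S) hφ
  let qP := q.comap (algebraMap P S)
  haveI : qP.LiesOver p := ⟨by
    show p = (q.comap (algebraMap P S)).comap (algebraMap R P)
    rw [Ideal.comap_comap, ← IsScalarTower.algebraMap_eq R P S]
    exact Ideal.LiesOver.over⟩
  obtain ⟨R', _, _, p', _, hR, H⟩ := exists_free_nhd (R := R) (S := P) S p qP (flatAt_of_surjective hφ q hflat)
  refine ⟨R', inferInstance, inferInstance, p', inferInstance, hR, ?_⟩
  intro SA _ _ _ _ _ _ hpo
  let A := Localization.AtPrime p'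
  obtain ⟨PA, _, _, _, _, _, _, _, _, _, _, _, _, _, -, hpoP, -⟩ := GrothLib.RG6.Impure.exists_data R P P A
  haveI : Algebra.IsPushout R P A PA := hpoP
  letI : Algebra P SA := ((algebraMap S SA).comp (algebraMap P S)).toAlgebra
  haveI : IsScalarTower P S SA := IsScalarTower.of_algebraMap_eq fun _ => rfl
  haveI : IsScalarTower R P SA := IsScalarTower.of_algebraMap_eq fun r => by
    show algebraMap R SA r = algebraMap S SA (algebraMap P S (algebraMap R P r))
    rw [← IsScalarTower.algebraMap_apply R P S, ← IsScalarTower.algebraMap_apply R S SA]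
  let β : PA →ₐ[R] SA := Algebra.pushoutDesc (R := R) (R' := A) PA (IsScalarTower.toAlgHom R P SA)
    (IsScalarTower.toAlgHom R A SA) fun _ _ => Commute.all _ _
  letI : Algebra PA SA := β.toRingHom.toAlgebra
  haveI : IsScalarTower A PA SA := IsScalarTower.of_algebraMap_eq fun a => by
    show _ = β _
    exact (Algebra.pushoutDesc_right (R := R) PA (IsScalarTower.toAlgHom R P SA)
      (IsScalarTower.toAlgHom R A SA) (fun _ _ => Commute.all _ _) a).symm
  haveI : IsScalarTower P PA SA := IsScalarTower.of_algebraMap_eq fun a => by
    show _ = β _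
    exact (Algebra.pushoutDesc_left (R := R) (R' := A) PA (IsScalarTower.toAlgHom R P SA)
      (IsScalarTower.toAlgHom R A SA) (fun _ _ => Commute.all _ _) a).symm
  haveI : IsScalarTower R PA SA := IsScalarTower.of_algebraMap_eq fun r => (β.commutes r).symm
  haveI : Algebra.IsPushout R A P PA := Algebra.IsPushout.symm hpoP
  haveI : Algebra.IsPushout R A S SA := Algebra.IsPushout.symm hpo
  haveI : Algebra.IsPushout P S PA SA := (Algebra.IsPushout.comp_iff R P A PA (T := S) (T' := SA)).1 hpo
  haveI : Algebra.IsPushout P PA S SA := Algebra.IsPushout.symm inferInstance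
  obtain ⟨C, _, _, _, _, _, _, x, _, hxq, het, -, hxm, hfp, hfree⟩ :=
    H PA SA (IsScalarTower.toAlgHom P S SA).toLinearMap Algebra.IsPushout.out
  haveI := het
  haveI : Module.Flat A (C ⊗[PA] SA) := by
    haveI := hfree
    exact Module.Flat.of_linearEquiv
      ({ RestrictScalars.addEquiv A C (C ⊗[PA] SA) with
         map_smul' := fun a z => by
          show algebraMap A C a • RestrictScalars.addEquiv A C _ z = a • RestrictScalars.addEquiv A C _ z
          rw [algebraMap_smul] } : RestrictScalars A C (C ⊗[PA] SA) ≃ₗ[A] C ⊗[PA] SA).symm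
  obtain ⟨g₀, hg₀, hgfp, hgflat⟩ := exists_away_flat (A := A) (SA := PA) (C := C) SA x hfp inferInstance
  let g := algebraMap PA SA g₀
  refine ⟨g, fun Q _ hQq hQm hgQ => hg₀ ?_, ?_⟩
  · haveI : (IsLocalRing.maximalIdeal A).LiesOver p := by
      obtain ⟨ho, -⟩ := hR.2
      haveI := ho
      haveI : (IsLocalRing.maximalIdeal A).LiesOver p' := ⟨(IsLocalization.AtPrime.under_maximalIdeal A p').symm⟩
      exact Ideal.LiesOver.trans _ p' p
    have heq : Q.comap (algebraMap PA SA) = x.comap (algebraMap PA C) :=
      eq_of_residue_bijective (R := R) (S := P) (A := A) (SA := PA) inferInstance (exists_frac_residue hR) qP _ _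
        ⟨by
          show q.comap (algebraMap P S) = (Q.comap (algebraMap PA SA)).comap (algebraMap P PA)
          rw [Ideal.comap_comap, ← IsScalarTower.algebraMap_eq P PA SA, IsScalarTower.algebraMap_eq P S SA,
            ← Ideal.comap_comap]
          exact congrArg (Ideal.comap (algebraMap P S)) hQq.over⟩
        ⟨by
          show q.comap (algebraMap P S) = (x.comap (algebraMap PA C)).comap (algebraMap P PA)
          rw [Ideal.comap_comap, ← IsScalarTower.algebraMap_eq P PA C]
          exact hxq.over⟩
        ⟨by
          show _ = (Q.comap (algebraMap PA SA)).comap (algebraMap A PA)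
          rw [Ideal.comap_comap, ← IsScalarTower.algebraMap_eq A PA SA]
          exact hQm.over⟩
        ⟨by
          show _ = (x.comap (algebraMap PA C)).comap (algebraMap A PA)
          rw [Ideal.comap_comap, ← IsScalarTower.algebraMap_eq A PA C]
          exact hxm.over⟩
    exact heq.le hgQ
  let L := Localization.Away g
  let L₀ := Localization.Away g₀
  have hu : IsUnit (algebraMap PA L g₀) := by
    rw [IsScalarTower.algebraMap_apply PA SA L]
    exact IsLocalization.Away.algebraMap_isUnit g
  letI : Algebra L₀ L := (IsLocalization.Away.lift g₀ hu).toAlgebra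
  haveI : IsScalarTower PA L₀ L := IsScalarTower.of_algebraMap_eq fun r => (IsLocalization.Away.lift_eq g₀ hu r).symm
  haveI : IsLocalization (Algebra.algebraMapSubmonoid SA (Submonoid.powers g₀)) L := by
    rw [Algebra.algebraMapSubmonoid, Submonoid.map_powers]
    exact (inferInstance : IsLocalization.Away g L)
  haveI : IsLocalizedModule (Submonoid.powers g₀) (IsScalarTower.toAlgHom PA SA L).toLinearMap :=
    isLocalizedModule_iff_isLocalization.2 inferInstance
  let e := IsLocalizedModule.iso (Submonoid.powers g₀) (IsScalarTower.toAlgHom PA SA L).toLinearMap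
  haveI := hgflat
  haveI := hgfp
  haveI : Module.FinitePresentation L₀ L :=
    Module.FinitePresentation.of_equiv (e.extendScalarsOfIsLocalization (Submonoid.powers g₀) L₀)
  haveI : Algebra.FinitePresentation A PA := by
    haveI : Algebra.FinitePresentation A (A ⊗[R] P) := inferInstance
    exact Algebra.FinitePresentation.equiv (Algebra.IsPushout.equiv R A P PA)
  haveI : Algebra.FinitePresentation PA L₀ := IsLocalization.Away.finitePresentation g₀
  haveI : Algebra.FinitePresentation A L₀ := Algebra.FinitePresentation.trans A PA L₀
  haveI : IsScalarTower A L₀ L := IsScalarTower.of_algebraMap_eq fun r => by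
    rw [IsScalarTower.algebraMap_apply A PA L₀, ← IsScalarTower.algebraMap_apply PA L₀ L,
      IsScalarTower.algebraMap_apply A PA L]
  exact ⟨Module.Flat.of_linearEquiv (e.restrictScalars A).symm, Algebra.FinitePresentation.trans A L₀ L⟩

end GrothLib.RGProj13
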