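import Groth.Agent.Lib.RGProj13.LocalFree
import Groth.Agent.Lib.DevBC13.Step

/-!
Étale neighbourhoods of the fibre over the local ring of an étale neighbourhood of the base.
-/

set_option autoImplicit false
set_option linter.style.haveILetI false
set_option linter.unusedSectionVars false
universe u

open TensorProduct

namespace GrothLib.RGProj13

attribute [local instance] Algebra.TensorProduct.rightAlgebra

/-- Over the base change of `S` along `R → A`, with `A` a localization of an étale neighbourhood `R'`, the ring
`A ⊗ S'` is étale. -/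
theorem exists_etale_algebra_baseChange {R S R' S' A : Type u} [CommRing R] [CommRing S] [CommRing R'] [CommRing S']
    [CommRing A] [Algebra R S] [Algebra R R'] [Algebra S S'] [Algebra R' S'] [Algebra R S'] [IsScalarTower R R' S']
    [IsScalarTower R S S'] [Algebra R' A] [Algebra R A] [IsScalarTower R R' A] [Algebra.Etale R R'] [Algebra.Etale S S']
    (SA : Type u) [CommRing SA] [Algebra R SA] [Algebra S SA] [Algebra A SA] [IsScalarTower R S SA] [IsScalarTower R A SA]
    [Algebra.IsPushout R S A SA] :
    ∃ (_ : Algebra SA (A ⊗[R'] S')), IsScalarTower A SA (A ⊗[R'] S') ∧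
      (∀ s : S, algebraMap SA (A ⊗[R'] S') (algebraMap S SA s) = 1 ⊗ₜ[R'] algebraMap S S' s) ∧
      Algebra.Etale SA (A ⊗[R'] S') := by
  let C := A ⊗[R'] S'
  letI : Algebra R' SA := ((algebraMap A SA).comp (algebraMap R' A)).toAlgebra
  haveI : IsScalarTower R' A SA := IsScalarTower.of_algebraMap_eq fun _ => rfl
  haveI : IsScalarTower R R' SA := IsScalarTower.of_algebraMap_eq fun r => by
    show algebraMap R SA r = algebraMap A SA (algebraMap R' A (algebraMap R R' r))
    rw [← IsScalarTower.algebraMap_apply R R' A, ← IsScalarTower.algebraMap_apply R A SA]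
  let S0 := R' ⊗[R] S
  letI a0 : Algebra S0 S' := (Algebra.TensorProduct.lift (IsScalarTower.toAlgHom R R' S') (IsScalarTower.toAlgHom R S S')
    fun _ _ => mul_comm _ _).toRingHom.toAlgebra
  have h0 : ∀ (a : R') (b : S), algebraMap S0 S' (a ⊗ₜ b) = algebraMap R' S' a * algebraMap S S' b := fun a b =>
    Algebra.TensorProduct.lift_tmul _ _ _ a b
  haveI : IsScalarTower R' S0 S' := IsScalarTower.of_algebraMap_eq fun a => by
    rw [Algebra.TensorProduct.algebraMap_apply, Algebra.algebraMap_self, RingHom.id_apply, h0, map_one, mul_one]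
  haveI : IsScalarTower S S0 S' := IsScalarTower.of_algebraMap_eq fun b => by
    rw [Algebra.TensorProduct.right_algebraMap_apply, h0, map_one, one_mul]
  letI a1 : Algebra S0 SA := (Algebra.TensorProduct.lift (IsScalarTower.toAlgHom R R' SA) (IsScalarTower.toAlgHom R S SA)
    fun _ _ => mul_comm _ _).toRingHom.toAlgebra
  have h1 : ∀ (a : R') (b : S), algebraMap S0 SA (a ⊗ₜ b) = algebraMap R' SA a * algebraMap S SA b := fun a b =>
    Algebra.TensorProduct.lift_tmul _ _ _ a b
  haveI : IsScalarTower R' S0 SA := IsScalarTower.of_algebraMap_eq fun a => by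
    rw [Algebra.TensorProduct.algebraMap_apply, Algebra.algebraMap_self, RingHom.id_apply, h1, map_one, mul_one]
  haveI : IsScalarTower S S0 SA := IsScalarTower.of_algebraMap_eq fun b => by
    rw [Algebra.TensorProduct.right_algebraMap_apply, h1, map_one, one_mul]
  let φS : S →ₐ[R] C :=
    { toRingHom := (algebraMap S' C).comp (algebraMap S S')
      commutes' := fun r => by
        show algebraMap S' C (algebraMap S S' (algebraMap R S r)) = algebraMap R C r
        rw [← IsScalarTower.algebraMap_apply R S S', IsScalarTower.algebraMap_apply R R' S',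
          ← IsScalarTower.algebraMap_apply R' S' C, ← IsScalarTower.algebraMap_apply R R' C] }
  let φA : A →ₐ[R] C := IsScalarTower.toAlgHom R A C
  let φ : SA →ₐ[R] C := Algebra.pushoutDesc SA φS φA fun _ _ => mul_comm _ _
  letI a2 : Algebra SA C := φ.toRingHom.toAlgebra
  haveI t2 : IsScalarTower A SA C := IsScalarTower.of_algebraMap_eq fun a =>
    (Algebra.pushoutDesc_right SA φS φA (fun _ _ => mul_comm _ _) a).symm
  have hS : ∀ s : S, algebraMap SA C (algebraMap S SA s) = algebraMap S' C (algebraMap S S' s) := fun s =>
    Algebra.pushoutDesc_left SA φS φA (fun _ _ => mul_comm _ _) s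
  letI a3 : Algebra S0 C := ((algebraMap S' C).comp (algebraMap S0 S')).toAlgebra
  haveI : IsScalarTower S0 S' C := IsScalarTower.of_algebraMap_eq fun _ => rfl
  haveI : IsScalarTower S0 SA C := IsScalarTower.of_algebraMap_eq fun z => by
    show algebraMap S' C (algebraMap S0 S' z) = algebraMap SA C (algebraMap S0 SA z)
    induction z using TensorProduct.induction_on with
    | zero => simp only [map_zero]
    | add a b ha hb => simp only [map_add, ha, hb]
    | tmul a b =>
      rw [h0, h1, map_mul, map_mul, hS, ← IsScalarTower.algebraMap_apply R' S' C,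
        IsScalarTower.algebraMap_apply R' A SA, ← IsScalarTower.algebraMap_apply A SA C,
        ← IsScalarTower.algebraMap_apply R' A C]
  haveI : Algebra.IsPushout R A S SA := Algebra.IsPushout.symm inferInstance
  haveI p0 : Algebra.IsPushout R R' S S0 := inferInstance
  haveI p1 : Algebra.IsPushout R' A S0 SA := (Algebra.IsPushout.comp_iff R R' S S0).1 inferInstance
  haveI p2 : Algebra.IsPushout R' A S' C := inferInstance
  haveI p3 : Algebra.IsPushout S0 SA S' C := GrothLib.DevBC13.isPushout_right (R := R') (R' := A)
  haveI : Algebra.Etale S S0 := Algebra.Etale.of_equiv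
    ({ (Algebra.TensorProduct.comm R S R').toRingEquiv with
      commutes' := fun s => by
        show Algebra.TensorProduct.comm R S R' (algebraMap S (S ⊗[R] R') s) = algebraMap S (R' ⊗[R] S) s
        rw [Algebra.TensorProduct.algebraMap_apply, Algebra.algebraMap_self, RingHom.id_apply,
          Algebra.TensorProduct.comm_tmul, Algebra.TensorProduct.right_algebraMap_apply] } : S ⊗[R] R' ≃ₐ[S] S0)
  haveI : Algebra.Etale S0 S' := Algebra.Etale.of_restrictScalars S S0 S'
  exact ⟨a2, t2, fun s => hS s, Algebra.Etale.of_equiv (Algebra.IsPushout.equiv S0 SA S' C)⟩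

end GrothLib.RGProj13
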