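import Groth.Agent.Lib.RGProj13.DevissageLoc
import Groth.Agent.Lib.RG6.Dev.Models
import Groth.Agent.Lib.RG6.Dev.Nbhd
import Groth.Agent.Lib.ProjLocal.Basic
import Groth.Agent.S12243

/-!
A module flat at a point is free and finitely presented over the local ring of an étale neighbourhood
of the base, after étale localization.
-/

set_option autoImplicit false
set_option linter.style.haveILetI false
set_option linter.unusedSectionVars false
universe u

open TensorProduct FlatCA

namespace GrothLib.RGProj13

attribute [local instance] Algebra.TensorProduct.rightAlgebra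

section Chain

variable {R S : Type u} [CommRing R] [CommRing S] [Algebra R S] {N : Type u} [AddCommGroup N] [Module S N]
  [Module R N] [IsScalarTower R S N] {rr : Ideal R} [rr.IsPrime] {q : Ideal S} [q.IsPrime]

/-- Along a complete dévissage at a point where the module is flat, the kernels die over the local ring of the base. -/
theorem killed_of_flatAt (D : CompleteDevissage R S N rr) (𝒜 : CompleteDevissageAt R S N rr q D)
    (h : FlatAt R q N) :
    ∀ i, i < D.n →
      GrothLib.RG6.KilledKer R (Algebra.algebraMapSubmonoid (D.B i) rr.primeCompl) (D.α i) := by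
  have key : ∀ i, ∀ hi : i < D.n, ∀ (hF : (haveI := 𝒜.hqA i; FlatAt R (𝒜.qA i) (D.M i))),
      GrothLib.RG6.KilledKer R (Algebra.algebraMapSubmonoid (D.B i) rr.primeCompl) (D.α i) ∧
        ∀ h1 : i + 1 < D.n, (haveI := 𝒜.hqA (i + 1); FlatAt R (𝒜.qA (i + 1)) (D.M (i + 1))) := by
    intro i hi hF
    haveI := 𝒜.hqA i
    haveI := 𝒜.hqB i
    haveI := 𝒜.overB i
    haveI := 𝒜.overA i
    haveI := D.smooth i hi
    haveI := D.finiteBA i hi
    haveI := D.hp i
    haveI := finite_M D hi
    have hB : FlatAt R (𝒜.qB i) (D.M i) := by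
      refine flatAt_B D (𝒜.qB i) fun Q _ hQ => ?_
      obtain ⟨Q₁, hle, hQ₁, hc⟩ := Ideal.exists_ideal_over_prime_of_isIntegral (𝒜.qB i) Q hQ
      haveI := hQ₁
      have hQA : Q ≤ 𝒜.qA i := (𝒜.uniq i hi Q₁ ⟨hc.symm⟩) ▸ hle
      exact (GrothLib.RG6.Dev.flatAt_of_forall (A := R) (B := D.A i) (C := D.A i) (D.M i) (𝒜.qA i)).1 hF Q
        (by rw [Algebra.algebraMap_self, Ideal.comap_id]; exact hQA)
    have hgi := hgi_B D hi
    have hTq : Algebra.algebraMapSubmonoid (D.B i) rr.primeCompl ≤ (𝒜.qB i).primeCompl := by
      rintro _ ⟨a, ha, rfl⟩ hm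
      exact ha ((Ideal.LiesOver.over (p := rr) (P := 𝒜.qB i)).symm.le hm)
    have hk := GrothLib.RG6.killedKer_of_regular hgi (rr.map (algebraMap R (D.B i))).primeCompl rr.primeCompl
      (fun g hg p' _ hd => GrothLib.RG6.fibreNonzero_of_notMem (fun a ha => by
        by_contra hn
        exact Set.disjoint_left.1 hd ha hn) hg)
      (GrothLib.RG6.killedKer_generic (𝒜.qB i) (D.α i) hgi rr hB (D.fibreIso i hi))
    refine ⟨hk, fun h1 => ?_⟩
    haveI := 𝒜.hqA (i + 1)
    exact flatAt_succ D h1 (𝒜.qB i) (GrothLib.RG6.flatAt_coker (𝒜.qB i) (D.α i) _ hTq hk hB) (𝒜.qA (i + 1))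
      (𝒜.qStep i h1).le
  have hflat : ∀ i, i < D.n → (haveI := 𝒜.hqA i; FlatAt R (𝒜.qA i) (D.M i)) := by
    intro i
    induction i with
    | zero =>
      intro _
      haveI := 𝒜.hqA 0
      exact flatAt_zero D h (𝒜.qA 0) 𝒜.q0.le
    | succ i ih => exact fun hi => (key i (by omega) (ih (by omega))).2 hi
  exact fun i hi => (key i hi (hflat i hi)).1

end Chain

/-- A kernel killed over the local ring of the base disappears after base change to a ring where those elements are units. -/
theorem baseChange_injective_of_killed {R B M M' : Type u} [CommRing R] [CommRing B] [Algebra R B] [AddCommGroup M]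
    [Module B M] [Module R M] [IsScalarTower R B M] [AddCommGroup M'] [Module B M'] [Module R M'] [IsScalarTower R B M']
    {α : M →ₗ[B] M'} (T : Submonoid R) (Rf : Type u) [CommRing Rf] [Algebra R Rf]
    (hT : ∀ t ∈ T, IsUnit (algebraMap R Rf t)) (h : GrothLib.RG6.KilledKer R (Algebra.algebraMapSubmonoid B T) α) :
    Function.Injective ((α.restrictScalars R).baseChange Rf) := by
  refine (injective_iff_map_eq_zero _).2 fun z hz => ?_
  have key : ∀ y : Rf ⊗[R] M, AlgebraTensorModule.rTensor R Rf α (TensorProduct.comm R Rf M y) =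
      TensorProduct.comm R Rf M' ((α.restrictScalars R).baseChange Rf y) := fun y => by
    induction y using TensorProduct.induction_on with
    | zero => simp
    | tmul a b => simp
    | add a b ha hb => simp only [map_add, ha, hb]
  obtain ⟨_, ⟨t, ht, rfl⟩, hk⟩ := h Rf (TensorProduct.comm R Rf M z) (by rw [key, hz, map_zero])
  rw [algebraMap_smul, ← map_smul, LinearEquiv.map_eq_zero_iff, ← algebraMap_smul Rf t z] at hk
  exact (hT t ht).smul_eq_zero.1 hk

/-- A map out of a finite free module with the same image as an injective one is injective. -/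
theorem injective_of_range_eq {B M : Type u} [CommRing B] [AddCommGroup M] [Module B M] {m k : ℕ}
    (a : (Fin m → B) →ₗ[B] M) (b : (Fin k → B) →ₗ[B] M) (hmk : m = k) (hb : Function.Injective b)
    (h : LinearMap.range a = LinearMap.range b) : Function.Injective a := by
  subst hmk
  let e := LinearEquiv.ofInjective b hb
  let g : (Fin m → B) →ₗ[B] (Fin m → B) :=
    e.symm.toLinearMap ∘ₗ a.codRestrict (LinearMap.range b) fun x => by rw [← h]; exact LinearMap.mem_range_self a x
  have hg : Function.Surjective g := fun v => by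
    obtain ⟨x, hx⟩ := LinearMap.mem_range.1 (show (e v : M) ∈ LinearMap.range a by rw [h]; exact (e v).2)
    refine ⟨x, e.injective ?_⟩
    show e (e.symm _) = e v
    rw [LinearEquiv.apply_symm_apply]
    exact Subtype.ext hx
  have hgi : Function.Injective g := OrzechProperty.injective_of_surjective_endomorphism g hg
  exact fun x y hxy => hgi (congrArg e.symm (Subtype.ext hxy))

set_option maxHeartbeats 1600000 in
/-- With dying kernels, a base change to a ring where they die is finitely presented. -/
theorem finitePresentation_baseChange {R S : Type u} [CommRing R] [CommRing S] [Algebra R S] [Algebra.FiniteType R S]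
    {N : Type u} [AddCommGroup N] [Module S N] [Module R N] [IsScalarTower R S N] [Module.Finite S N] (rr : Ideal R)
    [rr.IsPrime] (D : CompleteDevissage R S N rr)
    (hk : ∀ i, i < D.n → GrothLib.RG6.KilledKer R (Algebra.algebraMapSubmonoid (D.B i) rr.primeCompl) (D.α i))
    (L : Type u) [CommRing L] [Algebra R L] (hu : ∀ t ∈ rr.primeCompl, IsUnit (algebraMap R L t))
    (m : Ideal L) [m.IsPrime] [m.LiesOver rr] (C : Type u) [CommRing C] [Algebra L C] [Algebra R C] [Algebra S C]
    [IsScalarTower R L C] [IsScalarTower R S C] [Algebra.IsPushout R L S C] (NC : Type u) [AddCommGroup NC] [Module C NC]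
    [Module S NC] [IsScalarTower S C NC] (f : N →ₗ[S] NC) (hf : IsBaseChange C f) :
    Module.FinitePresentation C NC := by
  letI : Module L NC := Module.compHom _ (algebraMap L C)
  haveI : IsScalarTower L C NC := IsScalarTower.of_algebraMap_smul fun _ _ => rfl
  haveI : Algebra.FiniteType L C := Algebra.FiniteType.of_surjective
    (Algebra.IsPushout.equiv R L S C).toAlgHom (Algebra.IsPushout.equiv R L S C).surjective
  haveI : Module.Finite C NC := Module.Finite.equiv hf.equiv
  obtain ⟨D', aA, rA, t1, t2, aB, rB, t3, t4, bA, t5, t6, bA', t7, sA, t8, mA, t9, gM, hn, hr, -, -, -, hall⟩ :=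
    Groth.Agent.S12243.result R S N rr D L m C NC f hf
  refine finitePresentation_N D' fun i hi => ?_
  rw [hn] at hi
  obtain ⟨j, rfl⟩ : ∃ j : Fin D.n, (j : ℕ) = i := ⟨⟨i, hi⟩, rfl⟩
  letI := aA j
  letI := rA j
  haveI := t1 j
  haveI := t2 j
  letI := aB j
  letI := rB j
  haveI := t3 j
  haveI := t4 j
  letI := bA j
  haveI := t5 j
  haveI := t6 j
  letI := mA j
  haveI := t9 j
  obtain ⟨hA, hB, hg, hrange⟩ := hall j
  haveI := hA
  haveI := hB
  letI : Module (D.B j) (D'.M j) := Module.compHom _ (algebraMap (D.B j) (D'.B j))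
  haveI : IsScalarTower (D.B j) (D'.B j) (D'.M j) := IsScalarTower.of_algebraMap_smul fun _ _ => rfl
  haveI : IsScalarTower (D.B j) (D.A j) (D'.M j) := IsScalarTower.of_algebraMap_smul fun b x => by
    show algebraMap (D.B j) (D.A j) b • x = algebraMap (D.B j) (D'.B j) b • x
    rw [← algebraMap_smul (D'.A j) (algebraMap (D.B j) (D'.B j) b) x, ← IsScalarTower.algebraMap_apply (D.B j) (D'.B j) (D'.A j),
      IsScalarTower.algebraMap_apply (D.B j) (D.A j) (D'.A j), algebraMap_smul (D'.A j)]
  have hgB : IsBaseChange (D'.B j) ((gM j).restrictScalars (D.B j)) :=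
    GrothLib.DevBC13.isBaseChange_over (R := R) (R' := L) (gM j) hg
  refine injective_of_range_eq (D'.α j) (GrothLib.DevBC13.alphaBC ((gM j).restrictScalars (D.B j)) (D.α j))
    (congrFun hr j) ?_ ?_
  · rw [GrothLib.DevBC13.alphaBC_eq (D.α j) hgB]
    simp only [LinearMap.coe_comp, LinearEquiv.coe_coe]
    refine hgB.equiv.injective.comp (Function.Injective.comp ?_ (LinearEquiv.injective _))
    let c := Algebra.IsPushout.cancelBaseChange R L (D.B j) (D'.B j)
    have hc : ∀ w, (D.α j).baseChange (D'.B j) ((c (Fin (D.r j) → D.B j)).symm w) =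
        (c (D.M j)).symm (((D.α j).restrictScalars R).baseChange L w) := fun w => by
      induction w using TensorProduct.induction_on with
      | zero => simp
      | add u v hu hv => simp only [map_add, hu, hv]
      | tmul l x => simp [c, Algebra.IsPushout.cancelBaseChange_symm_tmul]
    intro x y hxy
    obtain ⟨x, rfl⟩ := (c (Fin (D.r j) → D.B j)).symm.surjective x
    obtain ⟨y, rfl⟩ := (c (Fin (D.r j) → D.B j)).symm.surjective y
    rw [hc, hc] at hxy
    exact congrArg _ (baseChange_injective_of_killed rr.primeCompl L hu (hk j j.2) ((c (D.M j)).symm.injective hxy))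
  · rw [GrothLib.DevBC13.range_alphaBC]
    exact hrange

set_option maxHeartbeats 1600000 in
/-- With dying kernels, the module over the local ring of the base is free and finitely presented. -/
theorem free_local {R S : Type u} [CommRing R] [CommRing S] [Algebra R S] [Algebra.FiniteType R S] {N : Type u}
    [AddCommGroup N] [Module S N] [Module R N] [IsScalarTower R S N] [Module.Finite S N] (rr : Ideal R) [rr.IsPrime]
    (D : CompleteDevissage R S N rr)
    (hk : ∀ i, i < D.n → GrothLib.RG6.KilledKer R (Algebra.algebraMapSubmonoid (D.B i) rr.primeCompl) (D.α i)) :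
    Module.Free (Localization.AtPrime rr) ((Localization.AtPrime rr ⊗[R] S) ⊗[S] N) ∧
      Module.FinitePresentation (Localization.AtPrime rr ⊗[R] S) ((Localization.AtPrime rr ⊗[R] S) ⊗[S] N) := by
  let L := Localization.AtPrime rr
  let C := L ⊗[R] S
  let NC := C ⊗[S] N
  have hu : ∀ t ∈ rr.primeCompl, IsUnit (algebraMap R L t) := fun t ht => IsLocalization.map_units L (⟨t, ht⟩ : rr.primeCompl)
  refine ⟨?_, ?_⟩
  · let F : ℕ → Type u := fun k => Fin (D.r k) → L ⊗[R] D.B k
    let a : ∀ k, F k →ₗ[L] L ⊗[R] D.M k := fun k =>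
      ((D.α k).restrictScalars R).baseChange L ∘ₗ
        (TensorProduct.piRight R L L (fun _ : Fin (D.r k) => D.B k)).symm.toLinearMap
    have hproj : ∀ k, k < D.n → Module.Projective L (F k) := fun k hk' => by
      haveI := projective_B D hk'
      exact projective_pi_fin (L ⊗[R] D.B k) (D.r k)
    obtain ⟨hP, -⟩ := chain_split' (R := L) D.n D.pos (fun k => L ⊗[R] D.M k) F a
      (fun k hk' => (baseChange_injective_of_killed rr.primeCompl L hu (hk k hk')).comp (LinearEquiv.injective _))
      (fun k hk' => by
        obtain ⟨π, h1, h2⟩ := exists_proj' D hk'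
        refine ⟨π.baseChange L, LinearMap.lTensor_surjective L h1, ?_⟩
        intro x
        refine (lTensor_exact L h2 h1 x).trans ?_
        constructor
        · rintro ⟨y, rfl⟩
          exact ⟨TensorProduct.piRight R L L (fun _ : Fin (D.r k) => D.B k) y,
            congrArg _ (LinearEquiv.symm_apply_apply _ y)⟩
        · rintro ⟨y, rfl⟩
          exact ⟨_, rfl⟩)
      ((LinearMap.lTensor_surjective L (g := (D.α (D.n - 1)).restrictScalars R) D.cokerLast).comp (LinearEquiv.surjective _))
      hproj
    haveI := hP
    haveI : Module.Projective L NC := Module.Projective.of_equiv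
      (Algebra.IsPushout.cancelBaseChange R L S C N ≪≫ₗ
        AlgebraTensorModule.congr (LinearEquiv.refl L L) (D.isoN.restrictScalars R)).symm
    exact GrothLib.ProjLocal.free_of_projective (R := L) (P := NC)
  · haveI : (IsLocalRing.maximalIdeal L).LiesOver rr :=
      ⟨(IsLocalization.AtPrime.under_maximalIdeal L rr).symm⟩
    exact finitePresentation_baseChange rr D hk L hu (IsLocalRing.maximalIdeal L) C NC (TensorProduct.mk S C N 1)
      (TensorProduct.isBaseChange S N C)

set_option maxHeartbeats 1600000 in
/-- A module flat at a point is free and finitely presented over the local ring of an étale neighbourhood of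
the base, after étale localization. -/
theorem exists_free_after_etale {R S : Type u} [CommRing R] [CommRing S] [Algebra R S] [Algebra.FiniteType R S]
    (N : Type u) [AddCommGroup N] [Module S N] [Module R N] [IsScalarTower R S N] [Module.Finite S N]
    (p : Ideal R) [p.IsPrime] (q : Ideal S) [q.IsPrime] [q.LiesOver p] (hflat : FlatAt R q N) :
    ∃ (R' S' : Type u) (_ : CommRing R') (_ : CommRing S') (_ : Algebra R R') (_ : Algebra S S') (_ : Algebra R' S')
      (_ : Algebra R S') (_ : IsScalarTower R R' S') (_ : IsScalarTower R S S')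
      (p' : Ideal R') (q' : Ideal S') (_ : p'.IsPrime) (_ : q'.IsPrime),
      FlatCA.IsEtaleNhd R R' p p' ∧ FlatCA.IsEtaleNhd S S' q q' ∧ q'.LiesOver p' ∧
      Module.Free (Localization.AtPrime p') ((Localization.AtPrime p' ⊗[R'] S') ⊗[S'] (S' ⊗[S] N)) ∧
      Module.FinitePresentation (Localization.AtPrime p' ⊗[R'] S')
        ((Localization.AtPrime p' ⊗[R'] S') ⊗[S'] (S' ⊗[S] N)) := by
  by_cases hann : Module.annihilator S N ≤ q
  · obtain ⟨R', S', _, _, _, _, _, _, _, _, p', q', _, _, hR, hS, hqp, hdev⟩ :=
      GrothLib.RG6.Dev.exists_completeDevissage_etale N p q hann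
    haveI : Algebra.Etale R R' := hR.1
    haveI : Algebra.Etale S S' := hS.1
    haveI : Algebra.FiniteType R S' := Algebra.FiniteType.trans (S := S) inferInstance inferInstance
    haveI : Algebra.FiniteType R' S' := Algebra.FiniteType.of_restrictScalars_finiteType R R' S'
    let N' := S' ⊗[S] N
    obtain ⟨D, ⟨𝒜⟩⟩ := hdev N' (TensorProduct.mk S S' N 1) (TensorProduct.isBaseChange S N S')
    obtain ⟨hqo, -⟩ := hS.2
    have hflat' : FlatAt R' q' N' := by
      refine (GrothLib.RG6.Dev.flatAt_etale (R := R) (R' := R') (S := S) (S' := S') (TensorProduct.mk S S' N 1)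
        (TensorProduct.isBaseChange S N S') q').1 ?_
      have key : ∀ (J : Ideal S) (_ : J.IsPrime), J = q → FlatAt R J N := by
        rintro J hJ rfl; exact hflat
      exact key _ inferInstance hqo.over.symm
    exact ⟨R', S', inferInstance, inferInstance, inferInstance, inferInstance, inferInstance, inferInstance, inferInstance,
      inferInstance, p', q', inferInstance, inferInstance, hR, hS, hqp, free_local p' D (killed_of_flatAt D 𝒜 hflat')⟩
  · obtain ⟨s, hs, hsq⟩ := SetLike.not_le_iff_exists.1 hann
    let S' := Localization.Away s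
    have hd : Disjoint (Submonoid.powers s : Set S) q := Set.disjoint_left.2 fun x hx hxq => by
      obtain ⟨k, rfl⟩ := hx
      exact hsq (‹q.IsPrime›.mem_of_pow_mem k hxq)
    let q' := q.map (algebraMap S S')
    haveI : q'.IsPrime := IsLocalization.isPrime_of_isPrime_disjoint (Submonoid.powers s) S' q inferInstance hd
    have hq' : q'.comap (algebraMap S S') = q :=
      IsLocalization.under_map_of_isPrime_disjoint (Submonoid.powers s) S' ‹_› hd
    haveI : Subsingleton (S' ⊗[S] N) := ⟨fun a b => by
      have h0 : ∀ z : S' ⊗[S] N, z = 0 := fun z => by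
        induction z using TensorProduct.induction_on with
        | zero => rfl
        | add a b ha hb => rw [ha, hb, add_zero]
        | tmul a n =>
          obtain ⟨u, hu⟩ := IsLocalization.Away.algebraMap_isUnit (S := S') s
          rw [show a = s • (↑u⁻¹ * a) by rw [Algebra.smul_def, ← hu, Units.mul_inv_cancel_left],
            TensorProduct.smul_tmul, Module.mem_annihilator.1 hs n, TensorProduct.tmul_zero]
      rw [h0 a, h0 b]⟩
    haveI : Subsingleton ((Localization.AtPrime p ⊗[R] S') ⊗[S'] (S' ⊗[S] N)) := ⟨fun a b => by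
      have h0 : ∀ z : (Localization.AtPrime p ⊗[R] S') ⊗[S'] (S' ⊗[S] N), z = 0 := fun z => by
        induction z using TensorProduct.induction_on with
        | zero => rfl
        | add a b ha hb => rw [ha, hb, add_zero]
        | tmul a n => rw [Subsingleton.elim n 0, TensorProduct.tmul_zero]
      rw [h0 a, h0 b]⟩
    exact ⟨R, S', inferInstance, inferInstance, Algebra.id R, inferInstance, inferInstance, inferInstance, inferInstance,
      inferInstance, p, q', inferInstance, inferInstance, GrothLib.RG6.Dev.isEtaleNhd_refl R p,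
      GrothLib.RG6.Dev.isEtaleNhd_away S' s q q' hq',
      ⟨by
        show p = q'.comap (algebraMap R S')
        rw [IsScalarTower.algebraMap_eq R S S', ← Ideal.comap_comap, hq']
        exact q.over_def p⟩,
      inferInstance, inferInstance⟩

end GrothLib.RGProj13
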