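import Groth.Agent.Lib.RGProj13.Open
import Groth.Agent.Lib.SmoothLocal6.Cover
import Groth.Agent.Lib.SecSeries.SmoothSection

/-!
# Smooth algebras with a section and geometrically integral fibres over noetherian rings
-/

set_option autoImplicit false
set_option linter.style.haveILetI false

universe u

open TensorProduct

namespace GrothLib.RGProj13

/-- Projectivity is local on the base. -/
theorem projective_of_local {R M : Type u} [CommRing R] [AddCommGroup M] [Module R M]
    (h : ∀ (p : Ideal R) [p.IsPrime], ∃ f ∉ p,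
      Module.Projective (Localization.Away f) (Localization.Away f ⊗[R] M)) : Module.Projective R M := by
  classical
  let s : Set R := {f | Module.Projective (Localization.Away f) (Localization.Away f ⊗[R] M)}
  have hs : Ideal.span s = ⊤ := by
    by_contra hne
    obtain ⟨m, hm, hle⟩ := Ideal.exists_le_maximal _ hne
    haveI := hm.isPrime
    obtain ⟨f, hf, hP⟩ := h m
    exact hf (hle (Ideal.subset_span hP))
  obtain ⟨s', hs', hspan⟩ := (Ideal.span_eq_top_iff_finite s).1 hs
  exact GrothLib.SmoothLocal6.projective_of_away M (fun x : s' => (x : R))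
    (by rw [Subtype.range_coe_subtype]; exact hspan) fun x => hs' x.2

/-- The conormal module of a section of a formally smooth algebra with free differentials. -/
theorem exists_cotangent_equiv {A B C : Type u} [CommRing A] [CommRing B] [CommRing C] [Algebra A B]
    [Algebra A C] [Algebra B C] [IsScalarTower A B C] [Algebra.FormallySmooth A B] [Algebra.FormallySmooth A C]
    [Algebra.FormallyUnramified A C] [Module.Free B Ω[B⁄A]] [Module.Finite B Ω[B⁄A]]
    (hsurj : Function.Surjective (algebraMap B C)) :
    ∃ (d : ℕ) (e : (RingHom.ker (algebraMap B C)).Cotangent ≃+ (Fin d → C)),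
      ∀ (b : B) x, e (b • x) = algebraMap B C b • e x := by
  let K := KaehlerDifferential.kerCotangentToTensor A B C
  have hinj : Function.Injective K := by
    obtain ⟨l, hl⟩ := (Algebra.FormallySmooth.iff_split_injection (R := A) (P := B) (A := C) hsurj).1 inferInstance
    exact Function.LeftInverse.injective (g := l) fun x => LinearMap.congr_fun hl x
  have hsur : Function.Surjective K := fun x =>
    (KaehlerDifferential.exact_kerCotangentToTensor_mapBaseChange A B C hsurj x).1 (Subsingleton.elim _ _)
  let ι := Module.Free.ChooseBasisIndex B Ω[B⁄A]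
  let eΩ : C ⊗[B] Ω[B⁄A] ≃ₗ[C] (Fin (Fintype.card ι) → C) :=
    (((Module.Free.chooseBasis B Ω[B⁄A]).baseChange C).reindex (Fintype.equivFin ι)).equivFun
  let e := (LinearEquiv.ofBijective K ⟨hinj, hsur⟩).toAddEquiv.trans eΩ.toAddEquiv
  refine ⟨_, e, fun b x => ?_⟩
  show eΩ (K (b • x)) = algebraMap B C b • eΩ (K x)
  rw [map_smul, ← map_smul eΩ, algebraMap_smul]

/-- Elements congruent to one modulo the kernel of a section act injectively after tensoring. -/
theorem eq_zero_of_smul_eq_zero {A B : Type u} [CommRing A] [CommRing B] [Algebra A B]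
    [Algebra.FinitePresentation A B] [Module.Flat A B] (hfib : FlatCA.GeomIntegralFibres A B) (u : B →ₐ[A] A)
    (g : B) (hg : u g = 1) (Q : Type u) [AddCommGroup Q] [Module A Q] (w : B ⊗[A] Q) (hw : g • w = 0) : w = 0 := by
  let inc : B →ₗ[B] (Fin 1 → B) := LinearMap.single B (fun _ : Fin 1 => B) 0
  obtain ⟨t, ⟨a, ha, hat⟩, htz⟩ := GrothLib.RG6.exists_mem_smul_eq_zero hfib ⊥ g
    (fun p' hp _ => GrothLib.RG6.fibreNonzero_of_prime p' (p'.comap u)
      (Ideal.ext fun a => by simp [Ideal.mem_comap, u.commutes]) fun h => hp.ne_top ((Ideal.eq_top_iff_one _).2 (hg ▸ h)))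
    Q (AlgebraTensorModule.rTensor A Q inc w) (by rw [← map_smul, hw, map_zero])
  rw [Submonoid.mem_bot.mp ha, map_one] at hat
  rw [← hat, one_smul] at htz
  let pr : (Fin 1 → B) →ₗ[B] B := LinearMap.proj 0
  have h2 := congrArg (AlgebraTensorModule.rTensor A Q pr) htz
  rw [map_zero] at h2
  have h3 : ∀ v : B ⊗[A] Q,
      AlgebraTensorModule.rTensor A Q pr (AlgebraTensorModule.rTensor A Q inc v) = v := fun v => by
    induction v using TensorProduct.induction_on with
    | zero => simp
    | tmul b q => simp [inc, pr]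
    | add x y hx hy => simp only [map_add, hx, hy]
  rwa [h3] at h2

/-- Flat Mittag-Leffler from a section with free conormal module. -/
theorem flatML_of_free {A B : Type u} [CommRing A] [IsNoetherianRing A] [CommRing B] [Algebra A B]
    [Algebra.Smooth A B] (hfib : FlatCA.GeomIntegralFibres A B) (σ : B →ₐ[A] A) (d : ℕ)
    (e : (RingHom.ker σ.toRingHom).Cotangent ≃ₗ[A] (Fin d → A)) :
    Module.Flat A B ∧ CAlg.IsMittagLeffler A B := by
  let I := RingHom.ker σ.toRingHom
  obtain ⟨E⟩ := GrothLib.SecSeries.MvLevels.nonempty_equiv_of_smooth σ e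
  obtain ⟨hF, hM⟩ := flatML_powerSeries A d
  let f : B →ₗ[A] MvPowerSeries (Fin d) A := E.toLinearMap ∘ₗ (AdicCompletion.of I B).restrictScalars A
  have hf : FlatCA.UnivInj A f := by
    refine univInj_of_factors I f (fun n => ?_)
      fun r hr Q _ _ w hw => eq_zero_of_smul_eq_zero hfib σ (1 - r) ?_ Q w hw
    · refine ⟨(Submodule.Quotient.restrictScalarsEquiv A (I ^ n)).symm.toLinearMap ∘ₗ
        ((AdicCompletion.evalₐ I n).toLinearMap.restrictScalars A) ∘ₗ E.symm.toLinearMap, LinearMap.ext fun x => ?_⟩
      simp only [f, LinearMap.comp_apply, AlgEquiv.toLinearMap_apply, AlgEquiv.symm_apply_apply]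
      rfl
    · rw [map_sub, map_one, show σ r = 0 from hr, sub_zero]
  haveI := hF
  exact ⟨flat_of_univInj f hf, ml_of_univInj f hf hM⟩

theorem projective_of_section {A B : Type u} [CommRing A] [IsNoetherianRing A] [CommRing B] [Algebra A B]
    [Algebra.Smooth A B] (hgi : FlatCA.GeomIntegralFibres A B) (σ : B →ₐ[A] A) : Module.Projective A B := by
  refine projective_of_local fun p _ => ?_
  let q : Ideal B := p.comap σ
  haveI : Algebra.IsSmoothAt A q := by
    have : (⟨q, inferInstance⟩ : PrimeSpectrum B) ∈ Algebra.smoothLocus A B :=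
      Algebra.smoothLocus_eq_univ (R := A) (A := B) ▸ Set.mem_univ _
    exact this
  obtain ⟨g₀, hg₀, hstd⟩ := Algebra.IsSmoothAt.exists_notMem_isStandardSmooth A q
  let f := σ g₀
  refine ⟨f, hg₀, ?_⟩
  let A' := Localization.Away f
  let B1 := Localization.Away g₀
  let B2 := Localization.Away (algebraMap A B1 f)
  haveI : IsLocalization.Away (algebraMap B B1 (algebraMap A B f)) B2 := by
    rw [← IsScalarTower.algebraMap_apply]; infer_instance
  haveI : IsLocalization.Away (g₀ * algebraMap A B f) B2 := IsLocalization.Away.mul' B1 B2 g₀ (algebraMap A B f)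
  haveI := hstd
  haveI : Algebra.IsStandardSmooth B1 B2 := Algebra.IsStandardSmooth.localization_away (algebraMap A B1 f)
  haveI : Algebra.IsStandardSmooth A B2 := Algebra.IsStandardSmooth.trans A B1 B2
  have hu : IsUnit (algebraMap A B2 f) := by
    rw [IsScalarTower.algebraMap_apply A B1 B2]; exact IsLocalization.Away.algebraMap_isUnit _
  letI : Algebra A' B2 := (IsLocalization.Away.lift (S := A') f hu).toAlgebra
  haveI : IsScalarTower A A' B2 :=
    IsScalarTower.of_algebraMap_eq fun r => (IsLocalization.Away.lift_eq f hu r).symm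
  let σA : B →+* A' := (algebraMap A A').comp σ.toRingHom
  have hu1 : IsUnit (σA g₀) := IsLocalization.Away.algebraMap_isUnit f
  let σ1 : B1 →+* A' := IsLocalization.Away.lift g₀ hu1
  have hσ1 : ∀ r, σ1 (algebraMap A B1 r) = algebraMap A A' r := fun r => by
    rw [IsScalarTower.algebraMap_apply A B B1, IsLocalization.Away.lift_eq]
    exact congrArg (algebraMap A A') (σ.commutes r)
  have hu2 : IsUnit (σ1 (algebraMap A B1 f)) := by
    rw [hσ1]; exact IsLocalization.Away.algebraMap_isUnit f
  let σ2 : B2 →+* A' := IsLocalization.Away.lift (algebraMap A B1 f) hu2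
  have hσ2 : ∀ r, σ2 (algebraMap A B2 r) = algebraMap A A' r := fun r => by
    rw [IsScalarTower.algebraMap_apply A B1 B2, IsLocalization.Away.lift_eq, hσ1]
  have hsec : σ2.comp (algebraMap A' B2) = RingHom.id A' := by
    refine IsLocalization.ringHom_ext (Submonoid.powers f) (RingHom.ext fun r => ?_)
    show σ2 (algebraMap A' B2 (algebraMap A A' r)) = algebraMap A A' r
    rw [← IsScalarTower.algebraMap_apply, hσ2]
  let σ' : B2 →ₐ[A'] A' := { σ2 with commutes' := fun a => RingHom.congr_fun hsec a }
  have hg : FibrewiseDense f g₀ := fun p' hp' hf =>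
    ⟨p'.comap σ, inferInstance, Ideal.ext fun a => by simp [Ideal.mem_comap, σ.commutes], hf⟩
  haveI : Algebra.FormallyUnramified A A' := Algebra.FormallyUnramified.of_isLocalization (Submonoid.powers f)
  haveI : Algebra.FormallySmooth A A' := Algebra.FormallySmooth.of_isLocalization (Submonoid.powers f)
  haveI : Algebra.FinitePresentation A B2 := inferInstance
  haveI : Algebra.FormallySmooth A B2 := inferInstance
  haveI : Algebra.FiniteType A' B2 := Algebra.FiniteType.of_restrictScalars_finiteType A A' B2
  haveI : IsNoetherianRing A' := IsLocalization.isNoetherianRing (Submonoid.powers f) A' inferInstance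
  haveI : Algebra.Smooth A' B2 :=
    ⟨Algebra.FormallySmooth.of_restrictScalars (R := A) (A := A') (B := B2),
      Algebra.FinitePresentation.of_finiteType.1 inferInstance⟩
  have hgi2 : FlatCA.GeomIntegralFibres A' B2 :=
    geomIntegralFibres_open A' B2 f (g₀ * algebraMap A B f) hgi hg.mul
  obtain ⟨d, e, he⟩ := by
    letI : Algebra B2 A' := σ2.toAlgebra
    haveI : IsScalarTower A B2 A' := IsScalarTower.of_algebraMap_eq fun r => (hσ2 r).symm
    exact exists_cotangent_equiv (A := A) (B := B2) (C := A') fun a => ⟨algebraMap A' B2 a, RingHom.congr_fun hsec a⟩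
  let e' : (RingHom.ker σ'.toRingHom).Cotangent ≃ₗ[A'] (Fin d → A') :=
    { e with
      map_smul' := fun a x => by
        rw [← algebraMap_smul B2 a x]
        exact (he _ x).trans (congrArg (· • e x) (RingHom.congr_fun hsec a)) }
  obtain ⟨hfl, hml⟩ := flatML_of_free hgi2 σ' d e'
  haveI := hfl
  exact projective_open A' B2 f (g₀ * algebraMap A B f) hgi hg.mul hml

end GrothLib.RGProj13
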