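import Groth.Agent.Lib.RGProj13.FlatML
import Groth.Agent.Lib.RG6.GenericBasis
import Groth.Agent.Lib.RG6.Geom.Base

/-!
# Fibrewise dense principal opens of algebras with geometrically integral fibres
-/

set_option autoImplicit false
set_option linter.style.haveILetI false

universe u

open TensorProduct

namespace GrothLib.RGProj13

variable {R B : Type u} [CommRing R] [CommRing B] [Algebra R B]

/-- Geometrically integral fibres are domains after any extension to a field. -/
theorem isDomain_tensor (hgi : FlatCA.GeomIntegralFibres R B) (K : Type u) [Field K] [Algebra R K] :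
    IsDomain (K ⊗[R] B) := by
  have sq := AlgebraicGeometry.isPullback_SpecMap_of_isPushout _ _ _ _
    (CommRingCat.isPushout_tensorProduct R K B)
  have hI : AlgebraicGeometry.IsIntegral (AlgebraicGeometry.Spec (CommRingCat.of (K ⊗[R] B))) :=
    AlgebraicGeometry.GeometricallyIntegral.geometrically_isIntegral
      (f := AlgebraicGeometry.Spec.map (CommRingCat.ofHom (algebraMap R B))) _ _ _ sq.flip
  exact (AlgebraicGeometry.affine_isIntegral_iff (CommRingCat.of (K ⊗[R] B))).1 hI

/-- `g` avoids, over each prime of `R` outside `f`, some prime of `B`. -/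
def FibrewiseDense (f : R) (g : B) : Prop :=
  ∀ (p : Ideal R) [p.IsPrime], f ∉ p → ∃ Q : Ideal B, Q.IsPrime ∧ Q.comap (algebraMap R B) = p ∧ g ∉ Q

theorem FibrewiseDense.mul {f : R} {g : B} (h : FibrewiseDense f g) : FibrewiseDense f (g * algebraMap R B f) := by
  intro p _ hf
  obtain ⟨Q, hQ, hQp, hg⟩ := h p hf
  exact ⟨Q, hQ, hQp, fun hm => (hQ.mem_or_mem hm).elim hg fun h1 => hf (hQp ▸ h1)⟩

/-- A point of the base and one of the fibre over it have a common point in every field extension. -/
theorem tmul_ne_zero (f : R) (g : B) (hg : FibrewiseDense f g) (L : Type u) [Field L] [Algebra R L]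
    (hf : algebraMap R L f ≠ 0) : (1 : L) ⊗ₜ[R] g ≠ 0 := by
  let p := RingHom.ker (algebraMap R L)
  haveI : p.IsPrime := RingHom.ker_isPrime _
  obtain ⟨Q, hQ, hQp, hgQ⟩ := hg p hf
  haveI := hQ
  haveI : Q.LiesOver p := ⟨hQp.symm⟩
  let k := p.ResidueField
  let a : k →+* L := Ideal.ResidueField.lift p (algebraMap R L) le_rfl fun r hr => isUnit_iff_ne_zero.2 hr
  let b : k →+* Q.ResidueField := (Ideal.ResidueField.mapₐ p Q (Algebra.ofId R B) (Ideal.LiesOver.over (p := p) (P := Q))).toRingHom
  letI : Algebra k L := a.toAlgebra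
  letI : Algebra k Q.ResidueField := b.toAlgebra
  haveI : IsScalarTower R k L := IsScalarTower.of_algebraMap_eq fun r => (Ideal.ResidueField.lift_algebraMap _ _ _ _ r).symm
  haveI : IsScalarTower R k Q.ResidueField := IsScalarTower.of_algebraMap_eq fun r =>
    ((Ideal.ResidueField.mapₐ p Q (Algebra.ofId R B) (Ideal.LiesOver.over (p := p) (P := Q))).commutes r).symm
  let T := L ⊗[k] Q.ResidueField
  let φ : L ⊗[R] B →ₐ[R] T := Algebra.TensorProduct.lift
    ((Algebra.TensorProduct.includeLeft : L →ₐ[k] T).restrictScalars R)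
    (((Algebra.TensorProduct.includeRight : Q.ResidueField →ₐ[k] T).restrictScalars R).comp
      (IsScalarTower.toAlgHom R B Q.ResidueField)) fun _ _ => Commute.all _ _
  intro h0
  have h1 := congrArg φ h0
  simp only [φ, Algebra.TensorProduct.lift_tmul, map_one, one_mul, map_zero] at h1
  exact hgQ (Ideal.algebraMap_residueField_eq_zero.1
    ((map_eq_zero_iff _ (Algebra.TensorProduct.includeRight (R := k) (A := L) (B := Q.ResidueField)).toRingHom.injective).1 h1))

theorem isDomain_localization_away {S : Type u} [CommRing S] [IsDomain S] {x : S} (hx : x ≠ 0) :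
    IsDomain (Localization.Away x) :=
  IsLocalization.isDomain_localization (powers_le_nonZeroDivisors_of_noZeroDivisors hx)

variable (A' B' : Type u) [CommRing A'] [CommRing B'] [Algebra R A'] [Algebra R B'] [Algebra B B']
  [Algebra A' B'] [IsScalarTower R B B'] [IsScalarTower R A' B'] (f : R) (g : B)
  [IsLocalization.Away f A'] [IsLocalization.Away g B']

/-- A fibrewise dense principal open has geometrically integral fibres. -/
theorem geomIntegralFibres_open (hgi : FlatCA.GeomIntegralFibres R B) (hg : FibrewiseDense f g) :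
    FlatCA.GeomIntegralFibres A' B' := by
  refine GrothLib.RG6.Geom.geomIntegralFibres_of_isDomain fun L _ _ => ?_
  letI : Algebra R L := ((algebraMap A' L).comp (algebraMap R A')).toAlgebra
  haveI : IsScalarTower R A' L := IsScalarTower.of_algebraMap_eq fun _ => rfl
  haveI := isDomain_tensor hgi L
  have hne : (1 : L) ⊗ₜ[R] g ≠ 0 := tmul_ne_zero f g hg L
    (((IsLocalization.Away.algebraMap_isUnit (S := A') f).map (algebraMap A' L)).ne_zero)
  haveI := isDomain_localization_away hne
  exact GrothLib.RG6.Geom.isDomain_tensor_of_localization f g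

/-- The base change to the open of the base injects universally into the open. -/
theorem univInj_open [Algebra.FinitePresentation R B] [Module.Flat R B]
    (hgi : FlatCA.GeomIntegralFibres R B) (hg : FibrewiseDense f g) :
    FlatCA.UnivInj A' (Algebra.TensorProduct.lift (Algebra.ofId A' B') (IsScalarTower.toAlgHom R B B')
      fun _ _ => Commute.all _ _ : A' ⊗[R] B →ₐ[A'] B').toLinearMap := by
  intro Q _ _
  letI : Module R Q := Module.compHom Q (algebraMap R A')
  haveI : IsScalarTower R A' Q := IsScalarTower.of_algebraMap_smul fun _ _ => rfl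
  let φ : A' ⊗[R] B →ₐ[A'] B' := Algebra.TensorProduct.lift (Algebra.ofId A' B') (IsScalarTower.toAlgHom R B B')
    fun _ _ => Commute.all _ _
  let α : B ⊗[R] Q →ₗ[B] B' ⊗[R] Q := AlgebraTensorModule.rTensor R Q (Algebra.linearMap B B')
  haveI : IsLocalizedModule (Submonoid.powers g) (Algebra.linearMap B B') :=
    (isLocalizedModule_iff_isLocalization' (Submonoid.powers g) B').2 inferInstance
  haveI : IsLocalizedModule (Submonoid.powers g) α := IsLocalizedModule.rTensor B (Submonoid.powers g) (Algebra.linearMap B B')
  have hα : Function.Injective α := by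
    refine (injective_iff_map_eq_zero α).2 fun w hw => ?_
    obtain ⟨⟨_, k, rfl⟩, hk⟩ := (IsLocalizedModule.eq_zero_iff (Submonoid.powers g) α).1 hw
    let inc : B →ₗ[B] (Fin 1 → B) := LinearMap.single B (fun _ : Fin 1 => B) 0
    obtain ⟨t, ⟨a, ha, hat⟩, htz⟩ := GrothLib.RG6.exists_mem_smul_eq_zero hgi (Submonoid.powers f) (g ^ k)
      (fun p' hp hdis => by
        obtain ⟨Q', hQ', hQp, hgQ⟩ := hg p' (Set.disjoint_right.1 hdis (Submonoid.mem_powers f))
        haveI := hQ'
        exact GrothLib.RG6.fibreNonzero_of_prime p' Q' hQp fun h => hgQ (hQ'.mem_of_pow_mem k h))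
      Q (AlgebraTensorModule.rTensor R Q inc w)
      (by rw [← map_smul, show g ^ k • w = 0 from hk, map_zero])
    obtain ⟨j, rfl⟩ := ha
    let pr : (Fin 1 → B) →ₗ[B] B := LinearMap.proj 0
    have h2 := congrArg (AlgebraTensorModule.rTensor R Q pr) htz
    rw [map_zero, map_smul] at h2
    have h3 : ∀ v : B ⊗[R] Q,
        AlgebraTensorModule.rTensor R Q pr (AlgebraTensorModule.rTensor R Q inc v) = v := fun v => by
      induction v using TensorProduct.induction_on with
      | zero => simp
      | tmul b q => simp [inc, pr]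
      | add x y hx hy => simp only [map_add, hx, hy]
    rw [h3, ← hat] at h2
    have hu : IsUnit (algebraMap R A' (f ^ j)) := by
      rw [map_pow]; exact (IsLocalization.Away.algebraMap_isUnit f).pow j
    obtain ⟨u, hu⟩ := hu
    let m : A' → Q →ₗ[R] Q := fun c => DistribSMul.toLinearMap R Q c
    have h4 : ∀ v : B ⊗[R] Q, (m (↑u⁻¹ : A')).lTensor B (algebraMap R B (f ^ j) • v) = v := fun v => by
      induction v using TensorProduct.induction_on with
      | zero => simp
      | tmul b q =>
        rw [algebraMap_smul, ← TensorProduct.tmul_smul, LinearMap.lTensor_tmul]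
        congr 1
        show (↑u⁻¹ : A') • (algebraMap R A' (f ^ j) • q) = q
        rw [← hu, smul_smul, Units.inv_mul, one_smul]
      | add x y hx hy => rw [smul_add, map_add, hx, hy]
    rw [← h4 w, h2, map_zero]
  let e : Q ⊗[A'] (A' ⊗[R] B) ≃ₗ[R] B ⊗[R] Q :=
    (AlgebraTensorModule.cancelBaseChange R A' A' Q B).restrictScalars R ≪≫ₗ TensorProduct.comm R Q B
  let e' : Q ⊗[A'] B' ≃ₗ[R] B' ⊗[R] Q :=
    (IsLocalization.moduleTensorEquiv (Submonoid.powers f) A' Q B').restrictScalars R ≪≫ₗ TensorProduct.comm R Q B'
  have key : ∀ x, e' (φ.toLinearMap.lTensor Q x) = α (e x) := by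
    intro x
    induction x using TensorProduct.induction_on with
    | zero => simp
    | add a b ha hb => simp only [map_add, ha, hb]
    | tmul q y =>
      induction y using TensorProduct.induction_on with
      | zero => simp
      | add a b ha hb => simp only [tmul_add, map_add, ha, hb]
      | tmul a b =>
        apply e'.symm.injective
        rw [LinearEquiv.symm_apply_apply, LinearMap.lTensor_tmul]
        show q ⊗ₜ[A'] (algebraMap A' B' a * algebraMap B B' b) = e'.symm (algebraMap B B' b ⊗ₜ[R] (a • q))
        rw [← Algebra.smul_def, ← TensorProduct.smul_tmul]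
        rw [LinearEquiv.eq_symm_apply]
        rfl
  intro x y hxy
  exact e.injective (hα ((key x).symm.trans ((congrArg e' hxy).trans (key y))))

/-- Projectivity over an open of the base from a flat Mittag-Leffler fibrewise dense open. -/
theorem projective_open [Algebra.FinitePresentation R B] [Module.Flat R B] [Module.Flat A' B']
    (hgi : FlatCA.GeomIntegralFibres R B) (hg : FibrewiseDense f g) (hml : CAlg.IsMittagLeffler A' B') :
    Module.Projective A' (A' ⊗[R] B) :=
  projective_of_univInj A' (A' ⊗[R] B) _ (univInj_open A' B' f g hgi hg) hml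

end GrothLib.RGProj13
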