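import Groth.Agent.Lib.RGProj13.PureEndo
import Groth.Agent.Lib.WeakAssFib.Fibre

/-!
Projectivity on an open piece of the base change to an étale neighbourhood of the base.
-/

set_option autoImplicit false
set_option linter.style.haveILetI false
universe u

open TensorProduct
open AlgebraicGeometry CategoryTheory

namespace GrothLib.RGProj13

attribute [local instance] Algebra.TensorProduct.rightAlgebra

/-- An element with prescribed support, regular on a fibre, outside a prime. -/
theorem exists_regular_in_open {S₀ A B : Type u} [CommRing S₀] [CommRing A] [CommRing B] [Algebra A B]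
    [Algebra.FiniteType A B] [Algebra S₀ B] [Algebra.Etale S₀ B] (M : Type u) [AddCommGroup M] [Module B M] [Module A M]
    [IsScalarTower A B M] [Module.Finite B M] (p : Ideal A) [p.IsPrime] (Q : Ideal B) [Q.IsPrime] :
    ∃ h : S₀, algebraMap S₀ B h ∉ Q ∧
      (PrimeSpectrum.basicOpen h : Set (PrimeSpectrum S₀)) ⊆ Set.range (PrimeSpectrum.comap (algebraMap S₀ B)) ∧
      Function.Injective (((LinearMap.lsmul B M (algebraMap S₀ B h)).restrictScalars A).lTensor p.ResidueField) := by
  classical
  have hO : IsOpen (Set.range (PrimeSpectrum.comap (algebraMap S₀ B))) :=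
    (PrimeSpectrum.isOpenMap_comap_of_hasGoingDown_of_finitePresentation (R := S₀) (S := B)).isOpen_range
  obtain ⟨J, hJ⟩ := (PrimeSpectrum.isClosed_iff_zeroLocus_ideal _).1 hO.isClosed_compl
  haveI : IsNoetherianRing (p.Fiber B) := Algebra.FiniteType.isNoetherianRing p.ResidueField _
  haveI : Module.Finite (p.Fiber B) (FlatCA.fiberMod p B M) :=
    inferInstanceAs (Module.Finite (p.Fiber B) ((p.Fiber B) ⊗[B] M))
  let T : Finset (Ideal S₀) := insert (Q.comap (algebraMap S₀ B))
    ((associatedPrimes.finite (p.Fiber B) (FlatCA.fiberMod p B M)).toFinset.image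
      fun P => (P.comap (GrothLib.WeakAssFib.toFib p)).comap (algebraMap S₀ B))
  have hT : ∀ a ∈ T, a.IsPrime ∧ ¬ J ≤ a := by
    intro a ha
    obtain ⟨b, hb, rfl⟩ : ∃ b : Ideal B, b.IsPrime ∧ b.comap (algebraMap S₀ B) = a := by
      rcases Finset.mem_insert.1 ha with rfl | ha
      · exact ⟨Q, inferInstance, rfl⟩
      · obtain ⟨P, hP, rfl⟩ := Finset.mem_image.1 ha
        rw [Set.Finite.mem_toFinset] at hP
        haveI := hP.isPrime
        exact ⟨P.comap (GrothLib.WeakAssFib.toFib p), inferInstance, rfl⟩
    refine ⟨inferInstance, fun hle => ?_⟩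
    have hmem : (⟨b.comap (algebraMap S₀ B), inferInstance⟩ : PrimeSpectrum S₀) ∈ PrimeSpectrum.zeroLocus (J : Set S₀) := hle
    rw [← hJ] at hmem
    exact hmem ⟨⟨b, hb⟩, rfl⟩
  obtain ⟨h, hhJ, hh⟩ : ∃ h ∈ J, ∀ a ∈ T, h ∉ a := by
    by_contra hcon
    push Not at hcon
    have hsub : (J : Set S₀) ⊆ ⋃ a ∈ (↑T : Set (Ideal S₀)), (id a : Ideal S₀) := fun x hx => by
      obtain ⟨a, ha, hxa⟩ := hcon x hx
      exact Set.mem_biUnion ha hxa
    obtain ⟨a, ha, hle⟩ := (Ideal.subset_union_prime ⊥ ⊥ (fun a ha _ _ => (hT a ha).1)).1 hsub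
    exact (hT a ha).2 hle
  refine ⟨h, fun hq => hh _ (Finset.mem_insert_self _ _) hq, fun x hx => ?_, ?_⟩
  · by_contra hxr
    have : x ∈ (Set.range (PrimeSpectrum.comap (algebraMap S₀ B)))ᶜ := hxr
    rw [hJ] at this
    exact hx (this hhJ)
  · obtain ⟨e, he⟩ := GrothLib.WeakAssFib.exists_fibreEquiv p (S := B) M
    let g := algebraMap S₀ B h
    have hreg : ∀ z : FlatCA.fiberMod p B M, GrothLib.WeakAssFib.toFib p g • z = 0 → z = 0 := by
      intro z hz
      by_contra hne
      have hmem : GrothLib.WeakAssFib.toFib p g ∈ ⋃ P ∈ associatedPrimes (p.Fiber B) (FlatCA.fiberMod p B M),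
          (P : Set (p.Fiber B)) := by
        rw [biUnion_associatedPrimes_eq_zero_divisors]
        exact ⟨z, hne, hz⟩
      simp only [Set.mem_iUnion] at hmem
      obtain ⟨P, hP, hgP⟩ := hmem
      refine hh _ (Finset.mem_insert_of_mem (Finset.mem_image.2 ⟨P, ?_, rfl⟩)) hgP
      rw [Set.Finite.mem_toFinset]
      exact hP
    refine (LinearMap.lTensor_inj_iff_rTensor_inj p.ResidueField _).2 ?_
    rw [injective_iff_map_eq_zero]
    intro y hy
    have h1 : g • y = 0 := by
      rw [← hy]
      clear hy
      induction y using TensorProduct.induction_on with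
      | zero => simp
      | add a b ha hb => rw [map_add, smul_add, ha, hb]
      | tmul m q => rfl
    refine e.injective ((hreg (e y) ?_).trans (map_zero e).symm)
    rw [← he, h1, map_zero]

set_option maxHeartbeats 1600000 in
/-- Projectivity on an open piece of the base change to an étale neighbourhood of the base. -/
theorem exists_projective_open {R S : Type u} [CommRing R] [CommRing S] [Algebra R S] [Algebra.FinitePresentation R S]
    (N : Type u) [AddCommGroup N] [Module S N] [Module R N] [IsScalarTower R S N] [Module.FinitePresentation S N]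
    (p : Ideal R) [p.IsPrime] (q : Ideal S) [q.IsPrime] [q.LiesOver p] (hflat : FlatCA.FlatAt R q N) :
    ∃ (R' : Type u) (_ : CommRing R') (_ : Algebra R R') (p' : Ideal R') (_ : p'.IsPrime), FlatCA.IsEtaleNhd R R' p p' ∧
      ∀ (S' N' : Type u) [CommRing S'] [Algebra R S'] [Algebra S S'] [Algebra R' S'] [IsScalarTower R S S'] [IsScalarTower R R' S']
        [Algebra.IsPushout R S R' S']
        [AddCommGroup N'] [Module S' N'] [Module S N'] [IsScalarTower S S' N']
        (f : N →ₗ[S] N'), IsBaseChange S' f →
        ∃ (C : Type u) (_ : CommRing C) (_ : Algebra S' C) (_ : Algebra R' C) (_ : IsScalarTower R' S' C)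
          (x' : Ideal C) (_ : x'.IsPrime),
          IsOpenImmersion (Spec.map (CommRingCat.ofHom (algebraMap S' C))) ∧
          (x'.comap (algebraMap S' C)).LiesOver q ∧ (x'.comap (algebraMap S' C)).LiesOver p' ∧
          Module.Projective R' (RestrictScalars R' C (C ⊗[S'] N')) := by
  classical
  obtain ⟨A, B, _, _, _, _, _, _, _, _, pA, qB, _, _, hpA, hqB, hBA, hproj⟩ := exists_projective_after_etale N p q hflat
  haveI : Algebra.Etale R A := hpA.1
  haveI : Algebra.Etale S B := hqB.1
  haveI : Algebra.FinitePresentation R B := Algebra.FinitePresentation.trans R S B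
  haveI : Algebra.FinitePresentation A B := Algebra.FinitePresentation.of_restrict_scalars_finitePresentation R A B
  let M := B ⊗[S] N
  haveI : Module.Projective A M := Module.Projective.of_equiv
    ({ (RestrictScalars.addEquiv A B M) with
       map_smul' := fun a z => by
        show algebraMap A B a • RestrictScalars.addEquiv A B M z = a • RestrictScalars.addEquiv A B M z
        rw [algebraMap_smul] } : RestrictScalars A B M ≃ₗ[A] M)
  let S₀ := S ⊗[R] A
  let φ : S₀ →ₐ[R] B := Algebra.TensorProduct.lift (IsScalarTower.toAlgHom R S B) (IsScalarTower.toAlgHom R A B)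
    fun _ _ => Commute.all _ _
  letI : Algebra S₀ B := φ.toRingHom.toAlgebra
  haveI : IsScalarTower S S₀ B := IsScalarTower.of_algebraMap_eq fun s => by
    show algebraMap S B s = φ (s ⊗ₜ (1 : A))
    exact ((Algebra.TensorProduct.lift_tmul _ _ _ s (1 : A)).trans (by rw [map_one, mul_one]; rfl)).symm
  haveI : IsScalarTower A S₀ B := IsScalarTower.of_algebraMap_eq fun a => by
    show algebraMap A B a = φ ((1 : S) ⊗ₜ a)
    exact ((Algebra.TensorProduct.lift_tmul _ _ _ (1 : S) a).trans (by rw [map_one, one_mul]; rfl)).symm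
  haveI : Algebra.Etale S S₀ := inferInstance
  haveI : Algebra.Etale S₀ B := Algebra.Etale.of_restrictScalars S S₀ B
  obtain ⟨h, hhQ, hhim, hinj⟩ := exists_regular_in_open (S₀ := S₀) M pA qB
  obtain ⟨t, htp, hD⟩ := exists_projective_away M pA (algebraMap S₀ B h) hinj
  let R3 := Localization.Away t
  let t₀ := algebraMap A S₀ t
  let C := Localization.Away (t₀ * h)
  let D := Localization.Away (algebraMap A B t * algebraMap S₀ B h)
  have hut : IsUnit (algebraMap A C t) := by
    have := IsLocalization.Away.algebraMap_isUnit (S := C) (t₀ * h)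
    rw [map_mul, ← IsScalarTower.algebraMap_apply A S₀ C] at this
    exact isUnit_of_mul_isUnit_left this
  letI : Algebra R3 C := (IsLocalization.Away.lift t hut).toAlgebra
  haveI : IsScalarTower A R3 C := IsScalarTower.of_algebraMap_eq fun r => (IsLocalization.Away.lift_eq t hut r).symm
  have hCD : IsUnit (algebraMap S₀ D (t₀ * h)) := by
    rw [IsScalarTower.algebraMap_apply S₀ B D, map_mul, ← IsScalarTower.algebraMap_apply A S₀ B]
    exact IsLocalization.Away.algebraMap_isUnit _
  letI : Algebra C D := (IsLocalization.Away.lift (t₀ * h) hCD).toAlgebra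
  haveI : IsScalarTower S₀ C D := IsScalarTower.of_algebraMap_eq fun r => (IsLocalization.Away.lift_eq (t₀ * h) hCD r).symm
  letI : Algebra R3 D := ((algebraMap C D).comp (algebraMap R3 C)).toAlgebra
  haveI : IsScalarTower R3 C D := IsScalarTower.of_algebraMap_eq fun _ => rfl
  haveI : IsScalarTower A R3 D := IsScalarTower.of_algebraMap_eq fun r => by
    show algebraMap A D r = algebraMap C D (algebraMap R3 C (algebraMap A R3 r))
    rw [← IsScalarTower.algebraMap_apply A R3 C, IsScalarTower.algebraMap_apply A S₀ C,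
      ← IsScalarTower.algebraMap_apply S₀ C D, IsScalarTower.algebraMap_apply S₀ B D,
      ← IsScalarTower.algebraMap_apply A S₀ B, ← IsScalarTower.algebraMap_apply A B D]
  haveI : IsScalarTower S C D := IsScalarTower.of_algebraMap_eq fun s => by
    rw [IsScalarTower.algebraMap_apply S S₀ C, ← IsScalarTower.algebraMap_apply S₀ C D,
      IsScalarTower.algebraMap_apply S₀ B D, ← IsScalarTower.algebraMap_apply S S₀ B,
      IsScalarTower.algebraMap_apply S B D]
  -- faithfully flat cover of the open
  haveI : Algebra.FinitePresentation B D := IsLocalization.Away.finitePresentation (algebraMap A B t * algebraMap S₀ B h)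
  haveI : Module.Flat B D := IsLocalization.flat D (Submonoid.powers (algebraMap A B t * algebraMap S₀ B h))
  haveI : Module.Flat S₀ D := Module.Flat.trans S₀ B D
  haveI : Module.Flat C D := (Module.flat_iff_of_isLocalization C (Submonoid.powers (t₀ * h)) D).2 inferInstance
  haveI : Module.FaithfullyFlat C D := Module.FaithfullyFlat.of_comap_surjective fun P => by
    have hP : t₀ * h ∉ (PrimeSpectrum.comap (algebraMap S₀ C) P).asIdeal := fun hm =>
      P.2.ne_top (P.asIdeal.eq_top_of_isUnit_mem hm (IsLocalization.Away.algebraMap_isUnit (t₀ * h)))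
    obtain ⟨y, hy⟩ := hhim (show PrimeSpectrum.comap (algebraMap S₀ C) P ∈ PrimeSpectrum.basicOpen h from
      fun hm => hP (Ideal.mul_mem_left _ _ hm))
    have hy' : algebraMap A B t * algebraMap S₀ B h ∉ y.asIdeal := fun hm => hP (by
      rw [← congrArg PrimeSpectrum.asIdeal hy]
      show algebraMap S₀ B (t₀ * h) ∈ y.asIdeal
      rw [map_mul, ← IsScalarTower.algebraMap_apply A S₀ B]
      exact hm)
    obtain ⟨z, hz⟩ : y ∈ Set.range (PrimeSpectrum.comap (algebraMap B D)) := by
      rw [PrimeSpectrum.localization_away_comap_range D (algebraMap A B t * algebraMap S₀ B h)]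
      exact hy'
    refine ⟨z, PrimeSpectrum.localization_comap_injective C (Submonoid.powers (t₀ * h)) ?_⟩
    rw [show (PrimeSpectrum.comap (algebraMap C D) z).comap (algebraMap S₀ C) =
      PrimeSpectrum.comap ((algebraMap C D).comp (algebraMap S₀ C)) z from rfl,
      ← IsScalarTower.algebraMap_eq S₀ C D, IsScalarTower.algebraMap_eq S₀ B D]
    show PrimeSpectrum.comap (algebraMap S₀ B) (PrimeSpectrum.comap (algebraMap B D) z) = _
    rw [hz, hy]
  -- projectivity
  let X := C ⊗[S] N
  haveI : Module.Projective R3 (D ⊗[B] M) := hD D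
  haveI : Module.Projective R3 (D ⊗[C] X) := Module.Projective.of_equiv
    ((AlgebraTensorModule.cancelBaseChange S B D D N).restrictScalars R3 ≪≫ₗ
      (AlgebraTensorModule.cancelBaseChange S C D D N).symm.restrictScalars R3)
  let ι : X →ₗ[R3] D ⊗[C] X := (TensorProduct.mk C D X 1).restrictScalars R3
  have huniv : FlatCA.UnivInj R3 ι := fun Q _ _ => by
    refine (LinearMap.lTensor_inj_iff_rTensor_inj Q ι).2 ?_
    let e := AlgebraTensorModule.assoc R3 C C D X Q
    have he : ∀ y, e (ι.rTensor Q y) = TensorProduct.mk C D (X ⊗[R3] Q) 1 y := fun y => by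
      induction y using TensorProduct.induction_on with
      | zero => simp
      | add a b ha hb => simp only [map_add, ha, hb]
      | tmul x q => simp [e, ι]
    intro a b hab
    exact Module.FaithfullyFlat.tensorProduct_mk_injective (A := C) (B := D) (X ⊗[R3] Q)
      (by rw [← he, ← he, hab])
  haveI : Module.Flat R3 X := flat_of_univInj ι huniv
  haveI : Algebra.FinitePresentation S₀ C := IsLocalization.Away.finitePresentation (t₀ * h)
  haveI : Algebra.FiniteType R S₀ := Algebra.FiniteType.trans (S := S) inferInstance inferInstance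
  haveI : Algebra.FiniteType A S₀ := Algebra.FiniteType.of_restrictScalars_finiteType R A S₀
  haveI : Algebra.FiniteType A C := Algebra.FiniteType.trans (S := S₀) inferInstance inferInstance
  haveI : Algebra.FiniteType R3 C := Algebra.FiniteType.of_restrictScalars_finiteType A R3 C
  haveI : Module.Projective R3 X := GrothLib.ML.projective_of_countable
    (ml_of_univInj ι huniv (GrothLib.ML.ml_of_projective _)) (countablyGenerated_of_finite (B := C))
  -- the points
  have hd : Disjoint (Submonoid.powers t : Set A) pA := Set.disjoint_left.2 fun x hx hxp => by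
    obtain ⟨k, rfl⟩ := hx
    exact htp (‹pA.IsPrime›.mem_of_pow_mem k hxp)
  let p3 := pA.map (algebraMap A R3)
  haveI : p3.IsPrime := IsLocalization.isPrime_of_isPrime_disjoint (Submonoid.powers t) R3 pA inferInstance hd
  have hc3 : p3.comap (algebraMap A R3) = pA :=
    IsLocalization.under_map_of_isPrime_disjoint (Submonoid.powers t) R3 ‹_› hd
  let x₀ := qB.comap (algebraMap S₀ B)
  have hx₀ : t₀ * h ∉ x₀ := fun hm => by
    rcases Ideal.IsPrime.mem_or_mem (Ideal.IsPrime.comap (algebraMap S₀ B)) hm with hm | hm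
    · refine htp ?_
      rw [hBA.over]
      show algebraMap A B t ∈ qB
      rw [IsScalarTower.algebraMap_apply A S₀ B]
      exact hm
    · exact hhQ hm
  have hd0 : Disjoint (Submonoid.powers (t₀ * h) : Set S₀) x₀ := Set.disjoint_left.2 fun x hx hxp => by
    obtain ⟨k, rfl⟩ := hx
    exact hx₀ ((Ideal.IsPrime.comap (algebraMap S₀ B)).mem_of_pow_mem k hxp)
  let x' := x₀.map (algebraMap S₀ C)
  haveI : x'.IsPrime := IsLocalization.isPrime_of_isPrime_disjoint (Submonoid.powers (t₀ * h)) C x₀ inferInstance hd0
  have hcx : x'.comap (algebraMap S₀ C) = x₀ :=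
    IsLocalization.under_map_of_isPrime_disjoint (Submonoid.powers (t₀ * h)) C inferInstance hd0
  refine ⟨R3, inferInstance, inferInstance, p3, inferInstance,
    GrothLib.RG6.Dev.isEtaleNhd_trans hpA (GrothLib.RG6.Dev.isEtaleNhd_away R3 t pA p3 hc3), ?_⟩
  intro S' N' _ _ _ _ _ _ hpush _ _ _ _ f hf
  letI : Algebra A S' := ((algebraMap R3 S').comp (algebraMap A R3)).toAlgebra
  haveI : IsScalarTower A R3 S' := IsScalarTower.of_algebraMap_eq fun _ => rfl
  haveI : IsScalarTower R A S' := IsScalarTower.of_algebraMap_eq fun r => by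
    show algebraMap R S' r = algebraMap R3 S' (algebraMap A R3 (algebraMap R A r))
    rw [← IsScalarTower.algebraMap_apply R A R3, ← IsScalarTower.algebraMap_apply R R3 S']
  let ψ : S₀ →ₐ[R] S' := Algebra.TensorProduct.lift (IsScalarTower.toAlgHom R S S') (IsScalarTower.toAlgHom R A S')
    fun _ _ => Commute.all _ _
  letI : Algebra S₀ S' := ψ.toRingHom.toAlgebra
  haveI : IsScalarTower S S₀ S' := IsScalarTower.of_algebraMap_eq fun s => by
    show algebraMap S S' s = ψ (s ⊗ₜ (1 : A))
    exact ((Algebra.TensorProduct.lift_tmul _ _ _ s (1 : A)).trans (by rw [map_one, mul_one]; rfl)).symm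
  haveI : IsScalarTower A S₀ S' := IsScalarTower.of_algebraMap_eq fun a => by
    show algebraMap A S' a = ψ ((1 : S) ⊗ₜ a)
    exact ((Algebra.TensorProduct.lift_tmul _ _ _ (1 : S) a).trans (by rw [map_one, one_mul]; rfl)).symm
  haveI : IsLocalization (Algebra.algebraMapSubmonoid S₀ (Submonoid.powers t)) S' := by
    haveI h1 : Algebra.IsPushout R A S S₀ := Algebra.IsPushout.symm inferInstance
    haveI h2 : Algebra.IsPushout A R3 S₀ S' :=
      (Algebra.IsPushout.comp_iff R A S S₀).1 (Algebra.IsPushout.symm hpush)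
    exact (Algebra.isLocalization_iff_isPushout (Submonoid.powers t) R3).2 (Algebra.IsPushout.symm h2)
  haveI : IsLocalization.Away t₀ S' := by
    have h := ‹IsLocalization (Algebra.algebraMapSubmonoid S₀ (Submonoid.powers t)) S'›
    rwa [Algebra.algebraMapSubmonoid, Submonoid.map_powers] at h
  have hS'C : IsUnit (algebraMap S₀ C t₀) := by
    rw [← IsScalarTower.algebraMap_apply A S₀ C]
    exact hut
  letI : Algebra S' C := (IsLocalization.Away.lift t₀ hS'C).toAlgebra
  haveI : IsScalarTower S₀ S' C := IsScalarTower.of_algebraMap_eq fun r => (IsLocalization.Away.lift_eq t₀ hS'C r).symm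
  haveI : IsScalarTower S S' C := IsScalarTower.of_algebraMap_eq fun s => by
    rw [IsScalarTower.algebraMap_apply S S₀ S', ← IsScalarTower.algebraMap_apply S₀ S' C,
      ← IsScalarTower.algebraMap_apply S S₀ C]
  haveI : IsScalarTower R3 S' C := IsScalarTower.of_algebraMap_eq' (IsLocalization.ringHom_ext (Submonoid.powers t)
    (RingHom.ext fun r => by
      show algebraMap R3 C (algebraMap A R3 r) = algebraMap S' C (algebraMap R3 S' (algebraMap A R3 r))
      rw [← IsScalarTower.algebraMap_apply A R3 C, ← IsScalarTower.algebraMap_apply A R3 S',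
        IsScalarTower.algebraMap_apply A S₀ S', ← IsScalarTower.algebraMap_apply S₀ S' C,
        ← IsScalarTower.algebraMap_apply A S₀ C]))
  have hx0' : (x'.comap (algebraMap S' C)).comap (algebraMap S₀ S') = x₀ := by
    rw [Ideal.comap_comap, ← IsScalarTower.algebraMap_eq S₀ S' C, hcx]
  refine ⟨C, inferInstance, inferInstance, inferInstance, inferInstance, x', inferInstance, ?_, ⟨?_⟩, ⟨?_⟩, ?_⟩
  · haveI : IsOpenImmersion (Spec.map (CommRingCat.ofHom (algebraMap S₀ S'))) := IsOpenImmersion.of_isLocalization t₀
    haveI : IsOpenImmersion (Spec.map (CommRingCat.ofHom (algebraMap S' C)) ≫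
        Spec.map (CommRingCat.ofHom (algebraMap S₀ S'))) := by
      rw [← Spec.map_comp, ← CommRingCat.ofHom_comp, ← IsScalarTower.algebraMap_eq S₀ S' C]
      exact IsOpenImmersion.of_isLocalization (t₀ * h)
    exact IsOpenImmersion.of_comp _ (Spec.map (CommRingCat.ofHom (algebraMap S₀ S')))
  · show q = (x'.comap (algebraMap S' C)).comap (algebraMap S S')
    rw [IsScalarTower.algebraMap_eq S S₀ S', ← Ideal.comap_comap, hx0', Ideal.comap_comap,
      ← IsScalarTower.algebraMap_eq S S₀ B]
    obtain ⟨ho, -⟩ := hqB.2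
    exact ho.over
  · show p3 = (x'.comap (algebraMap S' C)).comap (algebraMap R3 S')
    rw [← IsLocalization.map_under (Submonoid.powers t) R3 ((x'.comap (algebraMap S' C)).comap (algebraMap R3 S'))]
    refine congrArg (Ideal.map (algebraMap A R3)) ?_
    show pA = ((x'.comap (algebraMap S' C)).comap (algebraMap R3 S')).comap (algebraMap A R3)
    rw [Ideal.comap_comap (algebraMap A R3), ← IsScalarTower.algebraMap_eq A R3 S',
      IsScalarTower.algebraMap_eq A S₀ S', ← Ideal.comap_comap, hx0', Ideal.comap_comap,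
      ← IsScalarTower.algebraMap_eq A S₀ B]
    exact hBA.over
  · let eN : X ≃ₗ[C] C ⊗[S'] N' := (AlgebraTensorModule.cancelBaseChange S S' C C N).symm ≪≫ₗ
      AlgebraTensorModule.congr (LinearEquiv.refl C C) hf.equiv
    let eR : X ≃ₗ[R3] RestrictScalars R3 C (C ⊗[S'] N') :=
      { (eN.toAddEquiv.trans (RestrictScalars.addEquiv R3 C (C ⊗[S'] N')).symm) with
        map_smul' := fun a z => by
          show eN (a • z) = algebraMap R3 C a • eN z
          rw [← map_smul, algebraMap_smul] }
    exact Module.Projective.of_equiv eR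

end GrothLib.RGProj13
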