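import Groth.Agent.Lib.RGProj13.AfterEtale
import Groth.Agent.Lib.FibreFlat.OpenScheme
import Groth.Agent.Lib.EtaPt.SN

/-!
Étale charts on which a morphism flat at a point is projective.
-/

set_option autoImplicit false
set_option linter.style.haveILetI false
universe u

open TensorProduct AlgebraicGeometry CategoryTheory

namespace GrothLib.RGProj13

/-- A trivial residue field extension, read on spectra. -/
theorem surjective_residueFieldMap_of_bijective {A B : Type u} [CommRing A] [CommRing B] [Algebra A B]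
    (p : Ideal A) [p.IsPrime] (Q : PrimeSpectrum B) (h : p = Q.asIdeal.comap (algebraMap A B))
    (hb : Function.Bijective (Ideal.ResidueField.mapₐ p Q.asIdeal (Algebra.ofId A B) h)) :
    Function.Surjective ((Spec.map (CommRingCat.ofHom (algebraMap A B))).residueFieldMap Q) := by
  subst h
  have h := congrArg (fun m => (m.hom : _ → _)) (EtaPt.residueFieldMap_spec (algebraMap A B) Q)
  simp only [CommRingCat.hom_comp, RingHom.coe_comp, CommRingCat.hom_ofHom] at h
  have hi := ConcreteCategory.bijective_of_isIso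
    (Scheme.Spec.residueFieldIso (.of A) (PrimeSpectrum.comap (algebraMap A B) Q)).inv
  have hj := ConcreteCategory.bijective_of_isIso (Scheme.Spec.residueFieldIso (.of B) Q).inv
  have hs : Function.Surjective
      (Ideal.ResidueField.map (Q.asIdeal.comap (algebraMap A B)) Q.asIdeal (algebraMap A B) rfl) := hb.2
  exact ((Function.Surjective.of_comp_iff _ hi.2).symm.trans
    ((iff_of_eq (congrArg Function.Surjective h)).trans (Function.Surjective.of_comp_iff' hj _))).2 hs

/-- Residue field extensions of composites. -/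
theorem surjective_residueFieldMap_comp {X Y Z : Scheme.{u}} (a : X ⟶ Y) (b : Y ⟶ Z) (x : X)
    (ha : Function.Surjective (a.residueFieldMap x)) (hb : Function.Surjective (b.residueFieldMap (a x))) :
    Function.Surjective ((a ≫ b).residueFieldMap x) := by
  rw [Scheme.residueFieldMap_comp]
  exact ha.comp hb

/-- Residue field extensions at points of an affine open. -/
theorem surjective_residueFieldMap_preimmersion {X Y : Scheme.{u}} (b : X ⟶ Y) [IsPreimmersion b] (x : X) :
    Function.Surjective (b.residueFieldMap x) := fun t => by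
  obtain ⟨r, rfl⟩ := Scheme.residue_surjective _ x t
  obtain ⟨r', rfl⟩ := Scheme.Hom.stalkMap_surjective b x r
  exact ⟨Y.residue _ r', congrArg (fun φ => φ.hom r') (Scheme.residue_residueFieldMap b x)⟩

/-- Projectivity of an algebra moved along isomorphisms of both rings. -/
theorem projective_of_ringEquiv {A B A' B' : Type u} [CommRing A] [CommRing B] [CommRing A'] [CommRing B'] [Algebra A B]
    (eA : A ≃+* A') (eB : B ≃+* B') (φ : A' →+* B') (h : ∀ a, φ (eA a) = eB (algebraMap A B a))
    [hp : Module.Projective A B] : @Module.Projective A' _ B' _ φ.toAlgebra.toModule := by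
  letI := φ.toAlgebra
  letI : RingHomInvPair (eA : A →+* A') (eA.symm : A' →+* A) := RingHomInvPair.of_ringEquiv eA
  letI : RingHomInvPair (eA.symm : A' →+* A) (eA : A →+* A') := RingHomInvPair.of_ringEquiv eA.symm
  let e : B ≃ₛₗ[(eA : A →+* A')] B' :=
    { eB.toAddEquiv with
      map_smul' := fun a b => by
        show eB (a • b) = eA a • eB b
        rw [Algebra.smul_def, map_mul, Algebra.smul_def]
        exact congrArg (· * eB b) (h a).symm }
  exact Module.Projective.of_equiv e

/-- Étale charts on which a morphism flat at a point is projective. -/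
theorem exists_projective_chart {X S : Scheme.{u}} (f : X ⟶ S) [LocallyOfFinitePresentation f] (x : X)
    (hx : (f.stalkMap x).hom.Flat) :
    ∃ (X' S' : Scheme.{u}) (g : X' ⟶ X) (e : S' ⟶ S) (f' : X' ⟶ S') (x' : X'),
      IsAffine X' ∧ IsAffine S' ∧ Etale g ∧ Etale e ∧ g ≫ f = f' ≫ e ∧ g x' = x ∧ e (f' x') = f x ∧
      Function.Surjective (g.residueFieldMap x') ∧ Function.Surjective (e.residueFieldMap (f' x')) ∧
      @Module.Projective Γ(S', ⊤) _ Γ(X', ⊤) _ (f'.appTop).hom.toAlgebra.toModule := by
  obtain ⟨_, ⟨U, hU, rfl⟩, hxU, -⟩ :=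
    S.isBasis_affineOpens.exists_subset_of_mem_open (Set.mem_univ (f x)) isOpen_univ
  obtain ⟨_, ⟨V, hV, rfl⟩, hxV, hVU⟩ :=
    X.isBasis_affineOpens.exists_subset_of_mem_open hxU (U.2.preimage f.continuous)
  have hfp := f.finitePresentation_appLE hU hV hVU
  algebraize [(f.appLE U V hVU).hom]
  let p := (hU.primeIdealOf ⟨f x, hxU⟩).asIdeal
  let q := (hV.primeIdealOf ⟨x, hxV⟩).asIdeal
  haveI : q.LiesOver p := ⟨congr($(IsAffineOpen.comap_primeIdealOf_appLE U hU V hV hVU hxV).1).symm⟩
  have hflat : FlatCA.FlatAt Γ(S, U) q Γ(X, V) := by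
    letI := Localization.AtPrime.algebraOfLiesOver p q
    show Module.Flat Γ(S, U) (LocalizedModule q.primeCompl Γ(X, V))
    rw [← GrothLib.FibreFlat.flat_localRingHom_iff q p, ← RingHom.flat_algebraMap_iff]
    exact (RingHom.Flat.respectsIso.arrow_mk_iso_iff (IsAffineOpen.arrowStalkMapIso f U hU V hV hVU hxV)).mp hx
  obtain ⟨A, B, _, _, _, _, _, _, _, _, pA, qB, _, _, hpA, hqB, hBA, hproj⟩ :=
    exists_projective_after_etale (Γ(X, V)) p q hflat
  haveI : Algebra.Etale Γ(S, U) A := hpA.1
  haveI : Algebra.Etale Γ(X, V) B := hqB.1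
  let X' := Spec (CommRingCat.of B)
  let S' := Spec (CommRingCat.of A)
  let gB : X' ⟶ Spec Γ(X, V) := Spec.map (CommRingCat.ofHom (algebraMap Γ(X, V) B))
  let eA : S' ⟶ Spec Γ(S, U) := Spec.map (CommRingCat.ofHom (algebraMap Γ(S, U) A))
  let f' : X' ⟶ S' := Spec.map (CommRingCat.ofHom (algebraMap A B))
  let x' : X' := (⟨qB, inferInstance⟩ : PrimeSpectrum B)
  obtain ⟨hqo, hqb⟩ := hqB.2
  obtain ⟨hpo, hpb⟩ := hpA.2
  have hgx : gB x' = hV.primeIdealOf ⟨x, hxV⟩ := PrimeSpectrum.ext hqo.over.symm
  have hfx : f' x' = (⟨pA, inferInstance⟩ : PrimeSpectrum A) := PrimeSpectrum.ext hBA.over.symm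
  have hex : eA (f' x') = hU.primeIdealOf ⟨f x, hxU⟩ := by
    rw [hfx]
    exact PrimeSpectrum.ext hpo.over.symm
  haveI : IsOpenImmersion hV.fromSpec := hV.isOpenImmersion_fromSpec
  haveI : IsOpenImmersion hU.fromSpec := hU.isOpenImmersion_fromSpec
  haveI : Etale gB := by
    rw [HasRingHomProperty.Spec_iff (P := @Etale), CommRingCat.hom_ofHom, RingHom.etale_algebraMap]
    infer_instance
  haveI : Etale eA := by
    rw [HasRingHomProperty.Spec_iff (P := @Etale), CommRingCat.hom_ofHom, RingHom.etale_algebraMap]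
    infer_instance
  refine ⟨X', S', gB ≫ hV.fromSpec, eA ≫ hU.fromSpec, f', x', inferInstance, inferInstance, inferInstance, inferInstance,
    ?_, ?_, ?_, ?_, ?_, ?_⟩
  · rw [Category.assoc, ← IsAffineOpen.SpecMap_appLE_fromSpec f hU hV hVU, ← Category.assoc, ← Category.assoc]
    congr 1
    simp only [gB, eA, f']
    rw [← Spec.map_comp, ← Spec.map_comp]
    congr 1
    ext r
    exact (IsScalarTower.algebraMap_apply Γ(S, U) Γ(X, V) B r).symm.trans (IsScalarTower.algebraMap_apply Γ(S, U) A B r)
  · show hV.fromSpec (gB x') = x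
    rw [hgx]
    exact hV.fromSpec_primeIdealOf ⟨x, hxV⟩
  · show hU.fromSpec (eA (f' x')) = f x
    rw [hex]
    exact hU.fromSpec_primeIdealOf ⟨f x, hxU⟩
  · exact surjective_residueFieldMap_comp gB hV.fromSpec x'
      (surjective_residueFieldMap_of_bijective q ⟨qB, inferInstance⟩ hqo.over hqb)
      (surjective_residueFieldMap_preimmersion _ _)
  · rw [hfx]
    exact surjective_residueFieldMap_comp eA hU.fromSpec _
      (surjective_residueFieldMap_of_bijective p ⟨pA, inferInstance⟩ hpo.over hpb)
      (surjective_residueFieldMap_preimmersion _ _)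
  · haveI : Module.Projective A B := by
      haveI := hproj
      let eM : RestrictScalars A B (B ⊗[Γ(X, V)] Γ(X, V)) ≃ₗ[A] B :=
        { ((RestrictScalars.addEquiv A B (B ⊗[Γ(X, V)] Γ(X, V))).trans
            (AlgebraTensorModule.rid Γ(X, V) B B).toAddEquiv) with
          map_smul' := fun a z => by
            show AlgebraTensorModule.rid Γ(X, V) B B (algebraMap A B a • RestrictScalars.addEquiv A B _ z) = a • _
            rw [map_smul, algebraMap_smul]
            rfl }
      exact Module.Projective.of_equiv eM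
    exact projective_of_ringEquiv (A := A) (B := B) (Scheme.ΓSpecIso (CommRingCat.of A)).symm.commRingCatIsoToRingEquiv
      (Scheme.ΓSpecIso (CommRingCat.of B)).symm.commRingCatIsoToRingEquiv f'.appTop.hom fun a =>
      (ConcreteCategory.congr_hom (Scheme.ΓSpecIso_inv_naturality (CommRingCat.ofHom (algebraMap A B))) a).symm

end GrothLib.RGProj13
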